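import Mathlib

/-! Recognition of groups acting on the projective line over a prime field: the functional equation. -/

set_option autoImplicit false
set_option linter.style.haveILetI false

namespace Cfsg.Agent.H17.Mob

open OnePoint

variable {p : ℕ} [hp : Fact p.Prime]

/-- A group acting on the projective line, whose point stabilizer is a group of affine maps. -/
structure AffAct (m : ℕ) {X : Type*} [Group X] (ρ : X →* Equiv.Perm (OnePoint (ZMod p))) : Prop where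
  tr : ∀ c : ZMod p, ∃ u : X, ρ u ∞ = ∞ ∧ ∀ s : ZMod p, ρ u (s : OnePoint (ZMod p)) = ((s + c : ZMod p) : OnePoint (ZMod p))
  aff : ∀ g : X, ρ g ∞ = ∞ → ∃ l b : ZMod p, l ≠ 0 ∧ l ^ m = 1 ∧
    ∀ s : ZMod p, ρ g (s : OnePoint (ZMod p)) = ((l * s + b : ZMod p) : OnePoint (ZMod p))
  scal : ∀ l : ZMod p, l ^ m = 1 → ∃ g : X, ρ g ∞ = ∞ ∧
    ∀ s : ZMod p, ρ g (s : OnePoint (ZMod p)) = ((l * s : ZMod p) : OnePoint (ZMod p))
  swap : ∃ μ : X, ρ μ ∞ = ((0 : ZMod p) : OnePoint (ZMod p)) ∧ ρ μ ((0 : ZMod p) : OnePoint (ZMod p)) = ∞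

variable {m : ℕ} {X : Type*} [Group X] {ρ : X →* Equiv.Perm (OnePoint (ZMod p))}

/-- A swap of the two points `∞`, `0` and the induced map on the other points. -/
structure SwapData (ρ : X →* Equiv.Perm (OnePoint (ZMod p))) (μ : X) (ι : ZMod p → ZMod p) : Prop where
  inf : ρ μ ∞ = ((0 : ZMod p) : OnePoint (ZMod p))
  zero : ρ μ ((0 : ZMod p) : OnePoint (ZMod p)) = ∞
  ne : ∀ x : ZMod p, x ≠ 0 → ι x ≠ 0
  act : ∀ x : ZMod p, x ≠ 0 → ρ μ (x : OnePoint (ZMod p)) = (ι x : OnePoint (ZMod p))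

lemma exists_swapData (μ : X) (h1 : ρ μ ∞ = ((0 : ZMod p) : OnePoint (ZMod p)))
    (h2 : ρ μ ((0 : ZMod p) : OnePoint (ZMod p)) = ∞) : ∃ ι, SwapData ρ μ ι := by
  have key : ∀ x : ZMod p, x ≠ 0 → ∃ y : ZMod p, y ≠ 0 ∧ ρ μ (x : OnePoint (ZMod p)) = (y : OnePoint (ZMod p)) := by
    intro x hx
    have hne : ρ μ (x : OnePoint (ZMod p)) ≠ ∞ := by
      intro h
      rw [← h2] at h
      have := (ρ μ).injective h
      exact hx (OnePoint.coe_injective this)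
    obtain ⟨y, hy⟩ := OnePoint.ne_infty_iff_exists.mp hne
    refine ⟨y, ?_, hy.symm⟩
    rintro rfl
    rw [← h1] at hy
    have := (ρ μ).injective hy
    exact OnePoint.coe_ne_infty x this.symm
  choose! ι hι using key
  exact ⟨ι, h1, h2, fun x hx => (hι x hx).1, fun x hx => (hι x hx).2⟩

namespace SwapData

variable {μ : X} {ι : ZMod p → ZMod p}

lemma inj (D : SwapData ρ μ ι) {x y : ZMod p} (hx : x ≠ 0) (hy : y ≠ 0) (h : ι x = ι y) : x = y := by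
  have : ρ μ (x : OnePoint (ZMod p)) = ρ μ (y : OnePoint (ZMod p)) := by rw [D.act x hx, D.act y hy, h]
  exact OnePoint.coe_injective ((ρ μ).injective this)

lemma inv_inf (D : SwapData ρ μ ι) : ρ μ⁻¹ ∞ = ((0 : ZMod p) : OnePoint (ZMod p)) := by
  rw [map_inv, Equiv.Perm.inv_eq_iff_eq]
  exact D.zero.symm

lemma inv_zero (D : SwapData ρ μ ι) : ρ μ⁻¹ ((0 : ZMod p) : OnePoint (ZMod p)) = ∞ := by
  rw [map_inv, Equiv.Perm.inv_eq_iff_eq]
  exact D.inf.symm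

lemma inv_act (D : SwapData ρ μ ι) (x : ZMod p) (hx : x ≠ 0) : ρ μ⁻¹ (ι x : OnePoint (ZMod p)) = (x : OnePoint (ZMod p)) := by
  rw [map_inv, Equiv.Perm.inv_eq_iff_eq]
  exact (D.act x hx).symm

/-- the functional equation -/
theorem star (h : AffAct m ρ) (D : SwapData ρ μ ι) (d : ZMod p) (hd : d ≠ 0) :
    ∃ l : ZMod p, l ^ m = 1 ∧ l ≠ 0 ∧ ∀ z, z ≠ 0 → z + d ≠ 0 →
      ι (z + d) - ι d = ι (l * (ι z - ι (-d))) := by
  obtain ⟨U, hU0, hU⟩ := h.tr (-(ι d))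
  obtain ⟨V, hV0, hV⟩ := h.tr d
  obtain ⟨W, hW0, hW⟩ := h.tr (ι (-d))
  have hmd : -d ≠ 0 := neg_ne_zero.mpr hd
  have hn : ∀ x, ρ (U * μ * V * μ⁻¹ * W) x = ρ U (ρ μ (ρ V (ρ μ⁻¹ (ρ W x)))) := by
    intro x
    simp only [map_mul, Equiv.Perm.mul_apply]
  have n0 : ρ (U * μ * V * μ⁻¹ * W) ∞ = ((0 : ZMod p) : OnePoint (ZMod p)) := by
    rw [hn, hW0, D.inv_inf, hV, zero_add, D.act d hd, hU, add_neg_cancel]
  have n1 : ρ (U * μ * V * μ⁻¹ * W) ((0 : ZMod p) : OnePoint (ZMod p)) = ∞ := by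
    rw [hn, hW, zero_add, D.inv_act _ hmd, hV, neg_add_cancel, D.zero, hU0]
  have hg : ρ (μ⁻¹ * (U * μ * V * μ⁻¹ * W)) ∞ = ∞ := by
    rw [map_mul, Equiv.Perm.mul_apply, n0, D.inv_zero]
  obtain ⟨l, b, hl0, hlm, hl⟩ := h.aff _ hg
  have hb : b = 0 := by
    have h0 := hl 0
    rw [map_mul, Equiv.Perm.mul_apply, n1, D.inv_inf, mul_zero, zero_add] at h0
    exact (OnePoint.coe_injective h0).symm
  subst hb
  refine ⟨l, hlm, hl0, fun z hz hzd => ?_⟩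
  have hz' : ι z ≠ ι (-d) := by
    intro e
    have := D.inj hz hmd e
    apply hzd
    rw [this, neg_add_cancel]
  have hx : ι z - ι (-d) ≠ 0 := sub_ne_zero.mpr hz'
  have e1 : ρ (U * μ * V * μ⁻¹ * W) ((ι z - ι (-d) : ZMod p) : OnePoint (ZMod p)) =
      ((ι (z + d) - ι d : ZMod p) : OnePoint (ZMod p)) := by
    rw [hn, hW, sub_add_cancel, D.inv_act z hz, hV, D.act _ hzd, hU, sub_eq_add_neg]
  have e2 : ρ (U * μ * V * μ⁻¹ * W) ((ι z - ι (-d) : ZMod p) : OnePoint (ZMod p)) =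
      ((ι (l * (ι z - ι (-d))) : ZMod p) : OnePoint (ZMod p)) := by
    have e3 := hl (ι z - ι (-d))
    rw [add_zero, map_mul, Equiv.Perm.mul_apply, map_inv, Equiv.Perm.inv_eq_iff_eq] at e3
    rw [e3, D.act _ (mul_ne_zero hl0 hx)]
  exact OnePoint.coe_injective (e1.symm.trans e2)

/-- equivariance -/
theorem equivariant (h : AffAct m ρ) (D : SwapData ρ μ ι) (g₀ : ZMod p) (hg₀ : g₀ ^ m = 1) (hg0 : g₀ ≠ 0) :
    ∃ c : ZMod p, c ^ m = 1 ∧ c ≠ 0 ∧ ∀ x, x ≠ 0 → ι (g₀ * x) = c * ι x := by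
  obtain ⟨M, hM0, hM⟩ := h.scal g₀ hg₀
  have hn : ∀ x, ρ (μ * M * μ⁻¹) x = ρ μ (ρ M (ρ μ⁻¹ x)) := by
    intro x
    simp only [map_mul, Equiv.Perm.mul_apply]
  have h0 : ρ (μ * M * μ⁻¹) ∞ = ∞ := by
    rw [hn, D.inv_inf, hM, mul_zero, D.zero]
  obtain ⟨c, b, hc0, hcm, hc⟩ := h.aff _ h0
  have hb : b = 0 := by
    have h1 := hc 0
    rw [hn, D.inv_zero, hM0, D.inf, mul_zero, zero_add] at h1
    exact (OnePoint.coe_injective h1).symm
  subst hb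
  refine ⟨c, hcm, hc0, fun x hx => ?_⟩
  have e := hc (ι x)
  rw [hn, D.inv_act x hx, hM, D.act _ (mul_ne_zero hg0 hx), add_zero] at e
  exact OnePoint.coe_injective e

end SwapData

end Cfsg.Agent.H17.Mob
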