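import Mathlib

/-! Finite check of the functional equation (Boolean, with soundness). -/

set_option autoImplicit false
set_option linter.style.haveILetI false

namespace Cfsg.Agent.H17.Mob

/-- values of the candidate map from the two parameters, with the discrete logarithms `L`. -/
def tbl (p : ℕ) (L : List (Bool × ℕ)) (c a b : ℕ) : List ℕ :=
  L.map fun e => (c ^ e.2 * (if e.1 then a else b)) % p

def starB (p : ℕ) (roots T : List ℕ) : Bool :=
  (List.range p).all fun d => d == 0 || roots.any fun l => (List.range p).all fun z =>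
    z == 0 || z + d == p ||
      ((T.getD ((z + d) % p) 0 + p - T.getD d 0) % p ==
        T.getD ((l * (T.getD z 0 + p - T.getD (p - d) 0)) % p) 0)

def goodB (p m : ℕ) (T : List ℕ) : Bool :=
  (List.range p).all (fun x => x == 0 || (x * T.getD x 0) % p == T.getD 1 0) &&
    ((p - T.getD 1 0) ^ m % p == 1)

def chkB (p m : ℕ) (cs roots : List ℕ) (L : List (Bool × ℕ)) : Bool :=
  cs.all fun c => (List.range p).all fun a => a == 0 || (List.range p).all fun b => b == 0 ||
    !starB p roots (tbl p L c a b) || goodB p m (tbl p L c a b)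

def logB (p g₀ n : ℕ) (L : List (Bool × ℕ)) : Bool :=
  (List.range p).all fun x => x == 0 ||
    (g₀ ^ (L.getD x (true, 0)).2 * (if (L.getD x (true, 0)).1 then 1 else n)) % p == x

lemma tbl_get (p : ℕ) (L : List (Bool × ℕ)) (c a b x : ℕ) (hx : x < L.length) :
    (tbl p L c a b).getD x 0 =
      (c ^ (L.getD x (true, 0)).2 * (if (L.getD x (true, 0)).1 then a else b)) % p := by
  unfold tbl
  have h2 : x < (L.map fun e => (c ^ e.2 * (if e.1 then a else b)) % p).length := by simpa using hx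
  rw [List.getD_eq_getElem _ _ h2, List.getD_eq_getElem _ _ hx, List.getElem_map]

variable {p : ℕ} [hp : Fact p.Prime]

lemma iter (ι : ZMod p → ZMod p) (g c : ZMod p) (hg : g ≠ 0)
    (h : ∀ x, x ≠ 0 → ι (g * x) = c * ι x) (j : ℕ) (r : ZMod p) (hr : r ≠ 0) :
    ι (g ^ j * r) = c ^ j * ι r := by
  induction j with
  | zero => simp
  | succ j ih =>
    have h0 : g ^ j * r ≠ 0 := mul_ne_zero (pow_ne_zero _ hg) hr
    rw [pow_succ', mul_assoc, h _ h0, ih, pow_succ', mul_assoc]

lemma val_cast_eq {x : ZMod p} {n : ℕ} (h : (n : ZMod p) = x) : n % p = x.val := by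
  rw [← h, ZMod.val_natCast]

lemma cast_val_ne {x : ZMod p} (h : x ≠ 0) : x.val ≠ 0 := by
  intro h2
  apply h
  rwa [ZMod.val_eq_zero] at h2

lemma cast_ne_zero_of {x : ℕ} (h0 : x ≠ 0) (h1 : x < p) : (x : ZMod p) ≠ 0 := by
  intro h
  rw [ZMod.natCast_eq_zero_iff] at h
  exact h0 (Nat.eq_zero_of_dvd_of_lt h h1)

theorem chk_sound (m g₀ n : ℕ) (cs roots : List ℕ) (L : List (Bool × ℕ))
    (hL : logB p g₀ n L = true) (hlen : L.length = p) (hchk : chkB p m cs roots L = true)
    (ι : ZMod p → ZMod p) (c : ZMod p) (hne : ∀ x : ZMod p, x ≠ 0 → ι x ≠ 0)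
    (hinj : ∀ x y : ZMod p, x ≠ 0 → y ≠ 0 → ι x = ι y → x = y)
    (hc : c.val ∈ cs) (hg0 : (g₀ : ZMod p) ≠ 0) (hn0 : (n : ZMod p) ≠ 0)
    (hE : ∀ x : ZMod p, x ≠ 0 → ι ((g₀ : ZMod p) * x) = c * ι x)
    (hstar : ∀ d : ZMod p, d ≠ 0 → ∃ l : ZMod p, l.val ∈ roots ∧ l ≠ 0 ∧ ∀ z : ZMod p, z ≠ 0 → z + d ≠ 0 →
      ι (z + d) - ι d = ι (l * (ι z - ι (-d)))) :
    ∃ κ : ZMod p, κ ≠ 0 ∧ (-κ) ^ m = 1 ∧ ∀ x : ZMod p, x ≠ 0 → x * ι x = κ := by
  have hp1 : 1 < p := hp.out.one_lt
  have h10 : (1 : ZMod p) ≠ 0 := one_ne_zero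
  set a := (ι 1).val with ha
  set b := (ι (n : ZMod p)).val with hb
  set T := tbl p L c.val a b with hT
  -- the table
  have hTval : ∀ x : ℕ, x ≠ 0 → x < p → T.getD x 0 = (ι (x : ZMod p)).val := by
    intro x hx0 hxp
    rw [hT, tbl_get _ _ _ _ _ _ (by omega)]
    have hl := List.all_eq_true.mp hL x (List.mem_range.mpr hxp)
    simp only [Bool.or_eq_true, beq_iff_eq] at hl
    rcases hl with hl | hl
    · exact absurd hl hx0
    apply val_cast_eq
    set e := L.getD x (true, 0) with he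
    have hcast : (x : ZMod p) = (g₀ : ZMod p) ^ e.2 * (if e.1 then 1 else (n : ZMod p)) := by
      conv_lhs => rw [← hl]
      rw [ZMod.natCast_mod]
      push_cast
      split_ifs <;> simp
    rw [hcast]
    by_cases he1 : e.1 = true
    · rw [if_pos he1, if_pos he1]
      rw [iter ι _ c hg0 hE _ _ h10]
      push_cast
      rw [ha, ZMod.natCast_val, ZMod.cast_id', id, ZMod.natCast_val, ZMod.cast_id', id]
    · rw [if_neg he1, if_neg he1]
      rw [iter ι _ c hg0 hE _ _ hn0]
      push_cast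
      rw [hb, ZMod.natCast_val, ZMod.cast_id', id, ZMod.natCast_val, ZMod.cast_id', id]
  have hlt : ∀ x : ℕ, x ≠ 0 → x < p → T.getD x 0 < p := by
    intro x hx0 hxp
    rw [hTval x hx0 hxp]
    exact ZMod.val_lt _
  have hcastT : ∀ x : ℕ, x ≠ 0 → x < p → ((T.getD x 0 : ℕ) : ZMod p) = ι (x : ZMod p) := by
    intro x hx0 hxp
    rw [hTval x hx0 hxp, ZMod.natCast_val, ZMod.cast_id', id]
  -- star
  have hS : starB p roots T = true := by
    unfold starB
    rw [List.all_eq_true]
    intro d hd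
    have hdp := List.mem_range.mp hd
    simp only [Bool.or_eq_true, beq_iff_eq, List.any_eq_true, List.all_eq_true]
    by_cases hd0 : d = 0
    · exact Or.inl hd0
    right
    have hdd := cast_ne_zero_of hd0 hdp
    obtain ⟨l, hl, hl0, hlz⟩ := hstar _ hdd
    refine ⟨l.val, hl, fun z hz => ?_⟩
    have hzp := List.mem_range.mp hz
    by_cases hz0 : z = 0
    · exact Or.inl (Or.inl hz0)
    by_cases hzd : z + d = p
    · exact Or.inl (Or.inr hzd)
    right
    have hzz := cast_ne_zero_of hz0 hzp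
    -- the point z + d
    have hw0 : (z + d) % p ≠ 0 := by
      intro h
      have h1 := Nat.dvd_of_mod_eq_zero h
      obtain ⟨k, hk⟩ := h1
      have hk1 : k ≠ 0 := by
        rintro rfl
        omega
      have hk2 : k < 2 := by
        by_contra hcon
        have : p * 2 ≤ p * k := Nat.mul_le_mul_left _ (by omega)
        omega
      have hk3 : k = 1 := by omega
      subst hk3
      omega
    have hwp : (z + d) % p < p := Nat.mod_lt _ hp.out.pos
    have hwc : (((z + d) % p : ℕ) : ZMod p) = (z : ZMod p) + d := by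
      rw [ZMod.natCast_mod]
      push_cast
      rfl
    have hzdd : (z : ZMod p) + d ≠ 0 := by
      rw [← hwc]
      exact cast_ne_zero_of hw0 hwp
    have hmd0 : p - d ≠ 0 := by omega
    have hmdp : p - d < p := by omega
    have hmdc : ((p - d : ℕ) : ZMod p) = -(d : ZMod p) := by
      rw [Nat.cast_sub hdp.le, ZMod.natCast_self, zero_sub]
    -- the argument
    have hdm : (d : ZMod p) ≠ 0 := hdd
    have hTmd : T.getD (p - d) 0 < p := hlt _ hmd0 hmdp
    have harg : (((T.getD z 0 + p - T.getD (p - d) 0 : ℕ)) : ZMod p) = ι z - ι (-(d : ZMod p)) := by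
      rw [Nat.cast_sub (by omega)]
      push_cast
      rw [hcastT z hz0 hzp, hcastT _ hmd0 hmdp, hmdc, ZMod.natCast_self, add_zero]
    have hrc : (((l.val * (T.getD z 0 + p - T.getD (p - d) 0)) % p : ℕ) : ZMod p) =
        l * (ι z - ι (-(d : ZMod p))) := by
      rw [ZMod.natCast_mod, Nat.cast_mul, harg, ZMod.natCast_val, ZMod.cast_id', id]
    have hne2 : ι (z : ZMod p) ≠ ι (-(d : ZMod p)) := by
      intro e
      have := hinj _ _ hzz (neg_ne_zero.mpr hdd) e
      apply hzdd
      rw [this, neg_add_cancel]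
    have hx : ι (z : ZMod p) - ι (-(d : ZMod p)) ≠ 0 := sub_ne_zero.mpr hne2
    have hr0 : (l.val * (T.getD z 0 + p - T.getD (p - d) 0)) % p ≠ 0 := by
      intro h
      have h2 := hrc
      rw [h] at h2
      simp only [Nat.cast_zero] at h2
      exact mul_ne_zero hl0 hx h2.symm
    have hrp : (l.val * (T.getD z 0 + p - T.getD (p - d) 0)) % p < p := Nat.mod_lt _ hp.out.pos
    rw [hTval _ hr0 hrp, hrc, ← hlz _ hzz hzdd]
    apply val_cast_eq
    have hTd : T.getD d 0 < p := hlt _ hd0 hdp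
    rw [Nat.cast_sub (by omega)]
    push_cast
    rw [hcastT _ hw0 hwp, hwc, hcastT d hd0 hdp, ZMod.natCast_self, add_zero]
  -- good
  have hG : goodB p m T = true := by
    have h1 := List.all_eq_true.mp hchk _ hc
    have h2 := List.all_eq_true.mp h1 a (List.mem_range.mpr (ZMod.val_lt _))
    simp only [Bool.or_eq_true, beq_iff_eq] at h2
    rcases h2 with h2 | h2
    · exact absurd h2 (cast_val_ne (hne 1 h10))
    have h3 := List.all_eq_true.mp h2 b (List.mem_range.mpr (ZMod.val_lt _))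
    simp only [Bool.or_eq_true, beq_iff_eq] at h3
    rcases h3 with (h3 | h3) | h3
    · exact absurd h3 (cast_val_ne (hne _ hn0))
    · rw [← hT] at h3
      simp [hS] at h3
    · rw [← hT] at h3
      exact h3
  unfold goodB at hG
  rw [Bool.and_eq_true, beq_iff_eq] at hG
  obtain ⟨hG1, hG2⟩ := hG
  have hT1 : T.getD 1 0 = a := by
    have := hTval 1 one_ne_zero hp1
    rw [this]
    simp [ha]
  refine ⟨ι 1, hne 1 h10, ?_, ?_⟩
  · rw [hT1] at hG2
    have h1 : (((p - a) ^ m % p : ℕ) : ZMod p) = (1 : ℕ) := by rw [hG2]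
    rw [ZMod.natCast_mod] at h1
    push_cast at h1
    have ha' : a ≤ p := (ZMod.val_lt _).le
    rw [Nat.cast_sub ha', ZMod.natCast_self, zero_sub, ha, ZMod.natCast_val, ZMod.cast_id', id] at h1
    exact h1
  · intro x hx
    have hx0 : x.val ≠ 0 := cast_val_ne hx
    have hxp : x.val < p := ZMod.val_lt _
    have h1 := List.all_eq_true.mp hG1 x.val (List.mem_range.mpr hxp)
    simp only [Bool.or_eq_true, beq_iff_eq] at h1
    rcases h1 with h1 | h1
    · exact absurd h1 hx0
    have h2 : (((x.val * T.getD x.val 0) % p : ℕ) : ZMod p) = ((T.getD 1 0 : ℕ) : ZMod p) := by rw [h1]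
    rw [ZMod.natCast_mod] at h2
    push_cast at h2
    rw [hcastT _ hx0 hxp, ZMod.natCast_val, ZMod.cast_id', id, hT1, ha, ZMod.natCast_val, ZMod.cast_id', id] at h2
    exact h2

end Cfsg.Agent.H17.Mob
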