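import Mathlib
import Cfsg.Agent.Lib.H17.Mob1
import Cfsg.Agent.Lib.Lead.CardSL

/-! The group of Moebius maps, as permutations of the projective line. -/

set_option autoImplicit false
set_option linter.style.haveILetI false

namespace Cfsg.Agent.H17.Mob

open OnePoint Matrix
open scoped MatrixGroups

section Perm

variable {K : Type*} [Field K] [DecidableEq K]

/-- the action of `GL₂` on the projective line -/
def glPerm (K : Type*) [Field K] [DecidableEq K] : GL (Fin 2) K →* Equiv.Perm (OnePoint K) :=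
  MulAction.toPermHom (GL (Fin 2) K) (OnePoint K)

/-- the action of `SL₂` on the projective line -/
def slPerm (K : Type*) [Field K] [DecidableEq K] : SpecialLinearGroup (Fin 2) K →* Equiv.Perm (OnePoint K) :=
  (glPerm K).comp Matrix.SpecialLinearGroup.toGL

lemma slPerm_infty (A : SpecialLinearGroup (Fin 2) K) :
    slPerm K A ∞ = if A.1 1 0 = 0 then ∞ else ((A.1 0 0 / A.1 1 0 : K) : OnePoint K) :=
  OnePoint.smul_infty_eq_ite (Matrix.SpecialLinearGroup.toGL A)

lemma slPerm_coe (A : SpecialLinearGroup (Fin 2) K) (k : K) :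
    slPerm K A (k : OnePoint K) = if A.1 1 0 * k + A.1 1 1 = 0 then ∞ else
      (((A.1 0 0 * k + A.1 0 1) / (A.1 1 0 * k + A.1 1 1) : K) : OnePoint K) :=
  OnePoint.smul_some_eq_ite (g := Matrix.SpecialLinearGroup.toGL A)

lemma glPerm_infty (A : GL (Fin 2) K) :
    glPerm K A ∞ = if A.1 1 0 = 0 then ∞ else ((A.1 0 0 / A.1 1 0 : K) : OnePoint K) :=
  OnePoint.smul_infty_eq_ite A

lemma glPerm_coe (A : GL (Fin 2) K) (k : K) :
    glPerm K A (k : OnePoint K) = if A.1 1 0 * k + A.1 1 1 = 0 then ∞ else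
      (((A.1 0 0 * k + A.1 0 1) / (A.1 1 0 * k + A.1 1 1) : K) : OnePoint K) :=
  OnePoint.smul_some_eq_ite (g := A)

/-- upper triangular -/
def slUp (a b : K) (ha : a ≠ 0) : SpecialLinearGroup (Fin 2) K :=
  ⟨!![a, b; 0, a⁻¹], by simp [det_fin_two, ha]⟩

/-- antidiagonal -/
def slAnti (b : K) (hb : b ≠ 0) : SpecialLinearGroup (Fin 2) K :=
  ⟨!![0, b; -b⁻¹, 0], by simp [det_fin_two, hb]⟩

lemma slPerm_up (a β : K) (ha : a ≠ 0) : slPerm K (slUp a (β / a) ha) ∞ = ∞ := by
  rw [slPerm_infty]
  simp [slUp]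

lemma slPerm_up_coe (a β k : K) (ha : a ≠ 0) :
    slPerm K (slUp a (β / a) ha) (k : OnePoint K) = ((a ^ 2 * k + β : K) : OnePoint K) := by
  rw [slPerm_coe]
  have h : (slUp a (β / a) ha).1 1 0 * k + (slUp a (β / a) ha).1 1 1 = a⁻¹ := by simp [slUp]
  rw [h, if_neg (inv_ne_zero ha)]
  congr 1
  simp [slUp]
  field_simp

lemma slPerm_anti (b : K) (hb : b ≠ 0) : slPerm K (slAnti b hb) ∞ = ((0 : K) : OnePoint K) := by
  rw [slPerm_infty]
  simp [slAnti, hb]

lemma slPerm_anti_zero (b : K) (hb : b ≠ 0) : slPerm K (slAnti b hb) ((0 : K) : OnePoint K) = ∞ := by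
  rw [slPerm_coe]
  simp [slAnti]

lemma slPerm_anti_coe (b k : K) (hb : b ≠ 0) (hk : k ≠ 0) :
    slPerm K (slAnti b hb) (k : OnePoint K) = ((-b ^ 2 / k : K) : OnePoint K) := by
  rw [slPerm_coe]
  have h : (slAnti b hb).1 1 0 * k + (slAnti b hb).1 1 1 = -b⁻¹ * k := by simp [slAnti]
  rw [h, if_neg (mul_ne_zero (neg_ne_zero.mpr (inv_ne_zero hb)) hk)]
  congr 1
  simp [slAnti]
  field_simp

/-- the kernel of the action -/
lemma slPerm_ker : (slPerm K).ker = Subgroup.center (SpecialLinearGroup (Fin 2) K) := by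
  ext A
  rw [MonoidHom.mem_ker, Matrix.SpecialLinearGroup.mem_center_iff]
  constructor
  · intro h
    have h1 : slPerm K A ∞ = ∞ := by rw [h]; rfl
    have h2 : slPerm K A ((0 : K) : OnePoint K) = ((0 : K) : OnePoint K) := by rw [h]; rfl
    have h3 : slPerm K A ((1 : K) : OnePoint K) = ((1 : K) : OnePoint K) := by rw [h]; rfl
    rw [slPerm_infty] at h1
    have hc : A.1 1 0 = 0 := by
      by_contra hcon
      rw [if_neg hcon] at h1
      exact OnePoint.coe_ne_infty _ h1
    rw [slPerm_coe] at h2 h3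
    simp only [hc, zero_mul, zero_add, mul_zero, mul_one, add_zero] at h2 h3
    have hd : A.1 1 1 ≠ 0 := by
      intro hd
      rw [if_pos hd] at h2
      exact OnePoint.infty_ne_coe _ h2
    rw [if_neg hd] at h2 h3
    have e2 := OnePoint.coe_injective h2
    have e3 := OnePoint.coe_injective h3
    rw [div_eq_zero_iff] at e2
    have hb : A.1 0 1 = 0 := e2.resolve_right hd
    rw [hb, add_zero, div_eq_one_iff_eq hd] at e3
    have hdet := A.2
    rw [det_fin_two, hb, hc, zero_mul, sub_zero, e3] at hdet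
    refine ⟨A.1 1 1, ?_, ?_⟩
    · rw [Fintype.card_fin]
      rw [pow_two]
      exact hdet
    · ext i j
      fin_cases i <;> fin_cases j <;> simp [e3, hb, hc]
  · rintro ⟨r, hr, hA⟩
    rw [Fintype.card_fin] at hr
    have hr0 : r ≠ 0 := by
      rintro rfl
      simp at hr
    have e00 : A.1 0 0 = r := by rw [← hA]; simp
    have e01 : A.1 0 1 = 0 := by rw [← hA]; simp
    have e10 : A.1 1 0 = 0 := by rw [← hA]; simp
    have e11 : A.1 1 1 = r := by rw [← hA]; simp
    ext x
    induction x using OnePoint.rec with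
    | infty => rw [slPerm_infty, if_pos e10]; rfl
    | coe k =>
      rw [slPerm_coe, e00, e01, e10, e11]
      simp only [zero_mul, zero_add, add_zero]
      rw [if_neg hr0, mul_div_cancel_left₀ _ hr0]
      rfl

/-- the kernel of the action -/
lemma glPerm_ker : (glPerm K).ker = Subgroup.center (GL (Fin 2) K) := by
  ext A
  rw [MonoidHom.mem_ker, Matrix.GeneralLinearGroup.mem_center_iff_val_mem_range_scalar]
  constructor
  · intro h
    have h1 : glPerm K A ∞ = ∞ := by rw [h]; rfl
    have h2 : glPerm K A ((0 : K) : OnePoint K) = ((0 : K) : OnePoint K) := by rw [h]; rfl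
    have h3 : glPerm K A ((1 : K) : OnePoint K) = ((1 : K) : OnePoint K) := by rw [h]; rfl
    rw [glPerm_infty] at h1
    have hc : A.1 1 0 = 0 := by
      by_contra hcon
      rw [if_neg hcon] at h1
      exact OnePoint.coe_ne_infty _ h1
    rw [glPerm_coe] at h2 h3
    simp only [hc, zero_mul, zero_add, mul_zero, mul_one, add_zero] at h2 h3
    have hd : A.1 1 1 ≠ 0 := by
      intro hd
      rw [if_pos hd] at h2
      exact OnePoint.infty_ne_coe _ h2
    rw [if_neg hd] at h2 h3
    have e2 := OnePoint.coe_injective h2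
    have e3 := OnePoint.coe_injective h3
    rw [div_eq_zero_iff] at e2
    have hb : A.1 0 1 = 0 := e2.resolve_right hd
    rw [hb, add_zero, div_eq_one_iff_eq hd] at e3
    refine ⟨A.1 1 1, ?_⟩
    ext i j
    fin_cases i <;> fin_cases j <;> simp [e3, hb, hc]
  · rintro ⟨r, hA⟩
    have hA' : (A : Matrix (Fin 2) (Fin 2) K) = scalar (Fin 2) r := by
      exact hA.symm
    have e00 : A.1 0 0 = r := by rw [hA']; simp
    have e01 : A.1 0 1 = 0 := by rw [hA']; simp
    have e10 : A.1 1 0 = 0 := by rw [hA']; simp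
    have e11 : A.1 1 1 = r := by rw [hA']; simp
    have hr0 : r ≠ 0 := by
      rintro rfl
      have := A.det_ne_zero
      rw [det_fin_two] at this
      simp [e00, e01, e10, e11] at this
    ext x
    induction x using OnePoint.rec with
    | infty => rw [glPerm_infty, if_pos e10]; rfl
    | coe k =>
      rw [glPerm_coe, e00, e01, e10, e11]
      simp only [zero_mul, zero_add, add_zero]
      rw [if_neg hr0, mul_div_cancel_left₀ _ hr0]
      rfl

end Perm

end Cfsg.Agent.H17.Mob
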