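import Mathlib
import Cfsg.Agent.Lib.H17.Mob1
import Cfsg.Agent.Lib.H17.Mob2
import Cfsg.Agent.Lib.H17.Mob3

/-! Recognition of `PSL₂(p)` from the affine action. -/

set_option autoImplicit false
set_option linter.style.haveILetI false

namespace Cfsg.Agent.H17.Mob

open OnePoint Matrix
open scoped MatrixGroups

variable {p : ℕ} [hp : Fact p.Prime] {m : ℕ} {X : Type*} [Group X]
  {ρ : X →* Equiv.Perm (OnePoint (ZMod p))}

lemma exists_sq {l : ZMod p} (hl : l ≠ 0) (hm : m = p / 2) (hlm : l ^ m = 1) (hodd : p ≠ 2) :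
    ∃ a : ZMod p, a ≠ 0 ∧ l = a ^ 2 := by
  have h := (ZMod.euler_criterion p hl).2 (hm ▸ hlm)
  obtain ⟨a, ha⟩ := h
  refine ⟨a, ?_, by rw [ha, pow_two]⟩
  rintro rfl
  apply hl
  simpa using ha

/-- the elements fixing `∞` are upper triangular -/
lemma aff_mem (h : AffAct m ρ) (hm : m = p / 2) (hodd : p ≠ 2) (g : X) (hg : ρ g ∞ = ∞) :
    ρ g ∈ (slPerm (ZMod p)).range := by
  obtain ⟨l, b, hl0, hlm, hl⟩ := h.aff g hg
  obtain ⟨a, ha0, rfl⟩ := exists_sq hl0 hm hlm hodd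
  refine ⟨slUp a (b / a) ha0, ?_⟩
  ext x
  induction x using OnePoint.rec with
  | infty => rw [slPerm_up, hg]
  | coe k => rw [slPerm_up_coe, hl]

/-- every element is a product of the known ones -/
theorem range_le (h : AffAct m ρ) (hm : m = p / 2) (hodd : p ≠ 2) (μ : X) (ι : ZMod p → ZMod p)
    (D : SwapData ρ μ ι) (κ : ZMod p) (hκ : κ ≠ 0) (hκm : (-κ) ^ m = 1)
    (hι : ∀ x : ZMod p, x ≠ 0 → x * ι x = κ) : ρ.range ≤ (slPerm (ZMod p)).range := by
  -- `μ` is in the range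
  have hμ : ρ μ ∈ (slPerm (ZMod p)).range := by
    obtain ⟨b, hb0, hb⟩ := exists_sq (neg_ne_zero.mpr hκ) hm hκm hodd
    refine ⟨slAnti b hb0, ?_⟩
    ext x
    induction x using OnePoint.rec with
    | infty => rw [slPerm_anti, D.inf]
    | coe k =>
      by_cases hk : k = 0
      · subst hk
        rw [slPerm_anti_zero, D.zero]
      · rw [slPerm_anti_coe _ _ _ hk, D.act k hk]
        congr 1
        have h1 := hι k hk
        have h2 : κ = -b ^ 2 := by rw [← hb, neg_neg]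
        rw [← h2, ← h1]
        field_simp
  rintro _ ⟨g, rfl⟩
  by_cases hg : ρ g ∞ = ∞
  · exact aff_mem h hm hodd g hg
  obtain ⟨t, ht⟩ := OnePoint.ne_infty_iff_exists.mp hg
  obtain ⟨u, hu0, hu⟩ := h.tr (-t)
  have h1 : ρ (μ * u * g) ∞ = ∞ := by
    simp only [map_mul, Equiv.Perm.mul_apply]
    rw [← ht, hu, add_neg_cancel, D.zero]
  have hu' : ρ u ∈ (slPerm (ZMod p)).range := aff_mem h hm hodd u hu0
  have h2 := aff_mem h hm hodd _ h1
  have e : ρ g = (ρ u)⁻¹ * (ρ μ)⁻¹ * ρ (μ * u * g) := by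
    simp only [map_mul]
    group
  rw [e]
  exact Subgroup.mul_mem _ (Subgroup.mul_mem _ (Subgroup.inv_mem _ hu') (Subgroup.inv_mem _ hμ)) h2

lemma card_psl (hodd : p ≠ 2) :
    2 * Nat.card (ProjectiveSpecialLinearGroup (Fin 2) (ZMod p)) = p * (p ^ 2 - 1) := by
  have h := Cfsg.Agent.Lead.card_PSL (F := ZMod p) 2 (by norm_num)
  rw [ZMod.card, Fin.prod_univ_two] at h
  have hp1 : 1 < p := hp.out.one_lt
  have hg : Nat.gcd 2 (p - 1) = 2 := by
    apply Nat.gcd_eq_left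
    have := hp.out.eq_two_or_odd'
    rcases this with h2 | ⟨k, hk⟩
    · exact absurd h2 hodd
    · exact ⟨k, by omega⟩
  rw [hg] at h
  simp only [Fin.val_zero, pow_zero, Fin.val_one, pow_one] at h
  have e : (p ^ 2 - 1) * (p ^ 2 - p) = (p - 1) * (p * (p ^ 2 - 1)) := by
    have : p ^ 2 - p = p * (p - 1) := by
      rw [Nat.mul_sub, mul_one, pow_two]
    rw [this]
    ring
  rw [e] at h
  have h3 : (p - 1) * (2 * Nat.card (ProjectiveSpecialLinearGroup (Fin 2) (ZMod p))) = (p - 1) * (p * (p ^ 2 - 1)) := by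
    rw [← h]
    ring
  exact Nat.eq_of_mul_eq_mul_left (by omega) h3

theorem psl_of_range (hodd : p ≠ 2) [Finite X] (hρ : Function.Injective ρ)
    (hcard : 2 * Nat.card X = p * (p ^ 2 - 1))
    (hle : ρ.range ≤ (slPerm (ZMod p)).range) :
    Nonempty (X ≃* ProjectiveSpecialLinearGroup (Fin 2) (ZMod p)) := by
  have hker := slPerm_ker (K := ZMod p)
  let e1 : (SpecialLinearGroup (Fin 2) (ZMod p)) ⧸ (slPerm (ZMod p)).ker ≃* ProjectiveSpecialLinearGroup (Fin 2) (ZMod p) :=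
    QuotientGroup.quotientMulEquivOfEq hker
  let e2 := QuotientGroup.quotientKerEquivRange (slPerm (ZMod p))
  let e3 := MonoidHom.ofInjective hρ
  have hc1 : Nat.card X = Nat.card ρ.range := Nat.card_congr e3.toEquiv
  have hc2 : Nat.card (slPerm (ZMod p)).range = Nat.card (ProjectiveSpecialLinearGroup (Fin 2) (ZMod p)) :=
    Nat.card_congr (e2.symm.trans e1).toEquiv
  have hc3 : Nat.card X = Nat.card (ProjectiveSpecialLinearGroup (Fin 2) (ZMod p)) := by
    have h := card_psl (p := p) hodd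
    omega
  have hreq : ρ.range = (slPerm (ZMod p)).range := by
    apply Subgroup.eq_of_le_of_card_ge hle
    rw [hc2, ← hc1, hc3]
  exact ⟨e3.trans ((MulEquiv.subgroupCongr hreq).trans (e2.symm.trans e1))⟩

/-- The main recognition theorem. -/
theorem psl_of_affAct (hodd : p ≠ 2) [Finite X] (h : AffAct m ρ) (hm : m = p / 2) (hρ : Function.Injective ρ)
    (hcard : 2 * Nat.card X = p * (p ^ 2 - 1))
    (g₀ n : ℕ) (cs roots : List ℕ) (L : List (Bool × ℕ))
    (hL : logB p g₀ n L = true) (hlen : L.length = p) (hchk : chkB p m cs roots L = true)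
    (hg0 : (g₀ : ZMod p) ≠ 0) (hg₀m : (g₀ : ZMod p) ^ m = 1) (hn0 : (n : ZMod p) ≠ 0)
    (hroots : ∀ l : ZMod p, l ^ m = 1 → l.val ∈ roots)
    (hcs : ∀ (μ : X) (ι : ZMod p → ZMod p), SwapData ρ μ ι → ∀ c : ZMod p, c ^ m = 1 → c ≠ 0 →
      (∀ x : ZMod p, x ≠ 0 → ι ((g₀ : ZMod p) * x) = c * ι x) → c.val ∈ cs) :
    Nonempty (X ≃* ProjectiveSpecialLinearGroup (Fin 2) (ZMod p)) := by
  obtain ⟨μ, h1, h2⟩ := h.swap
  obtain ⟨ι, D⟩ := exists_swapData (ρ := ρ) μ h1 h2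
  obtain ⟨c, hcm, hc0, hc⟩ := D.equivariant h _ hg₀m hg0
  obtain ⟨κ, hκ, hκm, hκι⟩ := chk_sound m g₀ n cs roots L hL hlen hchk ι c D.ne
    (fun x y hx hy e => D.inj hx hy e) (hcs μ ι D c hcm hc0 hc) hg0 hn0 hc (by
      intro d hd
      obtain ⟨l, hlm, hl0, hl⟩ := D.star h d hd
      exact ⟨l, hroots l hlm, hl0, hl⟩)
  exact psl_of_range hodd hρ hcard (range_le h hm hodd μ ι D κ hκ hκm hκι)

end Cfsg.Agent.H17.Mob
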