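import Mathlib
import Cfsg.Agent.Lib.H17.Mob1

/-! From Sylow `p`-subgroups of order `p`, with `p + 1` conjugates, to the affine action on the projective line. -/

set_option autoImplicit false
set_option linter.style.haveILetI false

namespace Cfsg.Agent.H17.Mob

open OnePoint

variable {p : ℕ} [hp : Fact p.Prime] {X : Type*} [Group X] [Finite X]

lemma card_sylow_eq (q : ℕ) (h : Nat.card X = p * q) (hq : ¬ p ∣ q) (P : Sylow p X) :
    Nat.card P = p := by
  have hq0 : q ≠ 0 := by
    rintro rfl
    exact hq (dvd_zero _)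
  rw [Sylow.card_eq_multiplicity, h, Nat.factorization_mul hp.out.ne_zero hq0, Nat.Prime.factorization hp.out]
  simp [Nat.factorization_eq_zero_of_not_dvd hq]

section Fixed

variable (hpc : ∀ P : Sylow p X, Nat.card P = p)

include hpc in
/-- elements of a Sylow subgroup of order `p` fix no other Sylow subgroup. -/
lemma eq_of_fix (A B : Sylow p X) (w : X) (hw : w ∈ (A : Subgroup X)) (hw1 : w ≠ 1)
    (h : w • B = B) : A = B := by
  have h1 : w ∈ Subgroup.normalizer (B : Set X) := Sylow.smul_eq_iff_mem_normalizer.mp h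
  have h2 : w ∈ (A : Subgroup X) ⊓ Subgroup.normalizer (B : Set X) := ⟨hw, h1⟩
  rw [IsPGroup.inf_normalizer_sylow A.isPGroup' B] at h2
  have hz : Nat.card (Subgroup.zpowers w) = p := by
    rw [Nat.card_zpowers]
    have h3 : orderOf w ∣ p := by
      have := Subgroup.orderOf_dvd_natCard (A : Subgroup X) hw
      rwa [hpc A] at this
    rcases (Nat.dvd_prime hp.out).1 h3 with h4 | h4
    · exact absurd (orderOf_eq_one_iff.mp h4) hw1
    · exact h4
  have hA : Subgroup.zpowers w = (A : Subgroup X) := by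
    apply Subgroup.eq_of_le_of_card_ge
    · rw [Subgroup.zpowers_le]
      exact hw
    · rw [hpc A, hz]
  have hB : Subgroup.zpowers w = (B : Subgroup X) := by
    apply Subgroup.eq_of_le_of_card_ge
    · rw [Subgroup.zpowers_le]
      exact h2.2
    · rw [hpc B, hz]
  apply Sylow.ext
  rw [← hA, hB]

lemma pow_order (A : Sylow p X) (w : X) (hw : w ∈ (A : Subgroup X)) (hw1 : w ≠ 1) (hpcA : Nat.card A = p) :
    orderOf w = p := by
  have h3 : orderOf w ∣ p := by
    have := Subgroup.orderOf_dvd_natCard (A : Subgroup X) hw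
    rwa [hpcA] at this
  rcases (Nat.dvd_prime hp.out).1 h3 with h4 | h4
  · exact absurd (orderOf_eq_one_iff.mp h4) hw1
  · exact h4

lemma smul_self_of_mem (A : Sylow p X) (w : X) (hw : w ∈ (A : Subgroup X)) : w • A = A :=
  Sylow.smul_eq_iff_mem_normalizer.mpr (Subgroup.le_normalizer hw)

lemma card_onePoint : Nat.card (OnePoint (ZMod p)) = p + 1 := by
  show Nat.card (Option (ZMod p)) = p + 1
  rw [Finite.card_option, Nat.card_zmod]

include hpc in
/-- the labelling of the Sylow subgroups -/
lemma label_bij (hn : Nat.card (Sylow p X) = p + 1) (A B : Sylow p X) (hAB : A ≠ B) (w : X)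
    (hw : w ∈ (A : Subgroup X)) (hw1 : w ≠ 1) :
    Function.Bijective (fun x : OnePoint (ZMod p) => x.elim A (fun s => w ^ s.val • B)) := by
  have ho : orderOf w = p := pow_order A w hw hw1 (hpc A)
  have hpow : ∀ k : ℕ, w ^ k ∈ (A : Subgroup X) := fun k => Subgroup.pow_mem _ hw k
  have hne : ∀ k : ℕ, w ^ k • B ≠ A := by
    intro k h
    have h2 : w ^ k • A = A := smul_self_of_mem A _ (hpow k)
    rw [← h2] at h
    exact hAB (MulAction.injective _ h).symm
  have hinj : Function.Injective (fun x : OnePoint (ZMod p) => x.elim A (fun s => w ^ s.val • B)) := by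
    intro x y hxy
    induction x using OnePoint.rec with
    | infty =>
      induction y using OnePoint.rec with
      | infty => rfl
      | coe t =>
        simp only [OnePoint.elim_infty, OnePoint.elim_some] at hxy
        exact absurd hxy.symm (hne _)
    | coe s =>
      induction y using OnePoint.rec with
      | infty =>
        simp only [OnePoint.elim_infty, OnePoint.elim_some] at hxy
        exact absurd hxy (hne _)
      | coe t =>
        simp only [OnePoint.elim_some] at hxy
        -- a lemma for the ordered case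
        have key : ∀ a b : ZMod p, a.val ≤ b.val → w ^ a.val • B = w ^ b.val • B → a = b := by
          intro a b hab h
          have e : b.val = a.val + (b.val - a.val) := by omega
          rw [e, pow_add, mul_smul] at h
          have h3 := (MulAction.injective _ h).symm
          by_contra hcon
          have hval : a.val ≠ b.val := fun h => hcon (ZMod.val_injective p h)
          have hk1 : w ^ (b.val - a.val) ≠ 1 := by
            intro h4
            have h5 := orderOf_dvd_of_pow_eq_one h4
            rw [ho] at h5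
            have h6 : b.val - a.val < p := by
              have := ZMod.val_lt b
              omega
            have h7 := Nat.eq_zero_of_dvd_of_lt h5 h6
            omega
          exact hAB (eq_of_fix hpc A B _ (hpow _) hk1 h3)
        have : s = t := by
          rcases le_total s.val t.val with h | h
          · exact key s t h hxy
          · exact (key t s h hxy.symm).symm
        rw [this]
  apply hinj.bijective_of_nat_card_le
  rw [hn, card_onePoint]

end Fixed

/-- the action on the Sylow subgroups transported to the projective line -/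
theorem affAct_of_sylow (m : ℕ) (hm0 : 0 < m) (hcard : Nat.card X = p * ((p + 1) * m))
    (hpm : ¬ p ∣ m) (hn : Nat.card (Sylow p X) = p + 1)
    (hfaith : Function.Injective (MulAction.toPermHom X (Sylow p X))) :
    ∃ ρ : X →* Equiv.Perm (OnePoint (ZMod p)), Function.Injective ρ ∧ AffAct m ρ := by
  classical
  have hpc : ∀ P : Sylow p X, Nat.card P = p := card_sylow_eq ((p + 1) * m) hcard (by
    intro h
    rcases (Nat.Prime.dvd_mul hp.out).1 h with h | h
    · have h1 : p ∣ 1 := (Nat.dvd_add_right (dvd_refl p)).1 h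
      exact hp.out.one_lt.ne' (Nat.dvd_one.mp h1)
    · exact hpm h)
  have hp1 : 1 < p := hp.out.one_lt
  -- the two Sylow subgroups
  obtain ⟨P₀⟩ : Nonempty (Sylow p X) := inferInstance
  obtain ⟨Q₀, hQ⟩ : ∃ Q : Sylow p X, P₀ ≠ Q := by
    haveI : Finite (Sylow p X) := inferInstance
    have h2 : 1 < Nat.card (Sylow p X) := by omega
    haveI : Nontrivial (Sylow p X) := Finite.one_lt_card_iff_nontrivial.mp h2
    obtain ⟨Q, hQ⟩ := exists_ne P₀
    exact ⟨Q, hQ.symm⟩
  -- the generator
  obtain ⟨u, hu, hu1⟩ : ∃ u ∈ (P₀ : Subgroup X), u ≠ 1 := by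
    have h2 : 1 < Nat.card P₀ := by rw [hpc P₀]; exact hp1
    haveI : Nontrivial P₀ := Finite.one_lt_card_iff_nontrivial.mp h2
    obtain ⟨⟨x, hx⟩, hx1⟩ := exists_ne (1 : P₀)
    exact ⟨x, hx, fun h => hx1 (Subtype.ext h)⟩
  have ho : orderOf u = p := pow_order P₀ u hu hu1 (hpc P₀)
  have hgen : ∀ x ∈ (P₀ : Subgroup X), ∃ k : ℕ, x = u ^ k := by
    have hz : Subgroup.zpowers u = (P₀ : Subgroup X) := by
      apply Subgroup.eq_of_le_of_card_ge
      · rw [Subgroup.zpowers_le]
        exact hu
      · rw [hpc P₀, Nat.card_zpowers, ho]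
    intro x hx
    rw [← hz] at hx
    have h3 := mem_powers_iff_mem_zpowers.mpr hx
    obtain ⟨k, hk⟩ := Submonoid.mem_powers_iff _ _ |>.mp h3
    exact ⟨k, hk.symm⟩
  -- the labelling
  set ℓ : OnePoint (ZMod p) → Sylow p X := fun x => x.elim P₀ (fun s => u ^ s.val • Q₀) with hℓ
  have hb : Function.Bijective ℓ := label_bij hpc hn P₀ Q₀ hQ u hu hu1
  have hℓ0 : ℓ ∞ = P₀ := rfl
  have hℓs : ∀ s : ZMod p, ℓ (s : OnePoint (ZMod p)) = u ^ s.val • Q₀ := fun s => rfl
  have hℓk : ∀ k : ℕ, ℓ (((k : ℕ) : ZMod p) : OnePoint (ZMod p)) = u ^ k • Q₀ := by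
    intro k
    have h0 : u ^ (k % p) = u ^ k := by
      have h1 := pow_mod_orderOf u k
      rwa [ho] at h1
    rw [hℓs, ZMod.val_natCast, h0]
  let e : OnePoint (ZMod p) ≃ Sylow p X := Equiv.ofBijective ℓ hb
  have heq : ∀ x, e x = ℓ x := fun x => rfl
  let ρ : X →* Equiv.Perm (OnePoint (ZMod p)) :=
    (Equiv.permCongrHom e.symm).toMonoidHom.comp (MulAction.toPermHom X (Sylow p X))
  have hρ : ∀ g x, ℓ (ρ g x) = g • ℓ x := by
    intro g x
    show e (e.symm (g • e x)) = g • e x
    exact e.apply_symm_apply _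
  have hρi : ∀ g x y, g • ℓ x = ℓ y → ρ g x = y := by
    intro g x y h
    apply hb.1
    rw [hρ, h]
  have hinj : Function.Injective ρ := by
    intro g k h
    apply hfaith
    refine Equiv.ext fun R => ?_
    obtain ⟨x, rfl⟩ := hb.2 R
    show g • ℓ x = k • ℓ x
    rw [← hρ, ← hρ, h]
  have hu0 : ∀ k : ℕ, u ^ k • P₀ = P₀ := fun k => smul_self_of_mem P₀ _ (Subgroup.pow_mem _ hu k)
  -- elements fixing ∞
  have hnorm : ∀ g : X, g • P₀ = P₀ → ∃ l : ℕ, g * u * g⁻¹ = u ^ l := by
    intro g hg
    have h1 : g ∈ Subgroup.normalizer (P₀ : Set X) := Sylow.smul_eq_iff_mem_normalizer.mp hg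
    have h2 : g * u * g⁻¹ ∈ (P₀ : Subgroup X) := (Subgroup.mem_normalizer_iff.mp h1 u).mp hu
    obtain ⟨l, hl⟩ := hgen _ h2
    exact ⟨l, hl⟩
  -- the order of the normalizer
  have hN : Nat.card (Subgroup.normalizer (P₀ : Set X)) = p * m := by
    have h1 := Subgroup.card_mul_index (Subgroup.normalizer (P₀ : Set X))
    rw [← Sylow.card_eq_index_normalizer P₀, hn, hcard] at h1
    have h2 : (p + 1) * (Nat.card (Subgroup.normalizer (P₀ : Set X))) = (p + 1) * (p * m) := by
      rw [mul_comm, h1]
      ring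
    exact Nat.eq_of_mul_eq_mul_left (by omega) h2
  -- the general shape of an element fixing ∞
  have hshape : ∀ g : X, ρ g ∞ = ∞ → ∃ l b : ZMod p, l ≠ 0 ∧ l ^ m = 1 ∧
      ∀ s : ZMod p, ρ g (s : OnePoint (ZMod p)) = ((l * s + b : ZMod p) : OnePoint (ZMod p)) := by
    intro g hg
    have hg' : g • P₀ = P₀ := by
      have := hρ g ∞
      rw [hg] at this
      exact this.symm
    obtain ⟨l, hl⟩ := hnorm g hg'
    -- the image of `Q₀`
    have hgQ : g • Q₀ ≠ P₀ := by
      intro h
      rw [← hg'] at h
      exact hQ (MulAction.injective _ h).symm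
    obtain ⟨x, hx⟩ := hb.2 (g • Q₀)
    have hxne : x ≠ ∞ := by
      rintro rfl
      exact hgQ hx.symm
    obtain ⟨β, rfl⟩ := OnePoint.ne_infty_iff_exists.mp hxne
    have hconj : ∀ k : ℕ, g * u ^ k = u ^ (l * k) * g := by
      intro k
      induction k with
      | zero => simp
      | succ k ih =>
        have h3 : g * u = u ^ l * g := by
          rw [← hl]
          group
        rw [pow_succ', ← mul_assoc, h3, mul_assoc, ih, Nat.mul_succ, add_comm (l * k) l, pow_add, mul_assoc]
    have hl0 : (l : ZMod p) ≠ 0 := by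
      intro h
      rw [ZMod.natCast_eq_zero_iff] at h
      have h4 : u ^ l = 1 := by
        rw [← orderOf_dvd_iff_pow_eq_one, ho]
        exact h
      rw [h4] at hl
      apply hu1
      have h5 : g * u = g := by
        have h6 : g * u * g⁻¹ * g = 1 * g := by rw [hl]
        simpa using h6
      simpa using h5
    refine ⟨l, β, hl0, ?_, ?_⟩
    · -- the order
      have hcon : ∀ k : ℕ, ∃ r : ℕ, g ^ k * u = u ^ r * g ^ k ∧ (r : ZMod p) = (l : ZMod p) ^ k := by
        intro k
        induction k with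
        | zero => exact ⟨1, by simp, by simp⟩
        | succ k ih =>
          obtain ⟨r, hr, hr2⟩ := ih
          refine ⟨l * r, ?_, ?_⟩
          · rw [pow_succ', mul_assoc, hr, ← mul_assoc, hconj, mul_assoc]
          · push_cast
            rw [hr2, pow_succ']
      have hgm : g ^ (p * m) = 1 := by
        have hgn : g ∈ Subgroup.normalizer (P₀ : Set X) := Sylow.smul_eq_iff_mem_normalizer.mp hg'
        have h5 := pow_card_eq_one' (x := (⟨g, hgn⟩ : Subgroup.normalizer (P₀ : Set X)))
        rw [hN] at h5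
        have h6 := congrArg Subtype.val h5
        simpa using h6
      obtain ⟨r, hr, hr2⟩ := hcon (p * m)
      rw [hgm, mul_one, one_mul] at hr
      have h7 : u ^ r = u ^ 1 := by
        rw [pow_one]
        exact hr.symm
      have h8 : (r : ZMod p) = ((1 : ℕ) : ZMod p) := by
        rw [ZMod.natCast_eq_natCast_iff']
        rw [← ho]
        exact pow_inj_mod.mp h7
      rw [hr2] at h8
      rw [pow_mul, ZMod.pow_card] at h8
      simpa using h8
    · intro s
      apply hρi
      rw [hℓs, ← mul_smul]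
      -- write `g * u^k = u^(l*k) * g`
      rw [hconj, mul_smul, ← hx, hℓs, ← mul_smul, ← pow_add]
      have e2 : (((l * s.val + β.val : ℕ) : ZMod p)) = (l : ZMod p) * s + β := by
        push_cast
        rw [ZMod.natCast_val, ZMod.cast_id', id, ZMod.natCast_val, ZMod.cast_id', id]
      rw [← e2, hℓk]
  -- translations
  have htr : ∀ c : ZMod p, ∃ v : X, ρ v ∞ = ∞ ∧ ∀ s : ZMod p, ρ v (s : OnePoint (ZMod p)) = ((s + c : ZMod p) : OnePoint (ZMod p)) := by
    intro c
    refine ⟨u ^ c.val, ?_, fun s => ?_⟩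
    · apply hρi
      rw [hℓ0]
      exact hu0 _
    · apply hρi
      rw [hℓs, ← mul_smul, ← pow_add]
      have e2 : ((c.val + s.val : ℕ) : ZMod p) = s + c := by
        push_cast
        rw [ZMod.natCast_val, ZMod.cast_id', id, ZMod.natCast_val, ZMod.cast_id', id, add_comm]
      rw [← e2, hℓk]
  -- the swap
  have hswap : ∃ μ : X, ρ μ ∞ = ((0 : ZMod p) : OnePoint (ZMod p)) ∧ ρ μ ((0 : ZMod p) : OnePoint (ZMod p)) = ∞ := by
    obtain ⟨g, hg⟩ := MulAction.exists_smul_eq X P₀ Q₀
    obtain ⟨w, hw, hw1⟩ : ∃ w ∈ (Q₀ : Subgroup X), w ≠ 1 := by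
      have h2 : 1 < Nat.card Q₀ := by rw [hpc Q₀]; exact hp1
      haveI : Nontrivial Q₀ := Finite.one_lt_card_iff_nontrivial.mp h2
      obtain ⟨⟨x, hx⟩, hx1⟩ := exists_ne (1 : Q₀)
      exact ⟨x, hx, fun h => hx1 (Subtype.ext h)⟩
    have hR : Q₀ ≠ g • Q₀ := by
      intro h
      conv_lhs at h => rw [← hg]
      exact hQ (MulAction.injective _ h)
    have hb2 := label_bij hpc hn Q₀ (g • Q₀) hR w hw hw1
    obtain ⟨x, hx⟩ := hb2.2 P₀
    have hxne : x ≠ ∞ := by
      rintro rfl
      exact hQ hx.symm
    obtain ⟨s, rfl⟩ := OnePoint.ne_infty_iff_exists.mp hxne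
    have hx' : w ^ s.val • g • Q₀ = P₀ := hx
    refine ⟨w ^ s.val * g, ?_, ?_⟩
    · apply hρi
      rw [hℓ0, mul_smul, hg, smul_self_of_mem Q₀ _ (Subgroup.pow_mem _ hw _), hℓs, ZMod.val_zero, pow_zero, one_smul]
    · apply hρi
      rw [hℓs, ZMod.val_zero, pow_zero, one_smul, mul_smul, hx']
      rfl
  -- the scalars
  have hscal : ∀ l : ZMod p, l ^ m = 1 → ∃ g : X, ρ g ∞ = ∞ ∧
      ∀ s : ZMod p, ρ g (s : OnePoint (ZMod p)) = ((l * s : ZMod p) : OnePoint (ZMod p)) := by
    intro l hl
    let H : Subgroup X := Subgroup.normalizer (P₀ : Set X)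
    have hmemH : ∀ g : X, g ∈ H ↔ g • P₀ = P₀ := fun g => Sylow.smul_eq_iff_mem_normalizer.symm
    let S : Subgroup H := MulAction.stabilizer H Q₀
    -- the orbit
    have horb : MulAction.orbit H Q₀ = Set.range (fun s : ZMod p => ℓ (s : OnePoint (ZMod p))) := by
      ext R
      constructor
      · rintro ⟨h, rfl⟩
        have h1 : (h : X) • Q₀ ≠ P₀ := by
          intro h2
          rw [← (hmemH h.1).1 h.2] at h2
          exact hQ (MulAction.injective _ h2).symm
        obtain ⟨x, hx⟩ := hb.2 ((h : X) • Q₀)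
        have hxne : x ≠ ∞ := by
          rintro rfl
          exact h1 hx.symm
        obtain ⟨s, rfl⟩ := OnePoint.ne_infty_iff_exists.mp hxne
        exact ⟨s, hx⟩
      · rintro ⟨s, rfl⟩
        refine ⟨⟨u ^ s.val, (hmemH _).2 (hu0 _)⟩, ?_⟩
        rfl
    have hlinj : Function.Injective (fun s : ZMod p => ℓ (s : OnePoint (ZMod p))) :=
      fun a b h => OnePoint.coe_injective (hb.1 h)
    have horbc : (MulAction.orbit H Q₀).ncard = p := by
      rw [horb, ← Set.image_univ, Set.ncard_image_of_injective _ hlinj, Set.ncard_univ, Nat.card_zmod]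
    have hScard : Nat.card S = m := by
      have h1 := S.card_mul_index
      have h2 : S.index = p := by
        rw [MulAction.index_stabilizer, horbc]
      rw [h2, hN, mul_comm p m] at h1
      exact Nat.eq_of_mul_eq_mul_right hp.out.pos h1
    -- the elements of the stabilizer are multiplications
    have hf : ∀ h : S, ∃ r : {x : ZMod p // x ^ m = 1}, ρ h.1.1 ∞ = ∞ ∧
        ∀ s : ZMod p, ρ h.1.1 (s : OnePoint (ZMod p)) = ((r.1 * s : ZMod p) : OnePoint (ZMod p)) := by
      intro h
      have h1 : ρ h.1.1 ∞ = ∞ := by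
        apply hρi
        rw [hℓ0]
        exact (hmemH _).1 h.1.2
      obtain ⟨r, b, hr0, hrm, hr⟩ := hshape _ h1
      have h2 : h.1.1 • Q₀ = Q₀ := h.2
      have hb0 : b = 0 := by
        have h3 := hr 0
        have h4 : ρ h.1.1 ((0 : ZMod p) : OnePoint (ZMod p)) = ((0 : ZMod p) : OnePoint (ZMod p)) := by
          apply hρi
          rw [hℓs, ZMod.val_zero, pow_zero, one_smul, h2]
        rw [h4, mul_zero, zero_add] at h3
        exact (OnePoint.coe_injective h3).symm
      subst hb0
      refine ⟨⟨r, hrm⟩, h1, fun s => ?_⟩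
      rw [hr, add_zero]
    choose F hF0 hF using hf
    have hFinj : Function.Injective F := by
      intro a b hab
      apply Subtype.ext
      apply Subtype.ext
      apply hinj
      refine Equiv.ext fun x => ?_
      induction x using OnePoint.rec with
      | infty => rw [hF0, hF0]
      | coe s => rw [hF, hF, hab]
    have hRcard : Nat.card {x : ZMod p // x ^ m = 1} ≤ Nat.card S := by
      rw [hScard, Nat.card_eq_fintype_card, Fintype.card_subtype]
      have hsub : (Finset.univ.filter fun x : ZMod p => x ^ m = 1) ⊆ (Polynomial.nthRoots m (1 : ZMod p)).toFinset := by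
        intro x hx
        simp only [Finset.mem_filter, Finset.mem_univ, true_and] at hx
        simp only [Multiset.mem_toFinset]
        rw [Polynomial.mem_nthRoots hm0]
        exact hx
      calc _ ≤ (Polynomial.nthRoots m (1 : ZMod p)).toFinset.card := Finset.card_le_card hsub
        _ ≤ Multiset.card (Polynomial.nthRoots m (1 : ZMod p)) := Multiset.toFinset_card_le _
        _ ≤ m := Polynomial.card_nthRoots _ _
    have hFb := hFinj.bijective_of_nat_card_le hRcard
    obtain ⟨h, hh⟩ := hFb.2 ⟨l, hl⟩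
    refine ⟨h.1.1, hF0 h, fun s => ?_⟩
    rw [hF, hh]
  exact ⟨ρ, hinj, ⟨htr, hshape, hscal, hswap⟩⟩

end Cfsg.Agent.H17.Mob
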