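import Mathlib
import Cfsg.Agent.Lib.H17.Mob4
import Cfsg.Agent.Lib.H17.Mob5

/-! Recognition of `PSL₂(p)` among simple groups of order `p(p²-1)/2`. -/

set_option autoImplicit false
set_option linter.style.haveILetI false

namespace Cfsg.Agent.H17.Mob

open OnePoint Matrix
open scoped MatrixGroups

/-- ring isomorphisms induce isomorphisms of the projective special linear groups -/
theorem psl_congr {F F' : Type*} [Field F] [Field F'] (e : F ≃+* F') :
    Nonempty (ProjectiveSpecialLinearGroup (Fin 2) F ≃* ProjectiveSpecialLinearGroup (Fin 2) F') := by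
  let E : SpecialLinearGroup (Fin 2) F ≃* SpecialLinearGroup (Fin 2) F' :=
    { toFun := SpecialLinearGroup.map (e : F →+* F')
      invFun := SpecialLinearGroup.map (e.symm : F' →+* F)
      left_inv := fun g => by
        apply Subtype.ext
        ext i j
        exact e.symm_apply_apply _
      right_inv := fun g => by
        apply Subtype.ext
        ext i j
        exact e.apply_symm_apply _
      map_mul' := map_mul _ }
  have hc : (Subgroup.center (SpecialLinearGroup (Fin 2) F)).map E.toMonoidHom =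
      Subgroup.center (SpecialLinearGroup (Fin 2) F') := by
    ext y
    constructor
    · rintro ⟨x, hx, rfl⟩
      rw [Subgroup.mem_center_iff]
      intro z
      obtain ⟨w, rfl⟩ := E.surjective z
      have h1 := (Subgroup.mem_center_iff.mp hx) w
      show E w * E x = E x * E w
      rw [← map_mul, ← map_mul, h1]
    · intro hy
      refine ⟨E.symm y, ?_, by simp⟩
      rw [SetLike.mem_coe, Subgroup.mem_center_iff]
      intro z
      apply E.injective
      rw [map_mul, map_mul, E.apply_symm_apply]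
      exact Subgroup.mem_center_iff.mp hy (E z)
  exact ⟨QuotientGroup.congr _ _ E hc⟩

variable {p : ℕ} [hp : Fact p.Prime] {X : Type*} [Group X] [Finite X]

lemma faithful_of_simple [IsSimpleGroup X] (hn : 1 < Nat.card (Sylow p X)) :
    Function.Injective (MulAction.toPermHom X (Sylow p X)) := by
  rw [← MonoidHom.ker_eq_bot_iff]
  rcases (MonoidHom.normal_ker (MulAction.toPermHom X (Sylow p X))).eq_bot_or_eq_top with h | h
  · exact h
  exfalso
  haveI : Nontrivial (Sylow p X) := Finite.one_lt_card_iff_nontrivial.mp hn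
  obtain ⟨A, B, hAB⟩ := exists_pair_ne (Sylow p X)
  obtain ⟨g, hg⟩ := MulAction.exists_smul_eq X A B
  have hm : g ∈ (MulAction.toPermHom X (Sylow p X)).ker := by
    rw [h]
    exact Subgroup.mem_top g
  rw [MonoidHom.mem_ker] at hm
  have h1 : g • A = A := by
    have := congrArg (fun f : Equiv.Perm (Sylow p X) => f A) hm
    exact this
  rw [h1] at hg
  exact hAB hg

/-- Sylow constraints in a simple group. -/
lemma sylow_number [IsSimpleGroup X] (q : ℕ) (hq1 : 1 < q) (hcard : Nat.card X = p * q) (hq : ¬ p ∣ q) :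
    Nat.card (Sylow p X) ∣ q ∧ Nat.card (Sylow p X) % p = 1 ∧ Nat.card (Sylow p X) ≠ 1 := by
  obtain ⟨P⟩ : Nonempty (Sylow p X) := inferInstance
  have hP := card_sylow_eq q hcard hq P
  refine ⟨?_, ?_, ?_⟩
  · have h1 := Sylow.card_dvd_index P
    have h2 := (P : Subgroup X).card_mul_index
    rw [hP, hcard] at h2
    have h3 : (P : Subgroup X).index = q := Nat.eq_of_mul_eq_mul_left hp.out.pos h2
    rwa [h3] at h1
  · have h1 := card_sylow_modEq_one p X
    have h2 : 1 % p = 1 := Nat.mod_eq_of_lt hp.out.one_lt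
    rw [Nat.ModEq, h2] at h1
    exact h1
  · intro h1
    haveI : Subsingleton (Sylow p X) := (Nat.card_eq_one_iff_unique.mp h1).1
    have hN : (P : Subgroup X).Normal := Sylow.normal_of_subsingleton P
    rcases hN.eq_bot_or_eq_top with h | h
    · rw [h] at hP
      simp at hP
      exact hp.out.one_lt.ne hP
    · rw [h] at hP
      simp only [Subgroup.card_top] at hP
      rw [hcard] at hP
      have h5 : p * q = p * 1 := by rw [hP, mul_one]
      have := Nat.eq_of_mul_eq_mul_left hp.out.pos h5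
      omega

/-- recognition of simple groups -/
theorem psl_simple_recog {F : Type*} [Field F] [Fintype F] [IsSimpleGroup X] (hF : Fintype.card F = p)
    (hodd : p ≠ 2) (m : ℕ) (hm : m = p / 2) (hm0 : 0 < m) (hcard : Nat.card X = p * ((p + 1) * m))
    (hcard2 : 2 * Nat.card X = p * (p ^ 2 - 1)) (hpm : ¬ p ∣ m)
    (hn : Nat.card (Sylow p X) = p + 1)
    (g₀ n : ℕ) (cs roots : List ℕ) (L : List (Bool × ℕ))
    (hL : logB p g₀ n L = true) (hlen : L.length = p) (hchk : chkB p m cs roots L = true)
    (hg0 : (g₀ : ZMod p) ≠ 0) (hg₀m : (g₀ : ZMod p) ^ m = 1) (hn0 : (n : ZMod p) ≠ 0)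
    (hroots : ∀ l : ZMod p, l ^ m = 1 → l.val ∈ roots)
    (hcs : ∀ ρ : X →* Equiv.Perm (OnePoint (ZMod p)), AffAct m ρ → Function.Injective ρ →
      ∀ (μ : X) (ι : ZMod p → ZMod p), SwapData ρ μ ι → ∀ c : ZMod p, c ^ m = 1 → c ≠ 0 →
      (∀ x : ZMod p, x ≠ 0 → ι ((g₀ : ZMod p) * x) = c * ι x) → c.val ∈ cs) :
    Nonempty (X ≃* ProjectiveSpecialLinearGroup (Fin 2) F) := by
  have hn1 : 1 < Nat.card (Sylow p X) := by
    have := hp.out.pos
    omega
  obtain ⟨ρ, hρ, hA⟩ := affAct_of_sylow m hm0 hcard hpm hn (faithful_of_simple hn1)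
  obtain ⟨E⟩ := psl_of_affAct hodd hA hm hρ hcard2 g₀ n cs roots L hL hlen hchk hg0 hg₀m hn0 hroots (hcs ρ hA hρ)
  have e : ZMod p ≃+* F := ZMod.ringEquivOfPrime F hp.out hF
  obtain ⟨E2⟩ := psl_congr e
  exact ⟨E.trans E2⟩

end Cfsg.Agent.H17.Mob
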