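import Mathlib
import Cfsg.Agent.Lib.H01.Solv

/-!
The three primes lemma (Lucido): a finite solvable group whose order is divisible by three
distinct primes has an element of order the product of two of them.
-/

set_option autoImplicit false
set_option linter.style.haveILetI false

namespace Cfsg.Agent.H17

open Subgroup

universe u

/-- Element orders of a quotient by a normal subgroup of prime exponent lift. -/
lemma exists_orderOf_of_quotient {X : Type*} [Group X] [Finite X] (V : Subgroup X) [V.Normal]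
    (l : ℕ) (hl : l.Prime) (hV : ∀ v ∈ V, v ^ l = 1) (y : X ⧸ V) : ∃ x : X, orderOf x = orderOf y := by
  obtain ⟨x, rfl⟩ := QuotientGroup.mk_surjective y
  set m := orderOf ((x : X) : X ⧸ V) with hm
  have hdvd : m ∣ orderOf x := by
    exact orderOf_map_dvd (QuotientGroup.mk' V) x
  have hmem : x ^ m ∈ V := by
    rw [← QuotientGroup.eq_one_iff, QuotientGroup.mk_pow, hm]
    exact pow_orderOf_eq_one _
  have h1 : x ^ (m * l) = 1 := by
    rw [pow_mul]
    exact hV _ hmem
  have hdvd2 : orderOf x ∣ m * l := orderOf_dvd_of_pow_eq_one h1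
  obtain ⟨d, hd⟩ := hdvd
  have hmpos : 0 < m := orderOf_pos _
  have hd2 : d ∣ l := by
    rw [hd] at hdvd2
    exact (Nat.mul_dvd_mul_iff_left hmpos).1 hdvd2
  rcases (Nat.dvd_prime hl).1 hd2 with rfl | rfl
  · exact ⟨x, by rw [hd, mul_one]⟩
  · refine ⟨x ^ d, ?_⟩
    rw [orderOf_pow_of_dvd hl.ne_zero ⟨m, by rw [hd, mul_comm]⟩, hd]
    exact Nat.mul_div_cancel _ hl.pos

/-- A nontrivial finite solvable group has a normal subgroup of prime index. -/
lemma exists_normal_prime_index (X : Type*) [Group X] [Finite X] [Group.IsSolvable X] [Nontrivial X] :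
    ∃ M : Subgroup X, M.Normal ∧ M.index.Prime := by
  have hne : commutator X ≠ ⊤ := (IsSolvable.commutator_lt_top_of_nontrivial X).ne
  obtain ⟨M, hM, hle⟩ := (eq_top_or_exists_le_coatom (commutator X)).resolve_left hne
  have hMn : M.Normal := Subgroup.Normal.of_commutator_le X hle
  refine ⟨M, hMn, ?_⟩
  -- every nontrivial element of the quotient generates it
  have hgen : ∀ y : X ⧸ M, y ≠ 1 → Subgroup.zpowers y = ⊤ := by
    intro y hy
    have h1 : M < (Subgroup.zpowers y).comap (QuotientGroup.mk' M) := by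
      refine lt_of_le_of_ne ?_ ?_
      · intro x hx
        simp only [Subgroup.mem_comap]
        have : (QuotientGroup.mk' M) x = 1 := (QuotientGroup.eq_one_iff x).2 hx
        rw [this]
        exact one_mem _
      · intro h
        obtain ⟨x, rfl⟩ := QuotientGroup.mk_surjective y
        apply hy
        have : x ∈ (Subgroup.zpowers ((x : X) : X ⧸ M)).comap (QuotientGroup.mk' M) := by
          simp only [Subgroup.mem_comap]
          exact Subgroup.mem_zpowers _
        rw [← h] at this
        exact (QuotientGroup.eq_one_iff x).2 this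
    have h2 := hM.2 _ h1
    rw [eq_top_iff]
    intro z _
    obtain ⟨x, rfl⟩ := QuotientGroup.mk_surjective z
    have : x ∈ (Subgroup.zpowers y).comap (QuotientGroup.mk' M) := by rw [h2]; trivial
    exact this
  have hcard : Nat.card (X ⧸ M) ≠ 1 := by
    intro h
    apply hM.1
    rw [← Subgroup.index_eq_one]
    exact h
  obtain ⟨p, hp, hpd⟩ := Nat.exists_prime_and_dvd hcard
  haveI := Fact.mk hp
  obtain ⟨y, hy⟩ := exists_prime_orderOf_dvd_card' p hpd
  have hy1 : y ≠ 1 := by
    rintro rfl
    rw [orderOf_one] at hy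
    exact hp.one_lt.ne hy
  have h3 := hgen y hy1
  have h4 : orderOf y = Nat.card (X ⧸ M) := by
    rw [← Nat.card_zpowers, h3, Subgroup.card_top]
  have h5 : M.index = p := by
    show Nat.card (X ⧸ M) = p
    rw [← h4, hy]
  rw [h5]
  exact hp

/-- A nontrivial element of prime power order has a power of prime order. -/
lemma exists_pow_orderOf_prime {X : Type*} [Group X] {s : ℕ} (hs : s.Prime) (x : X)
    (hx : ∃ n, x ^ s ^ n = 1) (hx1 : x ≠ 1) : ∃ j : ℕ, orderOf (x ^ j) = s := by
  obtain ⟨n, hn⟩ := hx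
  have h1 : orderOf x ∣ s ^ n := orderOf_dvd_of_pow_eq_one hn
  obtain ⟨k, -, hk⟩ := (Nat.dvd_prime_pow hs).1 h1
  have hk0 : k ≠ 0 := by
    rintro rfl
    rw [pow_zero, orderOf_eq_one_iff] at hk
    exact hx1 hk
  obtain ⟨i, rfl⟩ := Nat.exists_eq_succ_of_ne_zero hk0
  refine ⟨s ^ i, ?_⟩
  have hdvd : s ^ i ∣ orderOf x := by
    rw [hk]
    exact pow_dvd_pow s (Nat.le_succ i)
  rw [orderOf_pow_of_dvd (pow_ne_zero _ hs.ne_zero) hdvd, hk, pow_succ]
  exact Nat.mul_div_cancel_left _ (pow_pos hs.pos _)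

/-- A Frobenius pair in `X`: an abelian nontrivial `s`-group with an automorphism of order `t`
acting by conjugation without fixed points. -/
def FrobPair (X : Type*) [Group X] (s t : ℕ) : Prop :=
  ∃ (S : Subgroup X) (b : X), S ≠ ⊥ ∧ IsMulCommutative S ∧ IsPGroup s S ∧ orderOf b = t ∧
    (∀ x ∈ S, b * x * b⁻¹ ∈ S) ∧ (∀ x ∈ S, b * x * b⁻¹ = x → x = 1)

lemma FrobPair.of_subgroup {X : Type*} [Group X] {s t : ℕ} (M : Subgroup X)
    (h : FrobPair M s t) : FrobPair X s t := by
  obtain ⟨S, b, hS, hab, hp, hb, hnorm, hfix⟩ := h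
  refine ⟨S.map M.subtype, b, ?_, ?_, ?_, ?_, ?_, ?_⟩
  · intro hc
    apply hS
    exact (Subgroup.map_eq_bot_iff_of_injective _ M.subtype_injective).1 hc
  · refine ⟨⟨?_⟩⟩
    rintro ⟨_, a, ha, rfl⟩ ⟨_, c, hc, rfl⟩
    apply Subtype.ext
    have := hab.is_comm.comm ⟨a, ha⟩ ⟨c, hc⟩
    have h2 := congrArg (fun z : S => ((z : M) : X)) this
    exact h2
  · exact hp.map M.subtype
  · rw [Subgroup.orderOf_coe, hb]
  · rintro _ ⟨a, ha, rfl⟩
    exact ⟨b * a * b⁻¹, hnorm a ha, rfl⟩
  · rintro _ ⟨a, ha, rfl⟩ h2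
    have h3 : b * a * b⁻¹ = a := Subtype.ext h2
    have := hfix a ha h3
    simp [this]

/-- The final step for a normal subgroup of index `t` without `t`-torsion. -/
lemma frobPair_of_normal {X : Type*} [Group X] [Finite X] {s t : ℕ} (hs : s.Prime) (ht : t.Prime)
    (hst : s ≠ t) (M : Subgroup X) [M.Normal] (hidx : M.index = t)
    (htM : ¬ t ∣ Nat.card M) (hsM : s ∣ Nat.card M) (hno : ¬ ∃ x : X, orderOf x = s * t) :
    FrobPair X s t := by
  classical
  haveI := Fact.mk hs
  haveI := Fact.mk ht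
  -- Sylow subgroup of `M`
  let P : Sylow s M := default
  set Q : Subgroup X := (P : Subgroup M).map M.subtype with hQ
  have hQM : Q ≤ M := by
    rintro _ ⟨a, _, rfl⟩
    exact a.2
  have hQp : IsPGroup s Q := P.isPGroup'.map M.subtype
  have hQne : Q ≠ ⊥ := by
    intro hc
    have h1 : (P : Subgroup M) = ⊥ := (Subgroup.map_eq_bot_iff_of_injective _ M.subtype_injective).1 hc
    obtain ⟨y, hy⟩ := exists_prime_orderOf_dvd_card' s hsM
    have h2 : (P : Subgroup M) = ⊥ := h1
    have h3 := P.card_eq_multiplicity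
    rw [h1, Subgroup.card_bot] at h3
    have h4 : s ^ (Nat.card M).factorization s ∣ Nat.card M := Nat.ordProj_dvd _ _
    have h5 : (Nat.card M).factorization s ≠ 0 := by
      intro h0
      have := (Nat.factorization_eq_zero_iff _ _).1 h0
      rcases this with h | h | h
      · exact h hs
      · exact h hsM
      · exact (Nat.card_pos (α := M)).ne' h
    have h6 : 1 < s ^ (Nat.card M).factorization s := Nat.one_lt_pow h5 hs.one_lt
    omega
  have hFr := Sylow.normalizer_sup_eq_top P
  -- an element of the normalizer outside `M`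
  have hMtop : M ≠ ⊤ := by
    intro h
    rw [h, Subgroup.index_top] at hidx
    exact ht.one_lt.ne hidx
  obtain ⟨y, hyN, hyM⟩ : ∃ y ∈ normalizer (Q : Set X), y ∉ M := by
    by_contra hc
    push Not at hc
    apply hMtop
    rw [eq_top_iff, ← hFr, sup_le_iff]
    exact ⟨hc, le_refl _⟩
  -- the `t`-part
  set q : X → X ⧸ M := fun x => (x : X ⧸ M) with hq
  have hcardQ : Nat.card (X ⧸ M) = t := hidx
  have hqy : orderOf (y : X ⧸ M) = t := by
    have h1 : orderOf (y : X ⧸ M) ∣ t := by
      rw [← hcardQ]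
      exact orderOf_dvd_natCard _
    rcases (Nat.dvd_prime ht).1 h1 with h | h
    · rw [orderOf_eq_one_iff, QuotientGroup.eq_one_iff] at h
      exact absurd h hyM
    · exact h
  obtain ⟨a, u, hu, huo⟩ := Nat.exists_eq_pow_mul_and_not_dvd (n := orderOf y)
    (orderOf_pos y).ne' t ht.ne_one
  set b := y ^ u with hb
  have hbN : b ∈ normalizer (Q : Set X) := Subgroup.pow_mem _ hyN _
  have hbM : b ∉ M := by
    intro h
    apply hu
    rw [← hqy]
    apply orderOf_dvd_of_pow_eq_one
    rw [← QuotientGroup.mk_pow]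
    exact (QuotientGroup.eq_one_iff _).2 h
  have hbtM : b ^ t ∈ M := by
    rw [← QuotientGroup.eq_one_iff, QuotientGroup.mk_pow, ← hcardQ]
    exact pow_card_eq_one'
  have hbt : b ^ t = 1 := by
    -- the order of `b ^ t` is a power of `t` dividing `|M|`
    have h1 : (b ^ t) ^ t ^ a = 1 := by
      calc (b ^ t) ^ t ^ a = (y ^ (t ^ a * u)) ^ t := by
            rw [hb, ← pow_mul, ← pow_mul, ← pow_mul]
            congr 1
            ring
        _ = 1 := by rw [← huo, pow_orderOf_eq_one, one_pow]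
    have h2 : orderOf (b ^ t) ∣ t ^ a := orderOf_dvd_of_pow_eq_one h1
    have h3 : orderOf (b ^ t) ∣ Nat.card M := by
      have h4 := orderOf_dvd_natCard (⟨b ^ t, hbtM⟩ : M)
      rwa [Subgroup.orderOf_mk] at h4
    have hcop : Nat.Coprime (t ^ a) (Nat.card M) :=
      Nat.Coprime.pow_left a ((Nat.Prime.coprime_iff_not_dvd ht).2 htM)
    have h5 := Nat.eq_one_of_dvd_coprimes hcop h2 h3
    exact orderOf_eq_one_iff.1 h5
  have hb1 : b ≠ 1 := by
    rintro hb1
    rw [hb1] at hbM
    exact hbM (one_mem _)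
  have hbo : orderOf b = t := orderOf_eq_prime hbt hb1
  -- the centre of `Q`
  refine ⟨Q ⊓ Subgroup.centralizer (Q : Set X), b, ?_, ?_, ?_, hbo, ?_, ?_⟩
  · intro hc
    haveI : Nontrivial Q := (Subgroup.nontrivial_iff_ne_bot Q).2 hQne
    haveI := hQp.center_nontrivial
    obtain ⟨z, hz⟩ := exists_ne (1 : Subgroup.center Q)
    apply hz
    have h1 : ((z : Q) : X) ∈ Q ⊓ Subgroup.centralizer (Q : Set X) := by
      refine ⟨(z : Q).2, Subgroup.mem_centralizer_iff.2 ?_⟩
      intro q hq
      have := (Subgroup.mem_center_iff.1 z.2) ⟨q, hq⟩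
      exact congrArg Subtype.val this
    rw [hc, Subgroup.mem_bot] at h1
    apply Subtype.ext
    apply Subtype.ext
    exact h1
  · refine ⟨⟨?_⟩⟩
    rintro ⟨x, hx1, hx2⟩ ⟨y', hy1, hy2⟩
    apply Subtype.ext
    exact (Subgroup.mem_centralizer_iff.1 hy2) x hx1
  · exact hQp.to_le inf_le_left
  · rintro x ⟨hx1, hx2⟩
    refine ⟨(Subgroup.mem_set_normalizer_iff.1 hbN x).1 hx1, Subgroup.mem_centralizer_iff.2 ?_⟩
    intro r hr
    have hr' : b⁻¹ * r * b ∈ Q := by
      rw [Subgroup.mem_set_normalizer_iff''] at hbN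
      exact (hbN r).1 hr
    have hcomm := (Subgroup.mem_centralizer_iff.1 hx2) _ hr'
    calc r * (b * x * b⁻¹) = b * ((b⁻¹ * r * b) * x) * b⁻¹ := by group
      _ = b * (x * (b⁻¹ * r * b)) * b⁻¹ := by rw [hcomm]
      _ = b * x * b⁻¹ * r := by group
  · rintro x ⟨hx1, -⟩ hfix
    by_contra hx
    obtain ⟨n, hn⟩ := (IsPGroup.iff_orderOf.1 hQp) ⟨x, hx1⟩
    have hxs : ∃ n, x ^ s ^ n = 1 := by
      refine ⟨n, ?_⟩
      have h1 := pow_orderOf_eq_one (⟨x, hx1⟩ : Q)
      rw [hn] at h1
      exact congrArg Subtype.val h1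
    obtain ⟨j, hj⟩ := exists_pow_orderOf_prime hs x hxs hx
    have hcomm : Commute (x ^ j) b := by
      apply Commute.pow_left
      have : x * b = b * x := by
        nth_rewrite 1 [← hfix]
        group
      exact this
    apply hno
    refine ⟨x ^ j * b, ?_⟩
    rw [hcomm.orderOf_mul_eq_mul_orderOf_of_coprime, hj, hbo]
    rw [hj, hbo]
    exact (Nat.coprime_primes hs ht).2 hst

/-- In a solvable group with no element of order `st` we get a Frobenius pair. -/
theorem exists_frobPair : ∀ (n : ℕ) (X : Type u) [Group X] [Finite X] [Group.IsSolvable X],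
    Nat.card X = n → ∀ (s t : ℕ), s.Prime → t.Prime → s ≠ t → s ∣ Nat.card X → t ∣ Nat.card X →
    (¬ ∃ x : X, orderOf x = s * t) → FrobPair X s t ∨ FrobPair X t s := by
  intro n
  induction n using Nat.strong_induction_on with
  | _ n ih =>
    intro X _ _ _ hn s t hs ht hst hsX htX hno
    haveI : Nontrivial X := by
      by_contra hc
      rw [not_nontrivial_iff_subsingleton] at hc
      have : Nat.card X = 1 := Nat.card_of_subsingleton (1 : X)
      rw [this] at hsX
      exact hs.one_lt.ne' (Nat.dvd_one.1 hsX)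
    obtain ⟨M, hMn, hMp⟩ := exists_normal_prime_index X
    haveI := hMn
    have hcard : Nat.card X = Nat.card M * M.index := (Subgroup.card_mul_index M).symm
    by_cases hsM : s ∣ Nat.card M
    · by_cases htM : t ∣ Nat.card M
      · -- recursion
        have hlt : Nat.card M < n := by
          rw [← hn, hcard]
          exact lt_mul_of_one_lt_right Nat.card_pos hMp.one_lt
        have hno' : ¬ ∃ x : M, orderOf x = s * t := by
          rintro ⟨x, hx⟩
          exact hno ⟨x, by rw [Subgroup.orderOf_coe, hx]⟩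
        rcases ih _ hlt M rfl s t hs ht hst hsM htM hno' with h | h
        · exact Or.inl (FrobPair.of_subgroup M h)
        · exact Or.inr (FrobPair.of_subgroup M h)
      · -- `t` is the index
        have hti : M.index = t := by
          rw [hcard] at htX
          have := (Nat.Prime.dvd_mul ht).1 htX
          rcases this with h | h
          · exact absurd h htM
          · exact ((Nat.prime_dvd_prime_iff_eq ht hMp).1 h).symm
        exact Or.inl (frobPair_of_normal hs ht hst M hti htM hsM hno)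
    · -- `s` is the index
      have hsi : M.index = s := by
        rw [hcard] at hsX
        have := (Nat.Prime.dvd_mul hs).1 hsX
        rcases this with h | h
        · exact absurd h hsM
        · exact ((Nat.prime_dvd_prime_iff_eq hs hMp).1 h).symm
      have htM : t ∣ Nat.card M := by
        rw [hcard] at htX
        rcases (Nat.Prime.dvd_mul ht).1 htX with h | h
        · exact h
        · exact absurd ((Nat.prime_dvd_prime_iff_eq ht hMp).1 h).symm (by rw [hsi]; exact hst)
      have hno' : ¬ ∃ x : X, orderOf x = t * s := by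
        rintro ⟨x, hx⟩
        exact hno ⟨x, by rw [hx, mul_comm]⟩
      exact Or.inr (frobPair_of_normal ht hs hst.symm M hsi hsM htM hno')

/-- The sum trick: a "Frobenius" action with `Ŝ = 0` and `T_b = 0` kills `|S|`. -/
lemma frobenius_sum {V Y : Type*} [CommGroup V] [Group Y] (φ : Y →* MulAut V) (S : Subgroup Y)
    [Finite S] (b : Y) (t : ℕ) (ht : 0 < t) (hbt : b ^ t = 1)
    (hnorm : ∀ x ∈ S, b * x * b⁻¹ ∈ S)
    (hfpf : ∀ i, 0 < i → i < t → ∀ x ∈ S, b ^ i * x * (b ^ i)⁻¹ = x → x = 1)
    (hSum : ∀ v : V, letI := Fintype.ofFinite S; ∏ f : S, φ f v = 1)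
    (hT : ∀ v : V, ∏ i ∈ Finset.range t, φ (b ^ i) v = 1) (v : V) :
    v ^ Nat.card S = 1 := by
  classical
  letI := Fintype.ofFinite S
  have hnp : ∀ n : ℕ, ∀ x ∈ S, b ^ n * x * (b ^ n)⁻¹ ∈ S := by
    intro n
    induction n with
    | zero =>
      intro x hx
      simpa using hx
    | succ n ih =>
      intro x hx
      have h1 := hnorm _ (ih x hx)
      have h2 : b ^ (n + 1) * x * (b ^ (n + 1))⁻¹ = b * (b ^ n * x * (b ^ n)⁻¹) * b⁻¹ := by
        rw [pow_succ']
        group
      rw [h2]
      exact h1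
  have hP : ∏ f : S, ∏ i ∈ Finset.range t, φ ((f : Y)⁻¹ * b ^ i * f) v = 1 := by
    apply Finset.prod_eq_one
    intro f _
    have h1 : ∀ i, φ ((f : Y)⁻¹ * b ^ i * f) v = φ (f : Y)⁻¹ (φ (b ^ i) (φ f v)) := by
      intro i
      simp only [map_mul, MulAut.mul_apply]
    simp only [h1]
    rw [← map_prod, hT, map_one]
  rw [Finset.prod_comm] at hP
  rw [Finset.prod_eq_single 0] at hP
  · -- the term i = 0
    simp only [pow_zero, mul_one, inv_mul_cancel, map_one, MulAut.one_apply, Finset.prod_const,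
      Finset.card_univ] at hP
    rwa [Nat.card_eq_fintype_card]
  · intro i hi hi0
    rw [Finset.mem_range] at hi
    have hipos : 0 < i := Nat.pos_of_ne_zero hi0
    set c := b ^ i with hc
    have hcinv : c⁻¹ = b ^ (t - i) := by
      rw [inv_eq_iff_mul_eq_one, hc, ← pow_add]
      rw [Nat.add_sub_cancel' hi.le, hbt]
    have hcS : ∀ x ∈ S, c⁻¹ * x * c ∈ S := by
      intro x hx
      have h1 := hnp (t - i) x hx
      rw [← hcinv, inv_inv] at h1
      exact h1
    let ψ : S → S := fun f => ⟨(c⁻¹ * (f : Y)⁻¹ * c) * f, S.mul_mem (hcS _ (S.inv_mem f.2)) f.2⟩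
    have hψinj : Function.Injective ψ := by
      intro f f' hff
      have h1 : c⁻¹ * (f : Y)⁻¹ * c * f = c⁻¹ * (f' : Y)⁻¹ * c * f' := congrArg Subtype.val hff
      set x : Y := (f : Y) * (f' : Y)⁻¹ with hx
      have hxS : x ∈ S := S.mul_mem f.2 (S.inv_mem f'.2)
      have h2 : c * x * c⁻¹ = x := by
        have h3 : c⁻¹ * x * c = x := by
          have h6 : (c⁻¹ * (f : Y)⁻¹ * c) * f * (f' : Y)⁻¹ = c⁻¹ * (f' : Y)⁻¹ * c := by
            rw [h1]
            group
          have h7 : (f : Y) * (f' : Y)⁻¹ = (c⁻¹ * (f : Y)⁻¹ * c)⁻¹ * (c⁻¹ * (f' : Y)⁻¹ * c) := by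
            rw [← h6]
            group
          have h8 : c⁻¹ * ((f : Y) * (f' : Y)⁻¹) * c = (c⁻¹ * (f : Y)⁻¹ * c)⁻¹ * (c⁻¹ * (f' : Y)⁻¹ * c) := by
            group
          exact h8.trans h7.symm
        calc c * x * c⁻¹ = c * (c⁻¹ * x * c) * c⁻¹ := by rw [h3]
          _ = x := by group
      have h3 := hfpf i hipos hi x hxS h2
      apply Subtype.ext
      rw [hx, mul_inv_eq_one] at h3
      exact h3
    have hψbij : Function.Bijective ψ := Finite.injective_iff_bijective.1 hψinj
    have h1 : ∀ f : S, φ ((f : Y)⁻¹ * c * f) v = φ c (φ ((ψ f : S) : Y) v) := by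
      intro f
      have : (f : Y)⁻¹ * c * f = c * ((ψ f : S) : Y) := by
        show _ = c * (c⁻¹ * (f : Y)⁻¹ * c * f)
        group
      rw [this, map_mul, MulAut.mul_apply]
    simp only [h1]
    rw [← map_prod]
    have h2 := hψbij.prod_comp (fun f : S => φ (f : Y) v)
    rw [h2]
    have h3 := hSum v
    have h4 : (∏ f : S, φ (f : Y) v) = 1 := by
      convert h3
    rw [h4, map_one]
  · intro h
    exact absurd (Finset.mem_range.2 ht) h

/-- Commuting elements of coprime prime orders give an element of the product order. -/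
lemma exists_orderOf_mul_of_commute {X : Type*} [Group X] {r t : ℕ} (hr : r.Prime) (ht : t.Prime)
    (hrt : r ≠ t) {v b : X} (hv : orderOf v = r) (hb : orderOf b = t) (h : v * b = b * v) :
    ∃ x : X, orderOf x = r * t := by
  refine ⟨v * b, ?_⟩
  have hc : Commute v b := h
  have hco : (orderOf v).Coprime (orderOf b) := by
    rw [hv, hb]
    haveI := Fact.mk hr
    haveI := Fact.mk ht
    exact (Nat.coprime_primes hr ht).2 hrt
  rw [hc.orderOf_mul_eq_mul_orderOf_of_coprime hco, hv, hb]

lemma frobPair_false {X : Type*} [Group X] [Finite X] (V : Subgroup X) [V.Normal] (hVne : V ≠ ⊥)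
    (hVab : IsMulCommutative V) {r s t : ℕ} (hr : r.Prime) (hs : s.Prime) (ht : t.Prime)
    (hrs : r ≠ s) (hrt : r ≠ t) (hV : ∀ v ∈ V, v ^ r = 1)
    (hno1 : ¬ ∃ x : X, orderOf x = r * s) (hno2 : ¬ ∃ x : X, orderOf x = r * t)
    (h : FrobPair X s t) : False := by
  classical
  haveI := Fact.mk hr
  haveI := Fact.mk hs
  obtain ⟨S, b, hS1, hSab, hSp, hb, hnorm, hfix⟩ := h
  letI : CommGroup V := { (inferInstance : Group V) with
    mul_comm := fun a b => hVab.is_comm.comm a b }
  let φ : X →* MulAut V := MulAut.conjNormal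
  have hφ : ∀ (x : X) (v : V), ((φ x v : V) : X) = x * v * x⁻¹ := by
    intro x v
    simp [φ, MulAut.conjNormal_apply]
  -- the order of a nontrivial element of `V`
  have hord : ∀ v : V, v ≠ 1 → orderOf ((v : X)) = r := by
    intro v hv
    apply orderOf_eq_prime (hV v v.2)
    intro h
    exact hv (Subtype.ext h)
  have hfixed : ∀ (g : X) (w : V) (o : ℕ), o.Prime → r ≠ o → orderOf g = o →
      (¬ ∃ x : X, orderOf x = r * o) → φ g w = w → w = 1 := by
    intro g w o ho hro hgo hno hw
    by_contra hw1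
    apply hno
    apply exists_orderOf_mul_of_commute hr ho hro (hord w hw1) hgo
    have h1 := congrArg Subtype.val hw
    rw [hφ] at h1
    -- `g * w * g⁻¹ = w`
    have h2 : g * (w : X) = (w : X) * g := by
      calc g * (w : X) = (g * (w : X) * g⁻¹) * g := by group
        _ = (w : X) * g := by rw [h1]
    exact h2.symm
  have hbt : b ^ t = 1 := by
    rw [← hb]
    exact pow_orderOf_eq_one b
  -- element of order `s` in `S`
  obtain ⟨c, hcS, hco⟩ : ∃ c ∈ S, orderOf c = s := by
    obtain ⟨a, ha⟩ := Subgroup.ne_bot_iff_exists_ne_one.1 hS1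
    have hxs : ∃ n, (a : X) ^ s ^ n = 1 := by
      obtain ⟨n, hn⟩ := hSp a
      exact ⟨n, congrArg Subtype.val hn⟩
    have ha1 : (a : X) ≠ 1 := fun h => ha (Subtype.ext h)
    obtain ⟨j, hj⟩ := exists_pow_orderOf_prime hs (a : X) hxs ha1
    exact ⟨(a : X) ^ j, S.pow_mem a.2 j, hj⟩
  have hT : ∀ v : V, ∏ i ∈ Finset.range t, φ (b ^ i) v = 1 := by
    intro v
    apply hfixed b _ t ht hrt hb hno2
    rw [map_prod]
    have h1 : ∀ i, φ b (φ (b ^ i) v) = φ (b ^ (i + 1)) v := by
      intro i
      rw [pow_succ', map_mul, MulAut.mul_apply]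
    simp only [h1]
    have h2 := Finset.prod_range_succ (fun i => φ (b ^ i) v) t
    have h3 := Finset.prod_range_succ' (fun i => φ (b ^ i) v) t
    have h4 : φ (b ^ t) v = φ (b ^ 0) v := by
      rw [hbt, pow_zero]
    rw [h2, h4] at h3
    exact (mul_right_cancel h3).symm
  have hSfin : Finite S := inferInstance
  have hSum : ∀ v : V, letI := Fintype.ofFinite S; ∏ f : S, φ f v = 1 := by
    intro v
    letI := Fintype.ofFinite S
    apply hfixed c _ s hs hrs hco hno1
    rw [map_prod]
    have h1 : ∀ f : S, φ c (φ (f : X) v) = φ (((⟨c, hcS⟩ : S) * f : S) : X) v := by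
      intro f
      simp only [Subgroup.coe_mul, map_mul, MulAut.mul_apply]
    simp only [h1]
    exact Fintype.prod_equiv (Equiv.mulLeft (⟨c, hcS⟩ : S)) _ _ (fun f => rfl)
  have hfpf : ∀ i, 0 < i → i < t → ∀ x ∈ S, b ^ i * x * (b ^ i)⁻¹ = x → x = 1 := by
    intro i hi hit x hx hxi
    have hcop : Nat.Coprime i t := by
      apply Nat.Coprime.symm
      rw [ht.coprime_iff_not_dvd]
      intro hd
      have := Nat.le_of_dvd hi hd
      omega
    obtain ⟨m, -, hm⟩ := Nat.exists_mul_mod_eq_one_of_coprime hcop ht.one_lt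
    have hb' : b = (b ^ i) ^ m := by
      rw [← pow_mul, ← pow_mod_orderOf, hb, hm, pow_one]
    have hc1 : Commute (b ^ i) x := by
      show b ^ i * x = x * b ^ i
      calc b ^ i * x = (b ^ i * x * (b ^ i)⁻¹) * b ^ i := by group
        _ = x * b ^ i := by rw [hxi]
    have hc2 : Commute b x := by
      rw [hb']
      exact hc1.pow_left m
    apply hfix x hx
    rw [hc2.eq]
    group
  have hmain := frobenius_sum φ S b t ht.pos hbt hnorm hfpf hSum hT
  apply hVne
  rw [Subgroup.eq_bot_iff_forall]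
  intro v hv
  obtain ⟨a, ha⟩ := IsPGroup.iff_card.1 hSp
  have h1 := hmain ⟨v, hv⟩
  rw [ha] at h1
  have h2 : orderOf (⟨v, hv⟩ : V) ∣ s ^ a := orderOf_dvd_of_pow_eq_one h1
  have h3 : orderOf (⟨v, hv⟩ : V) ∣ r := by
    apply orderOf_dvd_of_pow_eq_one
    exact Subtype.ext (hV v hv)
  have hcop : Nat.Coprime (s ^ a) r := by
    haveI := Fact.mk hr
    haveI := Fact.mk hs
    exact Nat.Coprime.pow_left a ((Nat.coprime_primes hs hr).2 hrs.symm)
  have h4 := Nat.eq_one_of_dvd_coprimes hcop h2 h3
  rw [orderOf_eq_one_iff] at h4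
  exact congrArg Subtype.val h4

/-- The three primes lemma, auxiliary form. -/
lemma three_primes_aux {X : Type u} [Group X] [Finite X] [Group.IsSolvable X] (V : Subgroup X)
    [V.Normal] (hVne : V ≠ ⊥) (hVab : IsMulCommutative V) {r s t : ℕ} (hr : r.Prime) (hs : s.Prime)
    (ht : t.Prime) (hrs : r ≠ s) (hrt : r ≠ t) (hst : s ≠ t) (hV : ∀ v ∈ V, v ^ r = 1)
    (hsX : s ∣ Nat.card X) (htX : t ∣ Nat.card X) :
    (∃ x : X, orderOf x = r * s) ∨ (∃ x : X, orderOf x = r * t) ∨ (∃ x : X, orderOf x = s * t) := by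
  by_contra hc
  push Not at hc
  obtain ⟨h1, h2, h3⟩ := hc
  have hno1 : ¬ ∃ x : X, orderOf x = r * s := fun ⟨x, hx⟩ => h1 x hx
  have hno2 : ¬ ∃ x : X, orderOf x = r * t := fun ⟨x, hx⟩ => h2 x hx
  have hno3 : ¬ ∃ x : X, orderOf x = s * t := fun ⟨x, hx⟩ => h3 x hx
  rcases exists_frobPair _ X rfl s t hs ht hst hsX htX hno3 with h | h
  · exact frobPair_false V hVne hVab hr hs ht hrs hrt hV hno1 hno2 h
  · exact frobPair_false V hVne hVab hr ht hs hrt hrs hV hno2 hno1 h

/-- **Three primes lemma** (Lucido): a finite solvable group whose order is divisible by three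
distinct primes has an element whose order is the product of two of them. -/
theorem three_primes : ∀ (n : ℕ) (X : Type u) [Group X] [Finite X] [Group.IsSolvable X],
    Nat.card X = n → ∀ {r s t : ℕ}, r.Prime → s.Prime → t.Prime → r ≠ s → r ≠ t → s ≠ t →
    r ∣ Nat.card X → s ∣ Nat.card X → t ∣ Nat.card X →
    (∃ x : X, orderOf x = r * s) ∨ (∃ x : X, orderOf x = r * t) ∨ (∃ x : X, orderOf x = s * t) := by
  intro n
  induction n using Nat.strong_induction_on with
  | _ n ih =>
    intro X _ _ _ hn r s t hr hs ht hrs hrt hst hrX hsX htX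
    haveI : Nontrivial X := by
      by_contra hc
      rw [not_nontrivial_iff_subsingleton] at hc
      have : Nat.card X = 1 := Nat.card_of_subsingleton (1 : X)
      rw [this] at hsX
      exact hs.one_lt.ne' (Nat.dvd_one.1 hsX)
    obtain ⟨V, l, hVn, hVne, hl, hVab, hVl⟩ := H01.exists_elementary_abelian_normal (G := X)
    haveI := hVn
    have hcard : Nat.card X = Nat.card (X ⧸ V) * Nat.card V :=
      Subgroup.card_eq_card_quotient_mul_card_subgroup V
    have hVpos : 1 < Nat.card V := by
      have h1 : Nat.card V ≠ 1 := fun h => hVne ((Subgroup.card_eq_one).1 h)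
      have h2 : 0 < Nat.card V := Nat.card_pos
      omega
    -- primes dividing `V` are `l`
    have hVprime : ∀ p : ℕ, p.Prime → p ∣ Nat.card V → p = l := by
      intro p hp hpd
      haveI := Fact.mk hp
      obtain ⟨v, hv⟩ := exists_prime_orderOf_dvd_card' p hpd
      have h1 : orderOf v ∣ l := by
        apply orderOf_dvd_of_pow_eq_one
        exact Subtype.ext (hVl v v.2)
      rw [hv] at h1
      exact (Nat.prime_dvd_prime_iff_eq hp hl).1 h1
    by_cases hrQ : r ∣ Nat.card (X ⧸ V)
    · by_cases hsQ : s ∣ Nat.card (X ⧸ V)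
      · by_cases htQ : t ∣ Nat.card (X ⧸ V)
        · -- induction
          have hlt : Nat.card (X ⧸ V) < n := by
            rw [← hn, hcard]
            exact lt_mul_of_one_lt_right Nat.card_pos hVpos
          have h := ih _ hlt (X ⧸ V) rfl hr hs ht hrs hrt hst hrQ hsQ htQ
          rcases h with ⟨y, hy⟩ | ⟨y, hy⟩ | ⟨y, hy⟩
          · obtain ⟨x, hx⟩ := exists_orderOf_of_quotient V l hl hVl y
            exact Or.inl ⟨x, hx.trans hy⟩
          · obtain ⟨x, hx⟩ := exists_orderOf_of_quotient V l hl hVl y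
            exact Or.inr (Or.inl ⟨x, hx.trans hy⟩)
          · obtain ⟨x, hx⟩ := exists_orderOf_of_quotient V l hl hVl y
            exact Or.inr (Or.inr ⟨x, hx.trans hy⟩)
        · -- `t` divides `V`
          have h1 : t ∣ Nat.card V := by
            rw [hcard] at htX
            exact ((Nat.Prime.dvd_mul ht).1 htX).resolve_left htQ
          have h2 := hVprime t ht h1
          subst h2
          rcases three_primes_aux V hVne hVab ht hr hs hrt.symm hst.symm hrs hVl hrX hsX with
            ⟨x, hx⟩ | ⟨x, hx⟩ | h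
          · exact Or.inr (Or.inl ⟨x, by rw [hx, mul_comm]⟩)
          · exact Or.inr (Or.inr ⟨x, by rw [hx, mul_comm]⟩)
          · exact Or.inl h
      · have h1 : s ∣ Nat.card V := by
          rw [hcard] at hsX
          exact ((Nat.Prime.dvd_mul hs).1 hsX).resolve_left hsQ
        have h2 := hVprime s hs h1
        subst h2
        rcases three_primes_aux V hVne hVab hs hr ht hrs.symm hst hrt hVl hrX htX with
          ⟨x, hx⟩ | h | h
        · exact Or.inl ⟨x, by rw [hx, mul_comm]⟩
        · exact Or.inr (Or.inr h)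
        · exact Or.inr (Or.inl h)
    · have h1 : r ∣ Nat.card V := by
        rw [hcard] at hrX
        exact ((Nat.Prime.dvd_mul hr).1 hrX).resolve_left hrQ
      have h2 := hVprime r hr h1
      subst h2
      exact three_primes_aux V hVne hVab hr hs ht hrs hrt hst hVl hsX htX

/-- A product `A B` with `B` normalizing `A` of solvable subgroups is solvable. -/
theorem sol_sup {G : Type*} [Group G] (A B : Subgroup G)
    (hAB : B ≤ normalizer (A : Set G)) (hA : Group.IsSolvable A) (hB : Group.IsSolvable B) :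
    Group.IsSolvable ↥(A ⊔ B) := by
  classical
  set Z := A ⊔ B with hZ
  have hAZ : A ≤ Z := le_sup_left
  have hBZ : B ≤ Z := le_sup_right
  have hn : (A.subgroupOf Z).Normal :=
    (Subgroup.normal_subgroupOf_iff_le_normalizer hAZ).2 (sup_le le_normalizer hAB)
  have hA' : Group.IsSolvable (A.subgroupOf Z) :=
    Group.isSolvable_of_isSolvable_injective (f := (Subgroup.subgroupOfEquivOfLe hAZ).toMonoidHom)
      (Subgroup.subgroupOfEquivOfLe hAZ).injective
  -- surjection from `B` onto the quotient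
  let g : B →* Z ⧸ A.subgroupOf Z := (QuotientGroup.mk' (A.subgroupOf Z)).comp (Subgroup.inclusion hBZ)
  have hg : Function.Surjective g := by
    intro y
    obtain ⟨z, rfl⟩ := QuotientGroup.mk_surjective y
    have hsup : A.subgroupOf Z ⊔ B.subgroupOf Z = ⊤ := by
      rw [← Subgroup.subgroupOf_sup hAZ hBZ, Subgroup.subgroupOf_self]
    have hle : (⊤ : Subgroup Z) ≤ (g.range).comap (QuotientGroup.mk' (A.subgroupOf Z)) := by
      rw [← hsup]
      apply sup_le
      · intro a ha
        simp only [Subgroup.mem_comap]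
        have : (QuotientGroup.mk' (A.subgroupOf Z)) a = 1 := (QuotientGroup.eq_one_iff a).2 ha
        rw [this]
        exact one_mem _
      · intro b hb
        simp only [Subgroup.mem_comap]
        exact ⟨⟨b, hb⟩, rfl⟩
    exact hle (Subgroup.mem_top z)
  have hQ : Group.IsSolvable (Z ⧸ A.subgroupOf Z) := Group.isSolvable_of_surjective hg
  exact Group.isSolvable_of_ker_le_range (A.subgroupOf Z).subtype (QuotientGroup.mk' (A.subgroupOf Z))
    (by
      intro x hx
      rw [QuotientGroup.ker_mk'] at hx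
      exact ⟨⟨x, hx⟩, rfl⟩)

end Cfsg.Agent.H17
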