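import Mathlib

/-!
A finite abelian group acting irreducibly on an abelian group acts through a cyclic quotient.
-/

set_option autoImplicit false
set_option linter.style.haveILetI false

namespace Cfsg.Agent.H17

lemma cyc_aux {A S : Type*} [CommGroup A] [Finite A] [CommRing S] [IsDomain S] (ψ : A →* S) :
    ∃ a : A, ∀ a' : A, ∃ k : ℤ, ψ a' = ψ (a ^ k) := by
  let ψu : A →* Sˣ := ψ.toHomUnits
  let f : A ⧸ ψu.ker →* S := (Units.coeHom S).comp (QuotientGroup.kerLift ψu)
  have hf : Function.Injective f :=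
    Units.val_injective.comp (QuotientGroup.kerLift_injective ψu)
  have hcyc : IsCyclic (A ⧸ ψu.ker) := isCyclic_of_injective_ringHom f hf
  obtain ⟨g, hg⟩ := hcyc.exists_generator
  obtain ⟨a, rfl⟩ := QuotientGroup.mk_surjective g
  refine ⟨a, ?_⟩
  intro a'
  obtain ⟨k, hk⟩ := hg (a' : A ⧸ ψu.ker)
  refine ⟨k, ?_⟩
  have h1 : ((a ^ k : A) : A ⧸ ψu.ker) = (a' : A ⧸ ψu.ker) := by
    rw [QuotientGroup.mk_zpow]
    exact hk
  have h2 : f ((a ^ k : A) : A ⧸ ψu.ker) = ψ (a ^ k) := rfl
  have h3 : f ((a' : A) : A ⧸ ψu.ker) = ψ a' := rfl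
  rw [h1] at h2
  rw [← h2, h3]

/-- A commutative subring (given by a predicate on a ring) where nonzero elements are not
zero divisors. We package the ring structure by hand to keep elaboration light. -/
lemma exists_gen_of_domain_closure {A R : Type*} [CommGroup A] [Finite A] [Ring R] [Nontrivial R]
    (φ : A →* R) (hdom : ∀ r ∈ Subring.closure (Set.range φ), ∀ t ∈ Subring.closure (Set.range φ),
      r * t = 0 → r = 0 ∨ t = 0) :
    ∃ a : A, ∀ a' : A, ∃ k : ℤ, φ a' = φ (a ^ k) := by
  have hcomm : ∀ x ∈ Set.range φ, ∀ y ∈ Set.range φ, x * y = y * x := by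
    rintro _ ⟨a, rfl⟩ _ ⟨b, rfl⟩
    rw [← map_mul, ← map_mul, mul_comm]
  letI : CommRing (Subring.closure (Set.range φ)) := Subring.closureCommRingOfComm hcomm
  haveI : NoZeroDivisors (Subring.closure (Set.range φ)) := by
    refine ⟨?_⟩
    rintro ⟨x, hx⟩ ⟨y, hy⟩ hxy
    rcases hdom x hx y hy (congrArg Subtype.val hxy) with h | h
    · exact Or.inl (Subtype.ext h)
    · exact Or.inr (Subtype.ext h)
  haveI : Nontrivial (Subring.closure (Set.range φ)) := by
    refine ⟨⟨0, 1, ?_⟩⟩
    intro h
    exact zero_ne_one (congrArg Subtype.val h)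
  haveI : IsDomain (Subring.closure (Set.range φ)) := NoZeroDivisors.to_isDomain _
  let ψ : A →* Subring.closure (Set.range φ) :=
    { toFun := fun a => ⟨φ a, Subring.subset_closure ⟨a, rfl⟩⟩
      map_one' := Subtype.ext (map_one φ)
      map_mul' := fun a b => Subtype.ext (map_mul φ a b) }
  obtain ⟨a, ha⟩ := cyc_aux ψ
  refine ⟨a, fun a' => ?_⟩
  obtain ⟨k, hk⟩ := ha a'
  exact ⟨k, congrArg Subtype.val hk⟩

theorem exists_gen_of_irreducible {A W : Type*} [CommGroup A] [Finite A] [AddCommGroup W]
    [Nontrivial W] (φ : A →* AddMonoid.End W)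
    (hirr : ∀ U : AddSubgroup W, (∀ a, ∀ u ∈ U, φ a u ∈ U) → U = ⊥ ∨ U = ⊤) :
    ∃ a : A, ∀ a' : A, ∃ k : ℤ, φ a' = φ (a ^ k) := by
  classical
  have hcomm : ∀ x ∈ Set.range φ, ∀ y ∈ Set.range φ, x * y = y * x := by
    rintro _ ⟨a, rfl⟩ _ ⟨b, rfl⟩
    rw [← map_mul, ← map_mul, mul_comm]
  -- elements of the closure commute with the action
  have hcentral : ∀ r ∈ Subring.closure (Set.range φ), ∀ a : A, r * φ a = φ a * r := by
    intro r hr a
    induction hr using Subring.closure_induction with
    | mem x hx => exact hcomm x hx _ ⟨a, rfl⟩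
    | zero => simp
    | one => simp
    | add x y _ _ hx hy => rw [add_mul, mul_add, hx, hy]
    | neg x _ hx => rw [neg_mul, mul_neg, hx]
    | mul x y _ _ hx hy => rw [mul_assoc, hy, ← mul_assoc, hx, mul_assoc]
  have hinj : ∀ r ∈ Subring.closure (Set.range φ), r ≠ 0 → ∀ w, r w = 0 → w = 0 := by
    intro r hr hr0
    let U : AddSubgroup W :=
      { carrier := {u | r u = 0}
        zero_mem' := map_zero r
        add_mem' := fun {a b} ha hb => by
          show r (a + b) = 0
          rw [map_add, show r a = 0 from ha, show r b = 0 from hb, add_zero]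
        neg_mem' := fun {a} ha => by
          show r (-a) = 0
          rw [map_neg, show r a = 0 from ha, neg_zero] }
    have hker : U = ⊥ ∨ U = ⊤ := by
      apply hirr
      intro a u hu
      have h1 := congrArg (fun f : AddMonoid.End W => f u) (hcentral r hr a)
      show r (φ a u) = 0
      have h2 : r (φ a u) = φ a (r u) := h1
      rw [h2, show r u = 0 from hu, map_zero]
    rcases hker with h | h
    · intro w hw
      have : w ∈ U := hw
      rw [h] at this
      simpa using this
    · exfalso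
      apply hr0
      ext x
      have : x ∈ U := by rw [h]; trivial
      exact this
  haveI : Nontrivial (AddMonoid.End W) := by
    refine ⟨⟨0, 1, ?_⟩⟩
    intro h1
    obtain ⟨w, hw⟩ := exists_ne (0 : W)
    have h2 : (0 : W) = w := congrArg (fun f : AddMonoid.End W => f w) h1
    exact hw h2.symm
  apply exists_gen_of_domain_closure φ
  intro r hr t ht hrt
  by_cases hr0 : r = 0
  · exact Or.inl hr0
  · right
    ext w
    apply hinj r hr hr0
    exact congrArg (fun f : AddMonoid.End W => f w) hrt

end Cfsg.Agent.H17
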