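import Cfsg.Agent.Lib.H17.Derangement

set_option autoImplicit false
set_option linter.style.haveILetI false

namespace Cfsg.Agent.H17

open MulAction
open scoped Pointwise

variable {G Ω : Type*} [Group G] [MulAction G Ω]

lemma natCard_orbit_mul_stabilizer {K S : Type*} [Group K] [MulAction K S] [Finite K] (t : S) :
    Nat.card (orbit K t) * Nat.card (stabilizer K t) = Nat.card K := by
  have h := Subgroup.card_mul_index (stabilizer K t)
  rw [MulAction.index_stabilizer, ← Nat.card_coe_set_eq, mul_comm] at h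
  exact h

/-- Index of `D` = index of `H ∩ D` in `H`. -/
lemma card_stab_eq [Finite G] [IsPretransitive G Ω] (a : Ω) :
    Nat.card ((derSub G Ω).subgroupOf (stabilizer G a)) * (derSub G Ω).index =
      Nat.card (stabilizer G a) := by
  have h1 : (derSub G Ω).relIndex (stabilizer G a) = (derSub G Ω).index := by
    have h2 := Subgroup.relIndex_sup_left (stabilizer G a) (derSub G Ω)
    rw [sup_comm, stabilizer_sup_derSub a] at h2
    rw [← h2, Subgroup.relIndex_top_right]
  rw [← h1]
  exact Subgroup.card_mul_index _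

/-- Main divisibility lemma: a finite `H`-set whose point stabilizers all lie in `D`. -/
lemma index_dvd_card_of_stab_le [Finite G] [IsPretransitive G Ω] (a : Ω)
    (S : Type*) [MulAction (stabilizer G a) S] [Finite S]
    (hS : ∀ (x : stabilizer G a) (t : S), x • t = t → (x : G) ∈ derSub G Ω) :
    (derSub G Ω).index ∣ Nat.card S := by
  classical
  have hcard := card_stab_eq (G := G) a
  have hNpos : 0 < Nat.card ((derSub G Ω).subgroupOf (stabilizer G a)) := Nat.card_pos
  -- orbits
  have horb : ∀ t : S, (derSub G Ω).index ∣ Nat.card (orbit (stabilizer G a) t) := by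
    intro t
    have hos := natCard_orbit_mul_stabilizer (K := stabilizer G a) t
    have hle : stabilizer (stabilizer G a) t ≤ (derSub G Ω).subgroupOf (stabilizer G a) := by
      intro x hx
      rw [Subgroup.mem_subgroupOf]
      exact hS x t (mem_stabilizer_iff.mp hx)
    have hdvd : Nat.card (stabilizer (stabilizer G a) t) ∣
        Nat.card ((derSub G Ω).subgroupOf (stabilizer G a)) := Subgroup.card_dvd_of_le hle
    obtain ⟨c, hc⟩ := hdvd
    have hspos : 0 < Nat.card (stabilizer (stabilizer G a) t) := Nat.card_pos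
    rw [← hcard, hc] at hos
    refine ⟨c, ?_⟩
    have : Nat.card (orbit (stabilizer G a) t) * Nat.card (stabilizer (stabilizer G a) t) =
        ((derSub G Ω).index * c) * Nat.card (stabilizer (stabilizer G a) t) := by
      rw [hos]; ring
    exact Nat.eq_of_mul_eq_mul_right hspos this
  have hequiv := Nat.card_congr (MulAction.selfEquivSigmaOrbits (stabilizer G a) S)
  haveI : Fintype (orbitRel.Quotient (stabilizer G a) S) := Fintype.ofFinite _
  rw [hequiv, Nat.card_sigma]
  exact Finset.dvd_sum (fun q _ => horb _)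

/-- A `H`-invariant set of points not containing `a` has size divisible by the index. -/
lemma index_dvd_ncard [Finite G] [Finite Ω] [IsPretransitive G Ω] (a : Ω) (S : Set Ω)
    (ha : a ∉ S) (hinv : ∀ x ∈ stabilizer G a, ∀ t ∈ S, x • t ∈ S) :
    (derSub G Ω).index ∣ S.ncard := by
  let T : SubMulAction (stabilizer G a) Ω :=
    { carrier := S
      smul_mem' := fun c t ht => hinv c c.2 t ht }
  have hT : Nat.card T = S.ncard := Nat.card_coe_set_eq S
  rw [← hT]
  apply index_dvd_card_of_stab_le a
  intro x t hxt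
  by_contra hx
  have h1 := card_fixedBy_eq_one (Ω := Ω) hx
  have hmem1 : a ∈ fixedBy Ω (x : G) := x.2
  have hmem2 : (t : Ω) ∈ fixedBy Ω (x : G) := by
    have := congrArg Subtype.val hxt
    exact this
  have hne : a ≠ t := fun h => ha (by rw [h]; exact t.2)
  have h2 : Nat.card (fixedBy Ω (x : G)) = Set.ncard (fixedBy Ω (x : G)) :=
    (Nat.card_coe_set_eq _)
  rw [h2, Set.ncard_eq_one] at h1
  obtain ⟨z, hz⟩ := h1
  rw [hz] at hmem1 hmem2
  exact hne (hmem1.trans hmem2.symm)

/-- The index of `D` divides `n - 1`. -/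
theorem index_dvd_card_sub_one [Finite G] [Finite Ω] [IsPretransitive G Ω] (hn : 2 ≤ Nat.card Ω) :
    (derSub G Ω).index ∣ Nat.card Ω - 1 := by
  have hne : Nonempty Ω := (Nat.card_pos_iff.mp (by omega)).1
  obtain ⟨a⟩ := hne
  have := index_dvd_ncard (G := G) a ({a}ᶜ : Set Ω) (by simp) ?_
  · rw [Set.ncard_compl, Set.ncard_singleton] at this
    exact this
  · intro x hx t ht
    simp only [Set.mem_compl_iff, Set.mem_singleton_iff] at ht ⊢
    intro h
    apply ht
    have hx' : x • a = a := hx
    have := congrArg (fun y => x⁻¹ • y) (h.trans hx'.symm)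
    simpa using this

/-- If the index equals `n - 1` then `n` is a prime power. -/
theorem isPrimePow_of_index_eq [Finite G] [Finite Ω] [FaithfulSMul G Ω] [IsPretransitive G Ω]
    (hn : 2 ≤ Nat.card Ω) (hm : (derSub G Ω).index = Nat.card Ω - 1) : IsPrimePow (Nat.card Ω) := by
  classical
  have hne : Nonempty Ω := (Nat.card_pos_iff.mp (by omega)).1
  obtain ⟨a⟩ := hne
  set D := derSub G Ω with hD
  set H := stabilizer G a with hH
  set N := D.subgroupOf H with hN
  have hcard : Nat.card N * D.index = Nat.card H := card_stab_eq (G := G) a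
  have hmpos : 0 < D.index := Nat.pos_of_ne_zero Subgroup.index_ne_zero_of_finite
  -- two point stabilizers
  have hfix2 : ∀ x : H, ∀ t : Ω, t ≠ a → x • t = t → (x : G) ∈ D := by
    intro x t ht hxt
    by_contra hx
    have h1 := card_fixedBy_eq_one (Ω := Ω) hx
    have hmem1 : a ∈ fixedBy Ω (x : G) := x.2
    have hmem2 : t ∈ fixedBy Ω (x : G) := hxt
    have h2 : Nat.card (fixedBy Ω (x : G)) = Set.ncard (fixedBy Ω (x : G)) :=
      (Nat.card_coe_set_eq _)
    rw [h2, Set.ncard_eq_one] at h1
    obtain ⟨z, hz⟩ := h1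
    rw [hz] at hmem1 hmem2
    exact ht (hmem2.trans hmem1.symm)
  -- H-orbit of t ≠ a
  let X : SubMulAction H Ω :=
    { carrier := {a}ᶜ
      smul_mem' := by
        intro c t ht
        simp only [Set.mem_compl_iff, Set.mem_singleton_iff] at ht ⊢
        intro h
        apply ht
        have hx' : c • a = a := c.2
        have := congrArg (fun y => c⁻¹ • y) (h.trans hx'.symm)
        simpa using this }
  have hXcard : Nat.card X = Nat.card Ω - 1 := by
    have : Nat.card X = Set.ncard ({a}ᶜ : Set Ω) := Nat.card_coe_set_eq _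
    rw [this, Set.ncard_compl, Set.ncard_singleton]
  -- key: for t ≠ a, H-orbit is everything and stabilizer = N
  have hkey : ∀ t : X, Nat.card (orbit H t) = D.index ∧ stabilizer H t = N := by
    intro t
    have hos := natCard_orbit_mul_stabilizer (K := H) t
    have hle : stabilizer H t ≤ N := by
      intro x hx
      rw [Subgroup.mem_subgroupOf]
      apply hfix2 x t.1 t.2
      exact congrArg Subtype.val hx
    obtain ⟨c, hc⟩ := Subgroup.card_dvd_of_le hle
    have hspos : 0 < Nat.card (stabilizer H t) := Nat.card_pos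
    have h1 : Nat.card (orbit H t) = D.index * c := by
      have : Nat.card (orbit H t) * Nat.card (stabilizer H t) =
          (D.index * c) * Nat.card (stabilizer H t) := by
        rw [hos, ← hcard, hc]; ring
      exact Nat.eq_of_mul_eq_mul_right hspos this
    have h2 : Nat.card (orbit H t) ≤ D.index := by
      rw [hm, ← hXcard]
      exact Nat.card_le_card_of_injective Subtype.val Subtype.val_injective
    have hcpos : 0 < c := by
      haveI : Nonempty (orbit H t) := ⟨⟨t, mem_orbit_self t⟩⟩
      have : 0 < Nat.card (orbit H t) := Nat.card_pos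
      rw [h1] at this
      rcases Nat.eq_zero_or_pos c with h0 | h0
      · simp [h0] at this
      · exact h0
    have hc1 : c = 1 := by
      have : D.index * c ≤ D.index * 1 := by rw [← h1, mul_one]; exact h2
      have := Nat.le_of_mul_le_mul_left this hmpos
      omega
    subst hc1
    refine ⟨by rw [h1, mul_one], ?_⟩
    apply Subgroup.eq_of_le_of_card_ge hle
    rw [hc, mul_one]
  -- N acts trivially so N = ⊥
  have hNbot : N = ⊥ := by
    rw [eq_bot_iff]
    intro x hx
    rw [Subgroup.mem_bot]
    apply Subtype.ext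
    apply FaithfulSMul.eq_of_smul_eq_smul (α := Ω)
    intro t
    rw [Subgroup.coe_one, one_smul]
    by_cases ht : t = a
    · rw [ht]; exact x.2
    · have : x ∈ stabilizer H (⟨t, ht⟩ : X) := by
        rw [(hkey ⟨t, ht⟩).2]; exact hx
      exact congrArg Subtype.val this
  -- H transitive on X
  have htransX : ∀ s t : X, ∃ h : H, h • s = t := by
    intro s t
    have horb_univ : orbit H s = Set.univ := by
      have hcardeq : Set.ncard (orbit H s) = Nat.card X := by
        rw [← Nat.card_coe_set_eq, (hkey s).1, hm, hXcard]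
      apply Set.eq_of_subset_of_ncard_le (Set.subset_univ _)
      rw [hcardeq, Set.ncard_univ]
    have : t ∈ orbit H s := by rw [horb_univ]; trivial
    obtain ⟨h, hh⟩ := this
    exact ⟨h, hh⟩
  -- D ∩ H trivial
  have hDH : ∀ d ∈ D, d • a = a → d = 1 := by
    intro d hd hda
    have : (⟨d, hda⟩ : H) ∈ N := by
      rw [Subgroup.mem_subgroupOf]; exact hd
    rw [hNbot, Subgroup.mem_bot] at this
    exact congrArg Subtype.val this
  haveI : IsPretransitive D Ω := derSub_pretransitive
  -- |D| = n
  have hDcard : Nat.card D = Nat.card Ω := by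
    have hos := natCard_orbit_mul_stabilizer (K := D) a
    rw [MulAction.orbit_eq_univ] at hos
    have hst : stabilizer D a = ⊥ := by
      rw [eq_bot_iff]
      intro d hd
      rw [Subgroup.mem_bot]
      exact Subtype.ext (hDH d d.2 hd)
    rw [hst] at hos
    simpa using hos.symm
  -- all non-identity elements conjugate
  have hconj : ∀ d₁ d₂ : D, d₁ ≠ 1 → d₂ ≠ 1 → orderOf d₁ = orderOf d₂ := by
    intro d₁ d₂ h₁ h₂
    have hb : ∀ d : D, d ≠ 1 → (d : G) • a ≠ a := by
      intro d hd h
      exact hd (Subtype.ext (hDH d d.2 h))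
    obtain ⟨h, hh⟩ := htransX ⟨(d₁ : G) • a, hb d₁ h₁⟩ ⟨(d₂ : G) • a, hb d₂ h₂⟩
    have hh' : (h : G) • (d₁ : G) • a = (d₂ : G) • a := congrArg Subtype.val hh
    have hnormal : ((h : G) * (d₁ : G) * (h : G)⁻¹) ∈ D := (inferInstance : (derSub G Ω).Normal).conj_mem _ d₁.2 _
    have he : (d₂ : G)⁻¹ * ((h : G) * (d₁ : G) * (h : G)⁻¹) = 1 := by
      apply hDH _ (D.mul_mem (D.inv_mem d₂.2) hnormal)
      have hha : (h : G)⁻¹ • a = a := by
        rw [inv_smul_eq_iff]
        exact (h.2 : (h : G) • a = a).symm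
      simp only [mul_smul, hha, hh', inv_smul_smul]
    have he' : (h : G) * (d₁ : G) * (h : G)⁻¹ = d₂ := by
      have := congrArg (fun y => (d₂ : G) * y) he
      simpa using this
    have h1 : orderOf (d₂ : G) = orderOf (d₁ : G) := by
      rw [← he']
      exact (MulAut.conj (h : G)).orderOf_eq (d₁ : G)
    simp only [Subgroup.orderOf_coe] at h1
    exact h1.symm
  -- prime
  have hn1 : Nat.card Ω ≠ 1 := by omega
  obtain ⟨p, hp, hpd⟩ := Nat.exists_prime_and_dvd hn1
  haveI : Fact p.Prime := ⟨hp⟩
  obtain ⟨d₀, hd₀⟩ := exists_prime_orderOf_dvd_card' (G := D) p (by rw [hDcard]; exact hpd)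
  have hd₀1 : d₀ ≠ 1 := by
    intro h
    rw [h, orderOf_one] at hd₀
    exact hp.one_lt.ne hd₀
  have hpg : IsPGroup p D := by
    intro d
    by_cases hd : d = 1
    · exact ⟨0, by simp [hd]⟩
    · refine ⟨1, ?_⟩
      rw [pow_one, ← hd₀, hconj d₀ d hd₀1 hd]
      exact pow_orderOf_eq_one d
  obtain ⟨k, hk⟩ := IsPGroup.iff_card.mp hpg
  rw [isPrimePow_nat_iff]
  refine ⟨p, k, hp, ?_, by rw [← hk, hDcard]⟩
  rcases Nat.eq_zero_or_pos k with h0 | h0
  · rw [h0, pow_zero, hDcard] at hk
    omega
  · exact h0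

/-- Imprimitive case: `(m+1)^2 ≤ n`. -/
theorem index_bound_of_block [Finite G] [Finite Ω] [IsPretransitive G Ω]
    (B : Set Ω) (hB : IsBlock G B) (hB2 : ¬ B.Subsingleton) (hBu : B ≠ Set.univ) :
    ((derSub G Ω).index + 1) ^ 2 ≤ Nat.card Ω := by
  classical
  obtain ⟨a, ha, b₀, hb₀, hab⟩ : ∃ a ∈ B, ∃ b ∈ B, a ≠ b := by
    by_contra h
    push Not at h
    exact hB2 (fun x hx y hy => h x hx y hy)
  set m := (derSub G Ω).index with hm
  have hmpos : 0 < m := Nat.pos_of_ne_zero Subgroup.index_ne_zero_of_finite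
  have hstab := hB.stabilizer_le ha
  have hinvB : ∀ x ∈ stabilizer G a, ∀ t ∈ B, x • t ∈ B := by
    intro x hx t ht
    have h1 : x ∈ stabilizer G B := hstab hx
    have h2 : x • B = B := h1
    rw [← h2]
    exact Set.smul_mem_smul_set ht
  have hinvBc : ∀ x ∈ stabilizer G a, ∀ t ∈ Bᶜ, x • t ∈ Bᶜ := by
    intro x hx t ht htB
    apply ht
    have := hinvB x⁻¹ (Subgroup.inv_mem _ hx) _ htB
    simpa using this
  have hinj : ∀ x ∈ stabilizer G a, ∀ t : Ω, t ≠ a → x • t ≠ a := by
    intro x hx t ht h
    apply ht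
    have hx' : x • a = a := hx
    have := congrArg (fun y => x⁻¹ • y) (h.trans hx'.symm)
    simpa using this
  have h1 : m ∣ (B \ {a}).ncard := by
    apply index_dvd_ncard a _ (by simp)
    rintro x hx t ⟨htB, hta⟩
    exact ⟨hinvB x hx t htB, hinj x hx t hta⟩
  have h2 : m ∣ (Bᶜ).ncard := by
    apply index_dvd_ncard a _ (by simpa using ha)
    exact hinvBc
  set b := B.ncard with hb
  have hb1 : (B \ {a}).ncard = b - 1 := by
    rw [Set.ncard_diff_singleton_of_mem ha]
  have hb2 : (Bᶜ).ncard = Nat.card Ω - b := Set.ncard_compl B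
  rw [hb1] at h1
  rw [hb2] at h2
  have hBne : B.Nonempty := ⟨a, ha⟩
  have hprod := hB.ncard_block_mul_ncard_orbit_eq hBne
  set c := Set.ncard (orbit G B) with hc
  rw [← hb] at hprod
  have hb2' : 2 ≤ b := by
    have : 1 < B.ncard := by
      rw [Set.one_lt_ncard (Set.toFinite _)]
      exact ⟨a, ha, b₀, hb₀, hab⟩
    exact this
  have hblt : b < Nat.card Ω := by
    have : B.ncard < (Set.univ : Set Ω).ncard := Set.ncard_lt_ncard (lt_of_le_of_ne (Set.subset_univ _) hBu) (Set.toFinite _)
    simpa using this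
  have hc2 : 2 ≤ c := by
    by_contra hlt
    have hc' : c = 0 ∨ c = 1 := by omega
    rcases hc' with h | h
    · rw [h, mul_zero] at hprod
      omega
    · rw [h, mul_one] at hprod
      omega
  -- arithmetic
  have hbm : m ≤ b - 1 := Nat.le_of_dvd (by omega) h1
  obtain ⟨u, hu⟩ := h1
  obtain ⟨v, hv⟩ := h2
  have hdvdc : (m : ℤ) ∣ (c : ℤ) - 1 := by
    refine ⟨(u : ℤ) + v - u * c, ?_⟩
    have hb' : (b : ℤ) = 1 + m * u := by
      have : b = 1 + m * u := by omega
      exact_mod_cast this
    have hn' : (Nat.card Ω : ℤ) = b + m * v := by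
      have : Nat.card Ω = b + m * v := by omega
      exact_mod_cast this
    have hp' : (b : ℤ) * c = Nat.card Ω := by exact_mod_cast hprod
    have : (c : ℤ) - 1 = (b - m * u) * c - 1 := by rw [hb']; ring
    rw [this]
    have h3 : (b : ℤ) * c = b + m * v := by rw [hp', hn']
    have : ((b : ℤ) - m * u) * c - 1 = b * c - m * u * c - 1 := by ring
    rw [this, h3, hb']
    ring
  have hcm : m ≤ c - 1 := by
    have : (m : ℤ) ≤ (c : ℤ) - 1 := Int.le_of_dvd (by omega) hdvdc
    omega
  have : (m + 1) * (m + 1) ≤ b * c := Nat.mul_le_mul (by omega) (by omega)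
  rw [hprod] at this
  nlinarith

end Cfsg.Agent.H17
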