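import Mathlib
import Cfsg.Prelude.Def_Spor_J1

/-! Fast kernel-checkable arithmetic for 7 x 7 matrices over the integers modulo 11, coded as numbers
in base 11.  Used to compute the smallest Janko group as given in the prelude. -/

set_option autoImplicit false
set_option maxRecDepth 100000

namespace Cfsg.Agent.H17.J1

abbrev Mat := Matrix (Fin 7) (Fin 7) (ZMod 11)

/-- the digit at position `k` -/
def dgt (c k : ℕ) : ℕ := Nat.mod (Nat.div c (Nat.pow 11 k)) 11

/-- the matrix coded by `c` -/
def toM (c : ℕ) : Mat := fun i j => ((dgt c (7 * i.val + j.val) : ℕ) : ZMod 11)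

/-- the vector coded by `c` -/
def toV (c : ℕ) : Fin 7 → ZMod 11 := fun i => ((dgt c i.val : ℕ) : ZMod 11)

def enc : List ℕ → ℕ
  | [] => 0
  | x :: l => Nat.add x (Nat.mul 11 (enc l))

def ent (a b i j : ℕ) : ℕ :=
  Nat.mod (Nat.add (Nat.add (Nat.add (Nat.add (Nat.add (Nat.add
    (Nat.mul (dgt a (7 * i + 0)) (dgt b (7 * 0 + j))) (Nat.mul (dgt a (7 * i + 1)) (dgt b (7 * 1 + j))))
    (Nat.mul (dgt a (7 * i + 2)) (dgt b (7 * 2 + j)))) (Nat.mul (dgt a (7 * i + 3)) (dgt b (7 * 3 + j))))
    (Nat.mul (dgt a (7 * i + 4)) (dgt b (7 * 4 + j)))) (Nat.mul (dgt a (7 * i + 5)) (dgt b (7 * 5 + j))))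
    (Nat.mul (dgt a (7 * i + 6)) (dgt b (7 * 6 + j)))) 11

def entL (a b : ℕ) : List ℕ :=
  [ent a b 0 0, ent a b 0 1, ent a b 0 2, ent a b 0 3, ent a b 0 4, ent a b 0 5, ent a b 0 6,
   ent a b 1 0, ent a b 1 1, ent a b 1 2, ent a b 1 3, ent a b 1 4, ent a b 1 5, ent a b 1 6,
   ent a b 2 0, ent a b 2 1, ent a b 2 2, ent a b 2 3, ent a b 2 4, ent a b 2 5, ent a b 2 6,
   ent a b 3 0, ent a b 3 1, ent a b 3 2, ent a b 3 3, ent a b 3 4, ent a b 3 5, ent a b 3 6,
   ent a b 4 0, ent a b 4 1, ent a b 4 2, ent a b 4 3, ent a b 4 4, ent a b 4 5, ent a b 4 6,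
   ent a b 5 0, ent a b 5 1, ent a b 5 2, ent a b 5 3, ent a b 5 4, ent a b 5 5, ent a b 5 6,
   ent a b 6 0, ent a b 6 1, ent a b 6 2, ent a b 6 3, ent a b 6 4, ent a b 6 5, ent a b 6 6]

/-- the product of two coded matrices: expanded so the kernel evaluates it fast. -/
def mulD (a b : ℕ) : ℕ :=
  (Nat.add (Nat.mod (Nat.add (Nat.add (Nat.add (Nat.add (Nat.add (Nat.add (Nat.mul (Nat.mod (Nat.div a 1) 11) (Nat.mod (Nat.div b 1) 11)) (Nat.mul (Nat.mod (Nat.div a 11) 11) (Nat.mod (Nat.div b 19487171) 11))) (Nat.mul (Nat.mod (Nat.div a 121) 11) (Nat.mod (Nat.div b 379749833583241) 11))) (Nat.mul (Nat.mod (Nat.div a 1331) 11) (Nat.mod (Nat.div b 7400249944258160101211) 11))) (Nat.mul (Nat.mod (Nat.div a 14641) 11) (Nat.mod (Nat.div b 144209936106499234037676064081) 11))) (Nat.mul (Nat.mod (Nat.div a 161051) 11) (Nat.mod (Nat.div b 2810243684806424785061213903353404851) 11))) (Nat.mul (Nat.mod (Nat.div a 1771561) 11) (Nat.mod (Nat.div b 54763699237492901685126120802225273763666521) 11))) 11) (Nat.mul 11 (Nat.add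 (Nat.mod (Nat.add (Nat.add (Nat.add (Nat.add (Nat.add (Nat.add (Nat.mul (Nat.mod (Nat.div a 1) 11) (Nat.mod (Nat.div b 11) 11)) (Nat.mul (Nat.mod (Nat.div a 11) 11) (Nat.mod (Nat.div b 214358881) 11))) (Nat.mul (Nat.mod (Nat.div a 121) 11) (Nat.mod (Nat.div b 4177248169415651) 11))) (Nat.mul (Nat.mod (Nat.div a 1331) 11) (Nat.mod (Nat.div b 81402749386839761113321) 11))) (Nat.mul (Nat.mod (Nat.div a 14641) 11) (Nat.mod (Nat.div b 1586309297171491574414436704891) 11))) (Nat.mul (Nat.mod (Nat.div a 161051) 11) (Nat.mod (Nat.div b 30912680532870672635673352936887453361) 11))) (Nat.mul (Nat.mod (Nat.div a 1771561) 11) (Nat.mod (Nat.div b 602400691612421918536387328824478011400331731) 11))) 11) (Nat.mul 11 (Nat.add (Nat.mod (Nat.add (Nat.add (Nat.add (Nat.add (Nat.add (Nat.add (Nat.mul (Nat.mod (Nat.div a 1) 11) (Nat.mod (Nat.div b 121) 11)) (Nat.mul (Nat.mod (Nat.div a 11) 11) (Nat.mod (Nat.div b 2357947691) 11))) (Nat.mul (Nat.mod (Nat.div a 121) 11) (Nat.mod (Nat.div b 45949729863572161) 11))) (Nat.mul (Nat.mod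 (Nat.div a 1331) 11) (Nat.mod (Nat.div b 895430243255237372246531) 11))) (Nat.mul (Nat.mod (Nat.div a 14641) 11) (Nat.mod (Nat.div b 17449402268886407318558803753801) 11))) (Nat.mul (Nat.mod (Nat.div a 161051) 11) (Nat.mod (Nat.div b 340039485861577398992406882305761986971) 11))) (Nat.mul (Nat.mod (Nat.div a 1771561) 11) (Nat.mod (Nat.div b 6626407607736641103900260617069258125403649041) 11))) 11) (Nat.mul 11 (Nat.add (Nat.mod (Nat.add (Nat.add (Nat.add (Nat.add (Nat.add (Nat.add (Nat.mul (Nat.mod (Nat.div a 1) 11) (Nat.mod (Nat.div b 1331) 11)) (Nat.mul (Nat.mod (Nat.div a 11) 11) (Nat.mod (Nat.div b 25937424601) 11))) (Nat.mul (Nat.mod (Nat.div a 121) 11) (Nat.mod (Nat.div b 505447028499293771) 11))) (Nat.mul (Nat.mod (Nat.div a 1331) 11) (Nat.mod (Nat.div b 9849732675807611094711841) 11))) (Nat.mul (Nat.mod (Nat.div a 14641) 11) (Nat.mod (Nat.div b 191943424957750480504146841291811) 11))) (Nat.mul (Nat.mod (Nat.div a 161051) 11) (Nat.mod (Nat.div b 3740434344477351388916475705363381856681) 11))) (Nat.mul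 (Nat.mod (Nat.div a 1771561) 11) (Nat.mod (Nat.div b 72890483685103052142902866787761839379440139451) 11))) 11) (Nat.mul 11 (Nat.add (Nat.mod (Nat.add (Nat.add (Nat.add (Nat.add (Nat.add (Nat.add (Nat.mul (Nat.mod (Nat.div a 1) 11) (Nat.mod (Nat.div b 14641) 11)) (Nat.mul (Nat.mod (Nat.div a 11) 11) (Nat.mod (Nat.div b 285311670611) 11))) (Nat.mul (Nat.mod (Nat.div a 121) 11) (Nat.mod (Nat.div b 5559917313492231481) 11))) (Nat.mul (Nat.mod (Nat.div a 1331) 11) (Nat.mod (Nat.div b 108347059433883722041830251) 11))) (Nat.mul (Nat.mod (Nat.div a 14641) 11) (Nat.mod (Nat.div b 2111377674535255285545615254209921) 11))) (Nat.mul (Nat.mod (Nat.div a 161051) 11) (Nat.mod (Nat.div b 41144777789250865278081232758997200423491) 11))) (Nat.mul (Nat.mod (Nat.div a 1771561) 11) (Nat.mod (Nat.div b 801795320536133573571931534665380233173841533961) 11))) 11) (Nat.mul 11 (Nat.add (Nat.mod (Nat.add (Nat.add (Nat.add (Nat.add (Nat.add (Nat.add (Nat.mul (Nat.mod (Nat.div a 1) 11) (Nat.mod (Nat.div b 161051) 11)) (Nat.mul (Nat.mod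 (Nat.div a 11) 11) (Nat.mod (Nat.div b 3138428376721) 11))) (Nat.mul (Nat.mod (Nat.div a 121) 11) (Nat.mod (Nat.div b 61159090448414546291) 11))) (Nat.mul (Nat.mod (Nat.div a 1331) 11) (Nat.mod (Nat.div b 1191817653772720942460132761) 11))) (Nat.mul (Nat.mod (Nat.div a 14641) 11) (Nat.mod (Nat.div b 23225154419887808141001767796309131) 11))) (Nat.mul (Nat.mod (Nat.div a 161051) 11) (Nat.mod (Nat.div b 452592555681759518058893560348969204658401) 11))) (Nat.mul (Nat.mod (Nat.div a 1771561) 11) (Nat.mod (Nat.div b 8819748525897469309291246881319182564912256873571) 11))) 11) (Nat.mul 11 (Nat.add (Nat.mod (Nat.add (Nat.add (Nat.add (Nat.add (Nat.add (Nat.add (Nat.mul (Nat.mod (Nat.div a 1) 11) (Nat.mod (Nat.div b 1771561) 11)) (Nat.mul (Nat.mod (Nat.div a 11) 11) (Nat.mod (Nat.div b 34522712143931) 11))) (Nat.mul (Nat.mod (Nat.div a 121) 11) (Nat.mod (Nat.div b 672749994932560009201) 11))) (Nat.mul (Nat.mod (Nat.div a 1331) 11) (Nat.mod (Nat.div b 13109994191499930367061460371) 11))) (Nat.mul (Nat.mod (Nat.div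 a 14641) 11) (Nat.mod (Nat.div b 255476698618765889551019445759400441) 11))) (Nat.mul (Nat.mod (Nat.div a 161051) 11) (Nat.mod (Nat.div b 4978518112499354698647829163838661251242411) 11))) (Nat.mul (Nat.mod (Nat.div a 1771561) 11) (Nat.mod (Nat.div b 97017233784872162402203715694511008214034825609281) 11))) 11) (Nat.mul 11 (Nat.add (Nat.mod (Nat.add (Nat.add (Nat.add (Nat.add (Nat.add (Nat.add (Nat.mul (Nat.mod (Nat.div a 19487171) 11) (Nat.mod (Nat.div b 1) 11)) (Nat.mul (Nat.mod (Nat.div a 214358881) 11) (Nat.mod (Nat.div b 19487171) 11))) (Nat.mul (Nat.mod (Nat.div a 2357947691) 11) (Nat.mod (Nat.div b 379749833583241) 11))) (Nat.mul (Nat.mod (Nat.div a 25937424601) 11) (Nat.mod (Nat.div b 7400249944258160101211) 11))) (Nat.mul (Nat.mod (Nat.div a 285311670611) 11) (Nat.mod (Nat.div b 144209936106499234037676064081) 11))) (Nat.mul (Nat.mod (Nat.div a 3138428376721) 11) (Nat.mod (Nat.div b 2810243684806424785061213903353404851) 11))) (Nat.mul (Nat.mod (Nat.div a 34522712143931) 11) (Nat.mod (Nat.div b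 54763699237492901685126120802225273763666521) 11))) 11) (Nat.mul 11 (Nat.add (Nat.mod (Nat.add (Nat.add (Nat.add (Nat.add (Nat.add (Nat.add (Nat.mul (Nat.mod (Nat.div a 19487171) 11) (Nat.mod (Nat.div b 11) 11)) (Nat.mul (Nat.mod (Nat.div a 214358881) 11) (Nat.mod (Nat.div b 214358881) 11))) (Nat.mul (Nat.mod (Nat.div a 2357947691) 11) (Nat.mod (Nat.div b 4177248169415651) 11))) (Nat.mul (Nat.mod (Nat.div a 25937424601) 11) (Nat.mod (Nat.div b 81402749386839761113321) 11))) (Nat.mul (Nat.mod (Nat.div a 285311670611) 11) (Nat.mod (Nat.div b 1586309297171491574414436704891) 11))) (Nat.mul (Nat.mod (Nat.div a 3138428376721) 11) (Nat.mod (Nat.div b 30912680532870672635673352936887453361) 11))) (Nat.mul (Nat.mod (Nat.div a 34522712143931) 11) (Nat.mod (Nat.div b 602400691612421918536387328824478011400331731) 11))) 11) (Nat.mul 11 (Nat.add (Nat.mod (Nat.add (Nat.add (Nat.add (Nat.add (Nat.add (Nat.add (Nat.mul (Nat.mod (Nat.div a 19487171) 11) (Nat.mod (Nat.div b 121) 11)) (Nat.mul (Nat.mod (Nat.div a 214358881)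 11) (Nat.mod (Nat.div b 2357947691) 11))) (Nat.mul (Nat.mod (Nat.div a 2357947691) 11) (Nat.mod (Nat.div b 45949729863572161) 11))) (Nat.mul (Nat.mod (Nat.div a 25937424601) 11) (Nat.mod (Nat.div b 895430243255237372246531) 11))) (Nat.mul (Nat.mod (Nat.div a 285311670611) 11) (Nat.mod (Nat.div b 17449402268886407318558803753801) 11))) (Nat.mul (Nat.mod (Nat.div a 3138428376721) 11) (Nat.mod (Nat.div b 340039485861577398992406882305761986971) 11))) (Nat.mul (Nat.mod (Nat.div a 34522712143931) 11) (Nat.mod (Nat.div b 6626407607736641103900260617069258125403649041) 11))) 11) (Nat.mul 11 (Nat.add (Nat.mod (Nat.add (Nat.add (Nat.add (Nat.add (Nat.add (Nat.add (Nat.mul (Nat.mod (Nat.div a 19487171) 11) (Nat.mod (Nat.div b 1331) 11)) (Nat.mul (Nat.mod (Nat.div a 214358881) 11) (Nat.mod (Nat.div b 25937424601) 11))) (Nat.mul (Nat.mod (Nat.div a 2357947691) 11) (Nat.mod (Nat.div b 505447028499293771) 11))) (Nat.mul (Nat.mod (Nat.div a 25937424601) 11) (Nat.mod (Nat.div b 9849732675807611094711841) 11))) (Nat.mul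 (Nat.mod (Nat.div a 285311670611) 11) (Nat.mod (Nat.div b 191943424957750480504146841291811) 11))) (Nat.mul (Nat.mod (Nat.div a 3138428376721) 11) (Nat.mod (Nat.div b 3740434344477351388916475705363381856681) 11))) (Nat.mul (Nat.mod (Nat.div a 34522712143931) 11) (Nat.mod (Nat.div b 72890483685103052142902866787761839379440139451) 11))) 11) (Nat.mul 11 (Nat.add (Nat.mod (Nat.add (Nat.add (Nat.add (Nat.add (Nat.add (Nat.add (Nat.mul (Nat.mod (Nat.div a 19487171) 11) (Nat.mod (Nat.div b 14641) 11)) (Nat.mul (Nat.mod (Nat.div a 214358881) 11) (Nat.mod (Nat.div b 285311670611) 11))) (Nat.mul (Nat.mod (Nat.div a 2357947691) 11) (Nat.mod (Nat.div b 5559917313492231481) 11))) (Nat.mul (Nat.mod (Nat.div a 25937424601) 11) (Nat.mod (Nat.div b 108347059433883722041830251) 11))) (Nat.mul (Nat.mod (Nat.div a 285311670611) 11) (Nat.mod (Nat.div b 2111377674535255285545615254209921) 11))) (Nat.mul (Nat.mod (Nat.div a 3138428376721) 11) (Nat.mod (Nat.div b 41144777789250865278081232758997200423491) 11))) (Nat.mul (Nat.mod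 (Nat.div a 34522712143931) 11) (Nat.mod (Nat.div b 801795320536133573571931534665380233173841533961) 11))) 11) (Nat.mul 11 (Nat.add (Nat.mod (Nat.add (Nat.add (Nat.add (Nat.add (Nat.add (Nat.add (Nat.mul (Nat.mod (Nat.div a 19487171) 11) (Nat.mod (Nat.div b 161051) 11)) (Nat.mul (Nat.mod (Nat.div a 214358881) 11) (Nat.mod (Nat.div b 3138428376721) 11))) (Nat.mul (Nat.mod (Nat.div a 2357947691) 11) (Nat.mod (Nat.div b 61159090448414546291) 11))) (Nat.mul (Nat.mod (Nat.div a 25937424601) 11) (Nat.mod (Nat.div b 1191817653772720942460132761) 11))) (Nat.mul (Nat.mod (Nat.div a 285311670611) 11) (Nat.mod (Nat.div b 23225154419887808141001767796309131) 11))) (Nat.mul (Nat.mod (Nat.div a 3138428376721) 11) (Nat.mod (Nat.div b 452592555681759518058893560348969204658401) 11))) (Nat.mul (Nat.mod (Nat.div a 34522712143931) 11) (Nat.mod (Nat.div b 8819748525897469309291246881319182564912256873571) 11))) 11) (Nat.mul 11 (Nat.add (Nat.mod (Nat.add (Nat.add (Nat.add (Nat.add (Nat.add (Nat.add (Nat.mul (Nat.mod (Nat.div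 a 19487171) 11) (Nat.mod (Nat.div b 1771561) 11)) (Nat.mul (Nat.mod (Nat.div a 214358881) 11) (Nat.mod (Nat.div b 34522712143931) 11))) (Nat.mul (Nat.mod (Nat.div a 2357947691) 11) (Nat.mod (Nat.div b 672749994932560009201) 11))) (Nat.mul (Nat.mod (Nat.div a 25937424601) 11) (Nat.mod (Nat.div b 13109994191499930367061460371) 11))) (Nat.mul (Nat.mod (Nat.div a 285311670611) 11) (Nat.mod (Nat.div b 255476698618765889551019445759400441) 11))) (Nat.mul (Nat.mod (Nat.div a 3138428376721) 11) (Nat.mod (Nat.div b 4978518112499354698647829163838661251242411) 11))) (Nat.mul (Nat.mod (Nat.div a 34522712143931) 11) (Nat.mod (Nat.div b 97017233784872162402203715694511008214034825609281) 11))) 11) (Nat.mul 11 (Nat.add (Nat.mod (Nat.add (Nat.add (Nat.add (Nat.add (Nat.add (Nat.add (Nat.mul (Nat.mod (Nat.div a 379749833583241) 11) (Nat.mod (Nat.div b 1) 11)) (Nat.mul (Nat.mod (Nat.div a 4177248169415651) 11) (Nat.mod (Nat.div b 19487171) 11))) (Nat.mul (Nat.mod (Nat.div a 45949729863572161) 11) (Nat.mod (Nat.div b 379749833583241)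 11))) (Nat.mul (Nat.mod (Nat.div a 505447028499293771) 11) (Nat.mod (Nat.div b 7400249944258160101211) 11))) (Nat.mul (Nat.mod (Nat.div a 5559917313492231481) 11) (Nat.mod (Nat.div b 144209936106499234037676064081) 11))) (Nat.mul (Nat.mod (Nat.div a 61159090448414546291) 11) (Nat.mod (Nat.div b 2810243684806424785061213903353404851) 11))) (Nat.mul (Nat.mod (Nat.div a 672749994932560009201) 11) (Nat.mod (Nat.div b 54763699237492901685126120802225273763666521) 11))) 11) (Nat.mul 11 (Nat.add (Nat.mod (Nat.add (Nat.add (Nat.add (Nat.add (Nat.add (Nat.add (Nat.mul (Nat.mod (Nat.div a 379749833583241) 11) (Nat.mod (Nat.div b 11) 11)) (Nat.mul (Nat.mod (Nat.div a 4177248169415651) 11) (Nat.mod (Nat.div b 214358881) 11))) (Nat.mul (Nat.mod (Nat.div a 45949729863572161) 11) (Nat.mod (Nat.div b 4177248169415651) 11))) (Nat.mul (Nat.mod (Nat.div a 505447028499293771) 11) (Nat.mod (Nat.div b 81402749386839761113321) 11))) (Nat.mul (Nat.mod (Nat.div a 5559917313492231481) 11) (Nat.mod (Nat.div b 1586309297171491574414436704891)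 11))) (Nat.mul (Nat.mod (Nat.div a 61159090448414546291) 11) (Nat.mod (Nat.div b 30912680532870672635673352936887453361) 11))) (Nat.mul (Nat.mod (Nat.div a 672749994932560009201) 11) (Nat.mod (Nat.div b 602400691612421918536387328824478011400331731) 11))) 11) (Nat.mul 11 (Nat.add (Nat.mod (Nat.add (Nat.add (Nat.add (Nat.add (Nat.add (Nat.add (Nat.mul (Nat.mod (Nat.div a 379749833583241) 11) (Nat.mod (Nat.div b 121) 11)) (Nat.mul (Nat.mod (Nat.div a 4177248169415651) 11) (Nat.mod (Nat.div b 2357947691) 11))) (Nat.mul (Nat.mod (Nat.div a 45949729863572161) 11) (Nat.mod (Nat.div b 45949729863572161) 11))) (Nat.mul (Nat.mod (Nat.div a 505447028499293771) 11) (Nat.mod (Nat.div b 895430243255237372246531) 11))) (Nat.mul (Nat.mod (Nat.div a 5559917313492231481) 11) (Nat.mod (Nat.div b 17449402268886407318558803753801) 11))) (Nat.mul (Nat.mod (Nat.div a 61159090448414546291) 11) (Nat.mod (Nat.div b 340039485861577398992406882305761986971) 11))) (Nat.mul (Nat.mod (Nat.div a 672749994932560009201) 11) (Nat.mod (Nat.div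 b 6626407607736641103900260617069258125403649041) 11))) 11) (Nat.mul 11 (Nat.add (Nat.mod (Nat.add (Nat.add (Nat.add (Nat.add (Nat.add (Nat.add (Nat.mul (Nat.mod (Nat.div a 379749833583241) 11) (Nat.mod (Nat.div b 1331) 11)) (Nat.mul (Nat.mod (Nat.div a 4177248169415651) 11) (Nat.mod (Nat.div b 25937424601) 11))) (Nat.mul (Nat.mod (Nat.div a 45949729863572161) 11) (Nat.mod (Nat.div b 505447028499293771) 11))) (Nat.mul (Nat.mod (Nat.div a 505447028499293771) 11) (Nat.mod (Nat.div b 9849732675807611094711841) 11))) (Nat.mul (Nat.mod (Nat.div a 5559917313492231481) 11) (Nat.mod (Nat.div b 191943424957750480504146841291811) 11))) (Nat.mul (Nat.mod (Nat.div a 61159090448414546291) 11) (Nat.mod (Nat.div b 3740434344477351388916475705363381856681) 11))) (Nat.mul (Nat.mod (Nat.div a 672749994932560009201) 11) (Nat.mod (Nat.div b 72890483685103052142902866787761839379440139451) 11))) 11) (Nat.mul 11 (Nat.add (Nat.mod (Nat.add (Nat.add (Nat.add (Nat.add (Nat.add (Nat.add (Nat.mul (Nat.mod (Nat.div a 379749833583241)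 11) (Nat.mod (Nat.div b 14641) 11)) (Nat.mul (Nat.mod (Nat.div a 4177248169415651) 11) (Nat.mod (Nat.div b 285311670611) 11))) (Nat.mul (Nat.mod (Nat.div a 45949729863572161) 11) (Nat.mod (Nat.div b 5559917313492231481) 11))) (Nat.mul (Nat.mod (Nat.div a 505447028499293771) 11) (Nat.mod (Nat.div b 108347059433883722041830251) 11))) (Nat.mul (Nat.mod (Nat.div a 5559917313492231481) 11) (Nat.mod (Nat.div b 2111377674535255285545615254209921) 11))) (Nat.mul (Nat.mod (Nat.div a 61159090448414546291) 11) (Nat.mod (Nat.div b 41144777789250865278081232758997200423491) 11))) (Nat.mul (Nat.mod (Nat.div a 672749994932560009201) 11) (Nat.mod (Nat.div b 801795320536133573571931534665380233173841533961) 11))) 11) (Nat.mul 11 (Nat.add (Nat.mod (Nat.add (Nat.add (Nat.add (Nat.add (Nat.add (Nat.add (Nat.mul (Nat.mod (Nat.div a 379749833583241) 11) (Nat.mod (Nat.div b 161051) 11)) (Nat.mul (Nat.mod (Nat.div a 4177248169415651) 11) (Nat.mod (Nat.div b 3138428376721) 11))) (Nat.mul (Nat.mod (Nat.div a 45949729863572161) 11)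 (Nat.mod (Nat.div b 61159090448414546291) 11))) (Nat.mul (Nat.mod (Nat.div a 505447028499293771) 11) (Nat.mod (Nat.div b 1191817653772720942460132761) 11))) (Nat.mul (Nat.mod (Nat.div a 5559917313492231481) 11) (Nat.mod (Nat.div b 23225154419887808141001767796309131) 11))) (Nat.mul (Nat.mod (Nat.div a 61159090448414546291) 11) (Nat.mod (Nat.div b 452592555681759518058893560348969204658401) 11))) (Nat.mul (Nat.mod (Nat.div a 672749994932560009201) 11) (Nat.mod (Nat.div b 8819748525897469309291246881319182564912256873571) 11))) 11) (Nat.mul 11 (Nat.add (Nat.mod (Nat.add (Nat.add (Nat.add (Nat.add (Nat.add (Nat.add (Nat.mul (Nat.mod (Nat.div a 379749833583241) 11) (Nat.mod (Nat.div b 1771561) 11)) (Nat.mul (Nat.mod (Nat.div a 4177248169415651) 11) (Nat.mod (Nat.div b 34522712143931) 11))) (Nat.mul (Nat.mod (Nat.div a 45949729863572161) 11) (Nat.mod (Nat.div b 672749994932560009201) 11))) (Nat.mul (Nat.mod (Nat.div a 505447028499293771) 11) (Nat.mod (Nat.div b 13109994191499930367061460371) 11))) (Nat.mul (Nat.mod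 (Nat.div a 5559917313492231481) 11) (Nat.mod (Nat.div b 255476698618765889551019445759400441) 11))) (Nat.mul (Nat.mod (Nat.div a 61159090448414546291) 11) (Nat.mod (Nat.div b 4978518112499354698647829163838661251242411) 11))) (Nat.mul (Nat.mod (Nat.div a 672749994932560009201) 11) (Nat.mod (Nat.div b 97017233784872162402203715694511008214034825609281) 11))) 11) (Nat.mul 11 (Nat.add (Nat.mod (Nat.add (Nat.add (Nat.add (Nat.add (Nat.add (Nat.add (Nat.mul (Nat.mod (Nat.div a 7400249944258160101211) 11) (Nat.mod (Nat.div b 1) 11)) (Nat.mul (Nat.mod (Nat.div a 81402749386839761113321) 11) (Nat.mod (Nat.div b 19487171) 11))) (Nat.mul (Nat.mod (Nat.div a 895430243255237372246531) 11) (Nat.mod (Nat.div b 379749833583241) 11))) (Nat.mul (Nat.mod (Nat.div a 9849732675807611094711841) 11) (Nat.mod (Nat.div b 7400249944258160101211) 11))) (Nat.mul (Nat.mod (Nat.div a 108347059433883722041830251) 11) (Nat.mod (Nat.div b 144209936106499234037676064081) 11))) (Nat.mul (Nat.mod (Nat.div a 1191817653772720942460132761) 11)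 (Nat.mod (Nat.div b 2810243684806424785061213903353404851) 11))) (Nat.mul (Nat.mod (Nat.div a 13109994191499930367061460371) 11) (Nat.mod (Nat.div b 54763699237492901685126120802225273763666521) 11))) 11) (Nat.mul 11 (Nat.add (Nat.mod (Nat.add (Nat.add (Nat.add (Nat.add (Nat.add (Nat.add (Nat.mul (Nat.mod (Nat.div a 7400249944258160101211) 11) (Nat.mod (Nat.div b 11) 11)) (Nat.mul (Nat.mod (Nat.div a 81402749386839761113321) 11) (Nat.mod (Nat.div b 214358881) 11))) (Nat.mul (Nat.mod (Nat.div a 895430243255237372246531) 11) (Nat.mod (Nat.div b 4177248169415651) 11))) (Nat.mul (Nat.mod (Nat.div a 9849732675807611094711841) 11) (Nat.mod (Nat.div b 81402749386839761113321) 11))) (Nat.mul (Nat.mod (Nat.div a 108347059433883722041830251) 11) (Nat.mod (Nat.div b 1586309297171491574414436704891) 11))) (Nat.mul (Nat.mod (Nat.div a 1191817653772720942460132761) 11) (Nat.mod (Nat.div b 30912680532870672635673352936887453361) 11))) (Nat.mul (Nat.mod (Nat.div a 13109994191499930367061460371) 11) (Nat.mod (Nat.div b 602400691612421918536387328824478011400331731)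 11))) 11) (Nat.mul 11 (Nat.add (Nat.mod (Nat.add (Nat.add (Nat.add (Nat.add (Nat.add (Nat.add (Nat.mul (Nat.mod (Nat.div a 7400249944258160101211) 11) (Nat.mod (Nat.div b 121) 11)) (Nat.mul (Nat.mod (Nat.div a 81402749386839761113321) 11) (Nat.mod (Nat.div b 2357947691) 11))) (Nat.mul (Nat.mod (Nat.div a 895430243255237372246531) 11) (Nat.mod (Nat.div b 45949729863572161) 11))) (Nat.mul (Nat.mod (Nat.div a 9849732675807611094711841) 11) (Nat.mod (Nat.div b 895430243255237372246531) 11))) (Nat.mul (Nat.mod (Nat.div a 108347059433883722041830251) 11) (Nat.mod (Nat.div b 17449402268886407318558803753801) 11))) (Nat.mul (Nat.mod (Nat.div a 1191817653772720942460132761) 11) (Nat.mod (Nat.div b 340039485861577398992406882305761986971) 11))) (Nat.mul (Nat.mod (Nat.div a 13109994191499930367061460371) 11) (Nat.mod (Nat.div b 6626407607736641103900260617069258125403649041) 11))) 11) (Nat.mul 11 (Nat.add (Nat.mod (Nat.add (Nat.add (Nat.add (Nat.add (Nat.add (Nat.add (Nat.mul (Nat.mod (Nat.div a 7400249944258160101211)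 11) (Nat.mod (Nat.div b 1331) 11)) (Nat.mul (Nat.mod (Nat.div a 81402749386839761113321) 11) (Nat.mod (Nat.div b 25937424601) 11))) (Nat.mul (Nat.mod (Nat.div a 895430243255237372246531) 11) (Nat.mod (Nat.div b 505447028499293771) 11))) (Nat.mul (Nat.mod (Nat.div a 9849732675807611094711841) 11) (Nat.mod (Nat.div b 9849732675807611094711841) 11))) (Nat.mul (Nat.mod (Nat.div a 108347059433883722041830251) 11) (Nat.mod (Nat.div b 191943424957750480504146841291811) 11))) (Nat.mul (Nat.mod (Nat.div a 1191817653772720942460132761) 11) (Nat.mod (Nat.div b 3740434344477351388916475705363381856681) 11))) (Nat.mul (Nat.mod (Nat.div a 13109994191499930367061460371) 11) (Nat.mod (Nat.div b 72890483685103052142902866787761839379440139451) 11))) 11) (Nat.mul 11 (Nat.add (Nat.mod (Nat.add (Nat.add (Nat.add (Nat.add (Nat.add (Nat.add (Nat.mul (Nat.mod (Nat.div a 7400249944258160101211) 11) (Nat.mod (Nat.div b 14641) 11)) (Nat.mul (Nat.mod (Nat.div a 81402749386839761113321) 11) (Nat.mod (Nat.div b 285311670611) 11))) (Nat.mul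 (Nat.mod (Nat.div a 895430243255237372246531) 11) (Nat.mod (Nat.div b 5559917313492231481) 11))) (Nat.mul (Nat.mod (Nat.div a 9849732675807611094711841) 11) (Nat.mod (Nat.div b 108347059433883722041830251) 11))) (Nat.mul (Nat.mod (Nat.div a 108347059433883722041830251) 11) (Nat.mod (Nat.div b 2111377674535255285545615254209921) 11))) (Nat.mul (Nat.mod (Nat.div a 1191817653772720942460132761) 11) (Nat.mod (Nat.div b 41144777789250865278081232758997200423491) 11))) (Nat.mul (Nat.mod (Nat.div a 13109994191499930367061460371) 11) (Nat.mod (Nat.div b 801795320536133573571931534665380233173841533961) 11))) 11) (Nat.mul 11 (Nat.add (Nat.mod (Nat.add (Nat.add (Nat.add (Nat.add (Nat.add (Nat.add (Nat.mul (Nat.mod (Nat.div a 7400249944258160101211) 11) (Nat.mod (Nat.div b 161051) 11)) (Nat.mul (Nat.mod (Nat.div a 81402749386839761113321) 11) (Nat.mod (Nat.div b 3138428376721) 11))) (Nat.mul (Nat.mod (Nat.div a 895430243255237372246531) 11) (Nat.mod (Nat.div b 61159090448414546291) 11))) (Nat.mul (Nat.mod (Nat.div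 a 9849732675807611094711841) 11) (Nat.mod (Nat.div b 1191817653772720942460132761) 11))) (Nat.mul (Nat.mod (Nat.div a 108347059433883722041830251) 11) (Nat.mod (Nat.div b 23225154419887808141001767796309131) 11))) (Nat.mul (Nat.mod (Nat.div a 1191817653772720942460132761) 11) (Nat.mod (Nat.div b 452592555681759518058893560348969204658401) 11))) (Nat.mul (Nat.mod (Nat.div a 13109994191499930367061460371) 11) (Nat.mod (Nat.div b 8819748525897469309291246881319182564912256873571) 11))) 11) (Nat.mul 11 (Nat.add (Nat.mod (Nat.add (Nat.add (Nat.add (Nat.add (Nat.add (Nat.add (Nat.mul (Nat.mod (Nat.div a 7400249944258160101211) 11) (Nat.mod (Nat.div b 1771561) 11)) (Nat.mul (Nat.mod (Nat.div a 81402749386839761113321) 11) (Nat.mod (Nat.div b 34522712143931) 11))) (Nat.mul (Nat.mod (Nat.div a 895430243255237372246531) 11) (Nat.mod (Nat.div b 672749994932560009201) 11))) (Nat.mul (Nat.mod (Nat.div a 9849732675807611094711841) 11) (Nat.mod (Nat.div b 13109994191499930367061460371) 11))) (Nat.mul (Nat.mod (Nat.div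 a 108347059433883722041830251) 11) (Nat.mod (Nat.div b 255476698618765889551019445759400441) 11))) (Nat.mul (Nat.mod (Nat.div a 1191817653772720942460132761) 11) (Nat.mod (Nat.div b 4978518112499354698647829163838661251242411) 11))) (Nat.mul (Nat.mod (Nat.div a 13109994191499930367061460371) 11) (Nat.mod (Nat.div b 97017233784872162402203715694511008214034825609281) 11))) 11) (Nat.mul 11 (Nat.add (Nat.mod (Nat.add (Nat.add (Nat.add (Nat.add (Nat.add (Nat.add (Nat.mul (Nat.mod (Nat.div a 144209936106499234037676064081) 11) (Nat.mod (Nat.div b 1) 11)) (Nat.mul (Nat.mod (Nat.div a 1586309297171491574414436704891) 11) (Nat.mod (Nat.div b 19487171) 11))) (Nat.mul (Nat.mod (Nat.div a 17449402268886407318558803753801) 11) (Nat.mod (Nat.div b 379749833583241) 11))) (Nat.mul (Nat.mod (Nat.div a 191943424957750480504146841291811) 11) (Nat.mod (Nat.div b 7400249944258160101211) 11))) (Nat.mul (Nat.mod (Nat.div a 2111377674535255285545615254209921) 11) (Nat.mod (Nat.div b 144209936106499234037676064081) 11))) (Nat.mul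 (Nat.mod (Nat.div a 23225154419887808141001767796309131) 11) (Nat.mod (Nat.div b 2810243684806424785061213903353404851) 11))) (Nat.mul (Nat.mod (Nat.div a 255476698618765889551019445759400441) 11) (Nat.mod (Nat.div b 54763699237492901685126120802225273763666521) 11))) 11) (Nat.mul 11 (Nat.add (Nat.mod (Nat.add (Nat.add (Nat.add (Nat.add (Nat.add (Nat.add (Nat.mul (Nat.mod (Nat.div a 144209936106499234037676064081) 11) (Nat.mod (Nat.div b 11) 11)) (Nat.mul (Nat.mod (Nat.div a 1586309297171491574414436704891) 11) (Nat.mod (Nat.div b 214358881) 11))) (Nat.mul (Nat.mod (Nat.div a 17449402268886407318558803753801) 11) (Nat.mod (Nat.div b 4177248169415651) 11))) (Nat.mul (Nat.mod (Nat.div a 191943424957750480504146841291811) 11) (Nat.mod (Nat.div b 81402749386839761113321) 11))) (Nat.mul (Nat.mod (Nat.div a 2111377674535255285545615254209921) 11) (Nat.mod (Nat.div b 1586309297171491574414436704891) 11))) (Nat.mul (Nat.mod (Nat.div a 23225154419887808141001767796309131) 11) (Nat.mod (Nat.div b 30912680532870672635673352936887453361)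 11))) (Nat.mul (Nat.mod (Nat.div a 255476698618765889551019445759400441) 11) (Nat.mod (Nat.div b 602400691612421918536387328824478011400331731) 11))) 11) (Nat.mul 11 (Nat.add (Nat.mod (Nat.add (Nat.add (Nat.add (Nat.add (Nat.add (Nat.add (Nat.mul (Nat.mod (Nat.div a 144209936106499234037676064081) 11) (Nat.mod (Nat.div b 121) 11)) (Nat.mul (Nat.mod (Nat.div a 1586309297171491574414436704891) 11) (Nat.mod (Nat.div b 2357947691) 11))) (Nat.mul (Nat.mod (Nat.div a 17449402268886407318558803753801) 11) (Nat.mod (Nat.div b 45949729863572161) 11))) (Nat.mul (Nat.mod (Nat.div a 191943424957750480504146841291811) 11) (Nat.mod (Nat.div b 895430243255237372246531) 11))) (Nat.mul (Nat.mod (Nat.div a 2111377674535255285545615254209921) 11) (Nat.mod (Nat.div b 17449402268886407318558803753801) 11))) (Nat.mul (Nat.mod (Nat.div a 23225154419887808141001767796309131) 11) (Nat.mod (Nat.div b 340039485861577398992406882305761986971) 11))) (Nat.mul (Nat.mod (Nat.div a 255476698618765889551019445759400441) 11) (Nat.mod (Nat.div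 b 6626407607736641103900260617069258125403649041) 11))) 11) (Nat.mul 11 (Nat.add (Nat.mod (Nat.add (Nat.add (Nat.add (Nat.add (Nat.add (Nat.add (Nat.mul (Nat.mod (Nat.div a 144209936106499234037676064081) 11) (Nat.mod (Nat.div b 1331) 11)) (Nat.mul (Nat.mod (Nat.div a 1586309297171491574414436704891) 11) (Nat.mod (Nat.div b 25937424601) 11))) (Nat.mul (Nat.mod (Nat.div a 17449402268886407318558803753801) 11) (Nat.mod (Nat.div b 505447028499293771) 11))) (Nat.mul (Nat.mod (Nat.div a 191943424957750480504146841291811) 11) (Nat.mod (Nat.div b 9849732675807611094711841) 11))) (Nat.mul (Nat.mod (Nat.div a 2111377674535255285545615254209921) 11) (Nat.mod (Nat.div b 191943424957750480504146841291811) 11))) (Nat.mul (Nat.mod (Nat.div a 23225154419887808141001767796309131) 11) (Nat.mod (Nat.div b 3740434344477351388916475705363381856681) 11))) (Nat.mul (Nat.mod (Nat.div a 255476698618765889551019445759400441) 11) (Nat.mod (Nat.div b 72890483685103052142902866787761839379440139451) 11))) 11) (Nat.mul 11 (Nat.add (Nat.mod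 (Nat.add (Nat.add (Nat.add (Nat.add (Nat.add (Nat.add (Nat.mul (Nat.mod (Nat.div a 144209936106499234037676064081) 11) (Nat.mod (Nat.div b 14641) 11)) (Nat.mul (Nat.mod (Nat.div a 1586309297171491574414436704891) 11) (Nat.mod (Nat.div b 285311670611) 11))) (Nat.mul (Nat.mod (Nat.div a 17449402268886407318558803753801) 11) (Nat.mod (Nat.div b 5559917313492231481) 11))) (Nat.mul (Nat.mod (Nat.div a 191943424957750480504146841291811) 11) (Nat.mod (Nat.div b 108347059433883722041830251) 11))) (Nat.mul (Nat.mod (Nat.div a 2111377674535255285545615254209921) 11) (Nat.mod (Nat.div b 2111377674535255285545615254209921) 11))) (Nat.mul (Nat.mod (Nat.div a 23225154419887808141001767796309131) 11) (Nat.mod (Nat.div b 41144777789250865278081232758997200423491) 11))) (Nat.mul (Nat.mod (Nat.div a 255476698618765889551019445759400441) 11) (Nat.mod (Nat.div b 801795320536133573571931534665380233173841533961) 11))) 11) (Nat.mul 11 (Nat.add (Nat.mod (Nat.add (Nat.add (Nat.add (Nat.add (Nat.add (Nat.add (Nat.mul (Nat.mod (Nat.div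 a 144209936106499234037676064081) 11) (Nat.mod (Nat.div b 161051) 11)) (Nat.mul (Nat.mod (Nat.div a 1586309297171491574414436704891) 11) (Nat.mod (Nat.div b 3138428376721) 11))) (Nat.mul (Nat.mod (Nat.div a 17449402268886407318558803753801) 11) (Nat.mod (Nat.div b 61159090448414546291) 11))) (Nat.mul (Nat.mod (Nat.div a 191943424957750480504146841291811) 11) (Nat.mod (Nat.div b 1191817653772720942460132761) 11))) (Nat.mul (Nat.mod (Nat.div a 2111377674535255285545615254209921) 11) (Nat.mod (Nat.div b 23225154419887808141001767796309131) 11))) (Nat.mul (Nat.mod (Nat.div a 23225154419887808141001767796309131) 11) (Nat.mod (Nat.div b 452592555681759518058893560348969204658401) 11))) (Nat.mul (Nat.mod (Nat.div a 255476698618765889551019445759400441) 11) (Nat.mod (Nat.div b 8819748525897469309291246881319182564912256873571) 11))) 11) (Nat.mul 11 (Nat.add (Nat.mod (Nat.add (Nat.add (Nat.add (Nat.add (Nat.add (Nat.add (Nat.mul (Nat.mod (Nat.div a 144209936106499234037676064081) 11) (Nat.mod (Nat.div b 1771561)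 11)) (Nat.mul (Nat.mod (Nat.div a 1586309297171491574414436704891) 11) (Nat.mod (Nat.div b 34522712143931) 11))) (Nat.mul (Nat.mod (Nat.div a 17449402268886407318558803753801) 11) (Nat.mod (Nat.div b 672749994932560009201) 11))) (Nat.mul (Nat.mod (Nat.div a 191943424957750480504146841291811) 11) (Nat.mod (Nat.div b 13109994191499930367061460371) 11))) (Nat.mul (Nat.mod (Nat.div a 2111377674535255285545615254209921) 11) (Nat.mod (Nat.div b 255476698618765889551019445759400441) 11))) (Nat.mul (Nat.mod (Nat.div a 23225154419887808141001767796309131) 11) (Nat.mod (Nat.div b 4978518112499354698647829163838661251242411) 11))) (Nat.mul (Nat.mod (Nat.div a 255476698618765889551019445759400441) 11) (Nat.mod (Nat.div b 97017233784872162402203715694511008214034825609281) 11))) 11) (Nat.mul 11 (Nat.add (Nat.mod (Nat.add (Nat.add (Nat.add (Nat.add (Nat.add (Nat.add (Nat.mul (Nat.mod (Nat.div a 2810243684806424785061213903353404851) 11) (Nat.mod (Nat.div b 1) 11)) (Nat.mul (Nat.mod (Nat.div a 30912680532870672635673352936887453361)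 11) (Nat.mod (Nat.div b 19487171) 11))) (Nat.mul (Nat.mod (Nat.div a 340039485861577398992406882305761986971) 11) (Nat.mod (Nat.div b 379749833583241) 11))) (Nat.mul (Nat.mod (Nat.div a 3740434344477351388916475705363381856681) 11) (Nat.mod (Nat.div b 7400249944258160101211) 11))) (Nat.mul (Nat.mod (Nat.div a 41144777789250865278081232758997200423491) 11) (Nat.mod (Nat.div b 144209936106499234037676064081) 11))) (Nat.mul (Nat.mod (Nat.div a 452592555681759518058893560348969204658401) 11) (Nat.mod (Nat.div b 2810243684806424785061213903353404851) 11))) (Nat.mul (Nat.mod (Nat.div a 4978518112499354698647829163838661251242411) 11) (Nat.mod (Nat.div b 54763699237492901685126120802225273763666521) 11))) 11) (Nat.mul 11 (Nat.add (Nat.mod (Nat.add (Nat.add (Nat.add (Nat.add (Nat.add (Nat.add (Nat.mul (Nat.mod (Nat.div a 2810243684806424785061213903353404851) 11) (Nat.mod (Nat.div b 11) 11)) (Nat.mul (Nat.mod (Nat.div a 30912680532870672635673352936887453361) 11) (Nat.mod (Nat.div b 214358881) 11))) (Nat.mul (Nat.mod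 (Nat.div a 340039485861577398992406882305761986971) 11) (Nat.mod (Nat.div b 4177248169415651) 11))) (Nat.mul (Nat.mod (Nat.div a 3740434344477351388916475705363381856681) 11) (Nat.mod (Nat.div b 81402749386839761113321) 11))) (Nat.mul (Nat.mod (Nat.div a 41144777789250865278081232758997200423491) 11) (Nat.mod (Nat.div b 1586309297171491574414436704891) 11))) (Nat.mul (Nat.mod (Nat.div a 452592555681759518058893560348969204658401) 11) (Nat.mod (Nat.div b 30912680532870672635673352936887453361) 11))) (Nat.mul (Nat.mod (Nat.div a 4978518112499354698647829163838661251242411) 11) (Nat.mod (Nat.div b 602400691612421918536387328824478011400331731) 11))) 11) (Nat.mul 11 (Nat.add (Nat.mod (Nat.add (Nat.add (Nat.add (Nat.add (Nat.add (Nat.add (Nat.mul (Nat.mod (Nat.div a 2810243684806424785061213903353404851) 11) (Nat.mod (Nat.div b 121) 11)) (Nat.mul (Nat.mod (Nat.div a 30912680532870672635673352936887453361) 11) (Nat.mod (Nat.div b 2357947691) 11))) (Nat.mul (Nat.mod (Nat.div a 340039485861577398992406882305761986971)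 11) (Nat.mod (Nat.div b 45949729863572161) 11))) (Nat.mul (Nat.mod (Nat.div a 3740434344477351388916475705363381856681) 11) (Nat.mod (Nat.div b 895430243255237372246531) 11))) (Nat.mul (Nat.mod (Nat.div a 41144777789250865278081232758997200423491) 11) (Nat.mod (Nat.div b 17449402268886407318558803753801) 11))) (Nat.mul (Nat.mod (Nat.div a 452592555681759518058893560348969204658401) 11) (Nat.mod (Nat.div b 340039485861577398992406882305761986971) 11))) (Nat.mul (Nat.mod (Nat.div a 4978518112499354698647829163838661251242411) 11) (Nat.mod (Nat.div b 6626407607736641103900260617069258125403649041) 11))) 11) (Nat.mul 11 (Nat.add (Nat.mod (Nat.add (Nat.add (Nat.add (Nat.add (Nat.add (Nat.add (Nat.mul (Nat.mod (Nat.div a 2810243684806424785061213903353404851) 11) (Nat.mod (Nat.div b 1331) 11)) (Nat.mul (Nat.mod (Nat.div a 30912680532870672635673352936887453361) 11) (Nat.mod (Nat.div b 25937424601) 11))) (Nat.mul (Nat.mod (Nat.div a 340039485861577398992406882305761986971) 11) (Nat.mod (Nat.div b 505447028499293771)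 11))) (Nat.mul (Nat.mod (Nat.div a 3740434344477351388916475705363381856681) 11) (Nat.mod (Nat.div b 9849732675807611094711841) 11))) (Nat.mul (Nat.mod (Nat.div a 41144777789250865278081232758997200423491) 11) (Nat.mod (Nat.div b 191943424957750480504146841291811) 11))) (Nat.mul (Nat.mod (Nat.div a 452592555681759518058893560348969204658401) 11) (Nat.mod (Nat.div b 3740434344477351388916475705363381856681) 11))) (Nat.mul (Nat.mod (Nat.div a 4978518112499354698647829163838661251242411) 11) (Nat.mod (Nat.div b 72890483685103052142902866787761839379440139451) 11))) 11) (Nat.mul 11 (Nat.add (Nat.mod (Nat.add (Nat.add (Nat.add (Nat.add (Nat.add (Nat.add (Nat.mul (Nat.mod (Nat.div a 2810243684806424785061213903353404851) 11) (Nat.mod (Nat.div b 14641) 11)) (Nat.mul (Nat.mod (Nat.div a 30912680532870672635673352936887453361) 11) (Nat.mod (Nat.div b 285311670611) 11))) (Nat.mul (Nat.mod (Nat.div a 340039485861577398992406882305761986971) 11) (Nat.mod (Nat.div b 5559917313492231481) 11))) (Nat.mul (Nat.mod (Nat.div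 a 3740434344477351388916475705363381856681) 11) (Nat.mod (Nat.div b 108347059433883722041830251) 11))) (Nat.mul (Nat.mod (Nat.div a 41144777789250865278081232758997200423491) 11) (Nat.mod (Nat.div b 2111377674535255285545615254209921) 11))) (Nat.mul (Nat.mod (Nat.div a 452592555681759518058893560348969204658401) 11) (Nat.mod (Nat.div b 41144777789250865278081232758997200423491) 11))) (Nat.mul (Nat.mod (Nat.div a 4978518112499354698647829163838661251242411) 11) (Nat.mod (Nat.div b 801795320536133573571931534665380233173841533961) 11))) 11) (Nat.mul 11 (Nat.add (Nat.mod (Nat.add (Nat.add (Nat.add (Nat.add (Nat.add (Nat.add (Nat.mul (Nat.mod (Nat.div a 2810243684806424785061213903353404851) 11) (Nat.mod (Nat.div b 161051) 11)) (Nat.mul (Nat.mod (Nat.div a 30912680532870672635673352936887453361) 11) (Nat.mod (Nat.div b 3138428376721) 11))) (Nat.mul (Nat.mod (Nat.div a 340039485861577398992406882305761986971) 11) (Nat.mod (Nat.div b 61159090448414546291) 11))) (Nat.mul (Nat.mod (Nat.div a 3740434344477351388916475705363381856681)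 11) (Nat.mod (Nat.div b 1191817653772720942460132761) 11))) (Nat.mul (Nat.mod (Nat.div a 41144777789250865278081232758997200423491) 11) (Nat.mod (Nat.div b 23225154419887808141001767796309131) 11))) (Nat.mul (Nat.mod (Nat.div a 452592555681759518058893560348969204658401) 11) (Nat.mod (Nat.div b 452592555681759518058893560348969204658401) 11))) (Nat.mul (Nat.mod (Nat.div a 4978518112499354698647829163838661251242411) 11) (Nat.mod (Nat.div b 8819748525897469309291246881319182564912256873571) 11))) 11) (Nat.mul 11 (Nat.add (Nat.mod (Nat.add (Nat.add (Nat.add (Nat.add (Nat.add (Nat.add (Nat.mul (Nat.mod (Nat.div a 2810243684806424785061213903353404851) 11) (Nat.mod (Nat.div b 1771561) 11)) (Nat.mul (Nat.mod (Nat.div a 30912680532870672635673352936887453361) 11) (Nat.mod (Nat.div b 34522712143931) 11))) (Nat.mul (Nat.mod (Nat.div a 340039485861577398992406882305761986971) 11) (Nat.mod (Nat.div b 672749994932560009201) 11))) (Nat.mul (Nat.mod (Nat.div a 3740434344477351388916475705363381856681) 11) (Nat.mod (Nat.div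 b 13109994191499930367061460371) 11))) (Nat.mul (Nat.mod (Nat.div a 41144777789250865278081232758997200423491) 11) (Nat.mod (Nat.div b 255476698618765889551019445759400441) 11))) (Nat.mul (Nat.mod (Nat.div a 452592555681759518058893560348969204658401) 11) (Nat.mod (Nat.div b 4978518112499354698647829163838661251242411) 11))) (Nat.mul (Nat.mod (Nat.div a 4978518112499354698647829163838661251242411) 11) (Nat.mod (Nat.div b 97017233784872162402203715694511008214034825609281) 11))) 11) (Nat.mul 11 (Nat.add (Nat.mod (Nat.add (Nat.add (Nat.add (Nat.add (Nat.add (Nat.add (Nat.mul (Nat.mod (Nat.div a 54763699237492901685126120802225273763666521) 11) (Nat.mod (Nat.div b 1) 11)) (Nat.mul (Nat.mod (Nat.div a 602400691612421918536387328824478011400331731) 11) (Nat.mod (Nat.div b 19487171) 11))) (Nat.mul (Nat.mod (Nat.div a 6626407607736641103900260617069258125403649041) 11) (Nat.mod (Nat.div b 379749833583241) 11))) (Nat.mul (Nat.mod (Nat.div a 72890483685103052142902866787761839379440139451) 11) (Nat.mod (Nat.div b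 7400249944258160101211) 11))) (Nat.mul (Nat.mod (Nat.div a 801795320536133573571931534665380233173841533961) 11) (Nat.mod (Nat.div b 144209936106499234037676064081) 11))) (Nat.mul (Nat.mod (Nat.div a 8819748525897469309291246881319182564912256873571) 11) (Nat.mod (Nat.div b 2810243684806424785061213903353404851) 11))) (Nat.mul (Nat.mod (Nat.div a 97017233784872162402203715694511008214034825609281) 11) (Nat.mod (Nat.div b 54763699237492901685126120802225273763666521) 11))) 11) (Nat.mul 11 (Nat.add (Nat.mod (Nat.add (Nat.add (Nat.add (Nat.add (Nat.add (Nat.add (Nat.mul (Nat.mod (Nat.div a 54763699237492901685126120802225273763666521) 11) (Nat.mod (Nat.div b 11) 11)) (Nat.mul (Nat.mod (Nat.div a 602400691612421918536387328824478011400331731) 11) (Nat.mod (Nat.div b 214358881) 11))) (Nat.mul (Nat.mod (Nat.div a 6626407607736641103900260617069258125403649041) 11) (Nat.mod (Nat.div b 4177248169415651) 11))) (Nat.mul (Nat.mod (Nat.div a 72890483685103052142902866787761839379440139451) 11) (Nat.mod (Nat.div b 81402749386839761113321)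 11))) (Nat.mul (Nat.mod (Nat.div a 801795320536133573571931534665380233173841533961) 11) (Nat.mod (Nat.div b 1586309297171491574414436704891) 11))) (Nat.mul (Nat.mod (Nat.div a 8819748525897469309291246881319182564912256873571) 11) (Nat.mod (Nat.div b 30912680532870672635673352936887453361) 11))) (Nat.mul (Nat.mod (Nat.div a 97017233784872162402203715694511008214034825609281) 11) (Nat.mod (Nat.div b 602400691612421918536387328824478011400331731) 11))) 11) (Nat.mul 11 (Nat.add (Nat.mod (Nat.add (Nat.add (Nat.add (Nat.add (Nat.add (Nat.add (Nat.mul (Nat.mod (Nat.div a 54763699237492901685126120802225273763666521) 11) (Nat.mod (Nat.div b 121) 11)) (Nat.mul (Nat.mod (Nat.div a 602400691612421918536387328824478011400331731) 11) (Nat.mod (Nat.div b 2357947691) 11))) (Nat.mul (Nat.mod (Nat.div a 6626407607736641103900260617069258125403649041) 11) (Nat.mod (Nat.div b 45949729863572161) 11))) (Nat.mul (Nat.mod (Nat.div a 72890483685103052142902866787761839379440139451) 11) (Nat.mod (Nat.div b 895430243255237372246531)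 11))) (Nat.mul (Nat.mod (Nat.div a 801795320536133573571931534665380233173841533961) 11) (Nat.mod (Nat.div b 17449402268886407318558803753801) 11))) (Nat.mul (Nat.mod (Nat.div a 8819748525897469309291246881319182564912256873571) 11) (Nat.mod (Nat.div b 340039485861577398992406882305761986971) 11))) (Nat.mul (Nat.mod (Nat.div a 97017233784872162402203715694511008214034825609281) 11) (Nat.mod (Nat.div b 6626407607736641103900260617069258125403649041) 11))) 11) (Nat.mul 11 (Nat.add (Nat.mod (Nat.add (Nat.add (Nat.add (Nat.add (Nat.add (Nat.add (Nat.mul (Nat.mod (Nat.div a 54763699237492901685126120802225273763666521) 11) (Nat.mod (Nat.div b 1331) 11)) (Nat.mul (Nat.mod (Nat.div a 602400691612421918536387328824478011400331731) 11) (Nat.mod (Nat.div b 25937424601) 11))) (Nat.mul (Nat.mod (Nat.div a 6626407607736641103900260617069258125403649041) 11) (Nat.mod (Nat.div b 505447028499293771) 11))) (Nat.mul (Nat.mod (Nat.div a 72890483685103052142902866787761839379440139451) 11) (Nat.mod (Nat.div b 9849732675807611094711841)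 11))) (Nat.mul (Nat.mod (Nat.div a 801795320536133573571931534665380233173841533961) 11) (Nat.mod (Nat.div b 191943424957750480504146841291811) 11))) (Nat.mul (Nat.mod (Nat.div a 8819748525897469309291246881319182564912256873571) 11) (Nat.mod (Nat.div b 3740434344477351388916475705363381856681) 11))) (Nat.mul (Nat.mod (Nat.div a 97017233784872162402203715694511008214034825609281) 11) (Nat.mod (Nat.div b 72890483685103052142902866787761839379440139451) 11))) 11) (Nat.mul 11 (Nat.add (Nat.mod (Nat.add (Nat.add (Nat.add (Nat.add (Nat.add (Nat.add (Nat.mul (Nat.mod (Nat.div a 54763699237492901685126120802225273763666521) 11) (Nat.mod (Nat.div b 14641) 11)) (Nat.mul (Nat.mod (Nat.div a 602400691612421918536387328824478011400331731) 11) (Nat.mod (Nat.div b 285311670611) 11))) (Nat.mul (Nat.mod (Nat.div a 6626407607736641103900260617069258125403649041) 11) (Nat.mod (Nat.div b 5559917313492231481) 11))) (Nat.mul (Nat.mod (Nat.div a 72890483685103052142902866787761839379440139451) 11) (Nat.mod (Nat.div b 108347059433883722041830251)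 11))) (Nat.mul (Nat.mod (Nat.div a 801795320536133573571931534665380233173841533961) 11) (Nat.mod (Nat.div b 2111377674535255285545615254209921) 11))) (Nat.mul (Nat.mod (Nat.div a 8819748525897469309291246881319182564912256873571) 11) (Nat.mod (Nat.div b 41144777789250865278081232758997200423491) 11))) (Nat.mul (Nat.mod (Nat.div a 97017233784872162402203715694511008214034825609281) 11) (Nat.mod (Nat.div b 801795320536133573571931534665380233173841533961) 11))) 11) (Nat.mul 11 (Nat.add (Nat.mod (Nat.add (Nat.add (Nat.add (Nat.add (Nat.add (Nat.add (Nat.mul (Nat.mod (Nat.div a 54763699237492901685126120802225273763666521) 11) (Nat.mod (Nat.div b 161051) 11)) (Nat.mul (Nat.mod (Nat.div a 602400691612421918536387328824478011400331731) 11) (Nat.mod (Nat.div b 3138428376721) 11))) (Nat.mul (Nat.mod (Nat.div a 6626407607736641103900260617069258125403649041) 11) (Nat.mod (Nat.div b 61159090448414546291) 11))) (Nat.mul (Nat.mod (Nat.div a 72890483685103052142902866787761839379440139451) 11) (Nat.mod (Nat.div b 1191817653772720942460132761)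 11))) (Nat.mul (Nat.mod (Nat.div a 801795320536133573571931534665380233173841533961) 11) (Nat.mod (Nat.div b 23225154419887808141001767796309131) 11))) (Nat.mul (Nat.mod (Nat.div a 8819748525897469309291246881319182564912256873571) 11) (Nat.mod (Nat.div b 452592555681759518058893560348969204658401) 11))) (Nat.mul (Nat.mod (Nat.div a 97017233784872162402203715694511008214034825609281) 11) (Nat.mod (Nat.div b 8819748525897469309291246881319182564912256873571) 11))) 11) (Nat.mul 11 (Nat.add (Nat.mod (Nat.add (Nat.add (Nat.add (Nat.add (Nat.add (Nat.add (Nat.mul (Nat.mod (Nat.div a 54763699237492901685126120802225273763666521) 11) (Nat.mod (Nat.div b 1771561) 11)) (Nat.mul (Nat.mod (Nat.div a 602400691612421918536387328824478011400331731) 11) (Nat.mod (Nat.div b 34522712143931) 11))) (Nat.mul (Nat.mod (Nat.div a 6626407607736641103900260617069258125403649041) 11) (Nat.mod (Nat.div b 672749994932560009201) 11))) (Nat.mul (Nat.mod (Nat.div a 72890483685103052142902866787761839379440139451) 11) (Nat.mod (Nat.div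 b 13109994191499930367061460371) 11))) (Nat.mul (Nat.mod (Nat.div a 801795320536133573571931534665380233173841533961) 11) (Nat.mod (Nat.div b 255476698618765889551019445759400441) 11))) (Nat.mul (Nat.mod (Nat.div a 8819748525897469309291246881319182564912256873571) 11) (Nat.mod (Nat.div b 4978518112499354698647829163838661251242411) 11))) (Nat.mul (Nat.mod (Nat.div a 97017233784872162402203715694511008214034825609281) 11) (Nat.mod (Nat.div b 97017233784872162402203715694511008214034825609281) 11))) 11) (Nat.mul 11 0))))))))))))))))))))))))))))))))))))))))))))))))))))))))))))))))))))))))))))))))))))))))))))))))))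

theorem mulD_eq (a b : ℕ) : mulD a b = enc (entL a b) := rfl

def ment (a f i : ℕ) : ℕ :=
  Nat.mod (Nat.add (Nat.add (Nat.add (Nat.add (Nat.add (Nat.add
    (Nat.mul (dgt a (7 * i + 0)) (dgt f 0)) (Nat.mul (dgt a (7 * i + 1)) (dgt f 1)))
    (Nat.mul (dgt a (7 * i + 2)) (dgt f 2))) (Nat.mul (dgt a (7 * i + 3)) (dgt f 3)))
    (Nat.mul (dgt a (7 * i + 4)) (dgt f 4))) (Nat.mul (dgt a (7 * i + 5)) (dgt f 5)))
    (Nat.mul (dgt a (7 * i + 6)) (dgt f 6))) 11

def mentT (a f i : ℕ) : ℕ :=
  Nat.mod (Nat.add (Nat.add (Nat.add (Nat.add (Nat.add (Nat.add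
    (Nat.mul (dgt a (7 * 0 + i)) (dgt f 0)) (Nat.mul (dgt a (7 * 1 + i)) (dgt f 1)))
    (Nat.mul (dgt a (7 * 2 + i)) (dgt f 2))) (Nat.mul (dgt a (7 * 3 + i)) (dgt f 3)))
    (Nat.mul (dgt a (7 * 4 + i)) (dgt f 4))) (Nat.mul (dgt a (7 * 5 + i)) (dgt f 5)))
    (Nat.mul (dgt a (7 * 6 + i)) (dgt f 6))) 11

/-- `toV (mvD a f) = toM a *ᵥ toV f` -/
def mvD (a f : ℕ) : ℕ :=
  (Nat.add (Nat.mod (Nat.add (Nat.add (Nat.add (Nat.add (Nat.add (Nat.add (Nat.mul (Nat.mod (Nat.div a 1) 11) (Nat.mod (Nat.div f 1) 11)) (Nat.mul (Nat.mod (Nat.div a 11) 11) (Nat.mod (Nat.div f 11) 11))) (Nat.mul (Nat.mod (Nat.div a 121) 11) (Nat.mod (Nat.div f 121) 11))) (Nat.mul (Nat.mod (Nat.div a 1331) 11) (Nat.mod (Nat.div f 1331) 11))) (Nat.mul (Nat.mod (Nat.div a 14641) 11) (Nat.mod (Nat.div f 14641) 11))) (Nat.mul (Nat.mod (Nat.div a 161051) 11) (Nat.mod (Nat.div f 161051) 11))) (Nat.mul (Nat.mod (Nat.div a 1771561) 11) (Nat.mod (Nat.div f 1771561) 11))) 11) (Nat.mul 11 (Nat.add (Nat.mod (Nat.add (Nat.add (Nat.add (Nat.add (Nat.add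 (Nat.add (Nat.mul (Nat.mod (Nat.div a 19487171) 11) (Nat.mod (Nat.div f 1) 11)) (Nat.mul (Nat.mod (Nat.div a 214358881) 11) (Nat.mod (Nat.div f 11) 11))) (Nat.mul (Nat.mod (Nat.div a 2357947691) 11) (Nat.mod (Nat.div f 121) 11))) (Nat.mul (Nat.mod (Nat.div a 25937424601) 11) (Nat.mod (Nat.div f 1331) 11))) (Nat.mul (Nat.mod (Nat.div a 285311670611) 11) (Nat.mod (Nat.div f 14641) 11))) (Nat.mul (Nat.mod (Nat.div a 3138428376721) 11) (Nat.mod (Nat.div f 161051) 11))) (Nat.mul (Nat.mod (Nat.div a 34522712143931) 11) (Nat.mod (Nat.div f 1771561) 11))) 11) (Nat.mul 11 (Nat.add (Nat.mod (Nat.add (Nat.add (Nat.add (Nat.add (Nat.add (Nat.add (Nat.mul (Nat.mod (Nat.div a 379749833583241) 11) (Nat.mod (Nat.div f 1) 11)) (Nat.mul (Nat.mod (Nat.div a 4177248169415651) 11) (Nat.mod (Nat.div f 11) 11))) (Nat.mul (Nat.mod (Nat.div a 45949729863572161) 11) (Nat.mod (Nat.div f 121) 11))) (Nat.mul (Nat.mod (Nat.div a 505447028499293771) 11) (Nat.mod (Nat.div f 1331) 11))) (Nat.mul (Nat.mod (Nat.div a 5559917313492231481)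 11) (Nat.mod (Nat.div f 14641) 11))) (Nat.mul (Nat.mod (Nat.div a 61159090448414546291) 11) (Nat.mod (Nat.div f 161051) 11))) (Nat.mul (Nat.mod (Nat.div a 672749994932560009201) 11) (Nat.mod (Nat.div f 1771561) 11))) 11) (Nat.mul 11 (Nat.add (Nat.mod (Nat.add (Nat.add (Nat.add (Nat.add (Nat.add (Nat.add (Nat.mul (Nat.mod (Nat.div a 7400249944258160101211) 11) (Nat.mod (Nat.div f 1) 11)) (Nat.mul (Nat.mod (Nat.div a 81402749386839761113321) 11) (Nat.mod (Nat.div f 11) 11))) (Nat.mul (Nat.mod (Nat.div a 895430243255237372246531) 11) (Nat.mod (Nat.div f 121) 11))) (Nat.mul (Nat.mod (Nat.div a 9849732675807611094711841) 11) (Nat.mod (Nat.div f 1331) 11))) (Nat.mul (Nat.mod (Nat.div a 108347059433883722041830251) 11) (Nat.mod (Nat.div f 14641) 11))) (Nat.mul (Nat.mod (Nat.div a 1191817653772720942460132761) 11) (Nat.mod (Nat.div f 161051) 11))) (Nat.mul (Nat.mod (Nat.div a 13109994191499930367061460371) 11) (Nat.mod (Nat.div f 1771561) 11))) 11) (Nat.mul 11 (Nat.add (Nat.mod (Nat.add (Nat.add (Nat.add (Nat.add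 (Nat.add (Nat.add (Nat.mul (Nat.mod (Nat.div a 144209936106499234037676064081) 11) (Nat.mod (Nat.div f 1) 11)) (Nat.mul (Nat.mod (Nat.div a 1586309297171491574414436704891) 11) (Nat.mod (Nat.div f 11) 11))) (Nat.mul (Nat.mod (Nat.div a 17449402268886407318558803753801) 11) (Nat.mod (Nat.div f 121) 11))) (Nat.mul (Nat.mod (Nat.div a 191943424957750480504146841291811) 11) (Nat.mod (Nat.div f 1331) 11))) (Nat.mul (Nat.mod (Nat.div a 2111377674535255285545615254209921) 11) (Nat.mod (Nat.div f 14641) 11))) (Nat.mul (Nat.mod (Nat.div a 23225154419887808141001767796309131) 11) (Nat.mod (Nat.div f 161051) 11))) (Nat.mul (Nat.mod (Nat.div a 255476698618765889551019445759400441) 11) (Nat.mod (Nat.div f 1771561) 11))) 11) (Nat.mul 11 (Nat.add (Nat.mod (Nat.add (Nat.add (Nat.add (Nat.add (Nat.add (Nat.add (Nat.mul (Nat.mod (Nat.div a 2810243684806424785061213903353404851) 11) (Nat.mod (Nat.div f 1) 11)) (Nat.mul (Nat.mod (Nat.div a 30912680532870672635673352936887453361) 11) (Nat.mod (Nat.div f 11) 11))) (Nat.mul (Nat.mod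 (Nat.div a 340039485861577398992406882305761986971) 11) (Nat.mod (Nat.div f 121) 11))) (Nat.mul (Nat.mod (Nat.div a 3740434344477351388916475705363381856681) 11) (Nat.mod (Nat.div f 1331) 11))) (Nat.mul (Nat.mod (Nat.div a 41144777789250865278081232758997200423491) 11) (Nat.mod (Nat.div f 14641) 11))) (Nat.mul (Nat.mod (Nat.div a 452592555681759518058893560348969204658401) 11) (Nat.mod (Nat.div f 161051) 11))) (Nat.mul (Nat.mod (Nat.div a 4978518112499354698647829163838661251242411) 11) (Nat.mod (Nat.div f 1771561) 11))) 11) (Nat.mul 11 (Nat.add (Nat.mod (Nat.add (Nat.add (Nat.add (Nat.add (Nat.add (Nat.add (Nat.mul (Nat.mod (Nat.div a 54763699237492901685126120802225273763666521) 11) (Nat.mod (Nat.div f 1) 11)) (Nat.mul (Nat.mod (Nat.div a 602400691612421918536387328824478011400331731) 11) (Nat.mod (Nat.div f 11) 11))) (Nat.mul (Nat.mod (Nat.div a 6626407607736641103900260617069258125403649041) 11) (Nat.mod (Nat.div f 121) 11))) (Nat.mul (Nat.mod (Nat.div a 72890483685103052142902866787761839379440139451)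 11) (Nat.mod (Nat.div f 1331) 11))) (Nat.mul (Nat.mod (Nat.div a 801795320536133573571931534665380233173841533961) 11) (Nat.mod (Nat.div f 14641) 11))) (Nat.mul (Nat.mod (Nat.div a 8819748525897469309291246881319182564912256873571) 11) (Nat.mod (Nat.div f 161051) 11))) (Nat.mul (Nat.mod (Nat.div a 97017233784872162402203715694511008214034825609281) 11) (Nat.mod (Nat.div f 1771561) 11))) 11) (Nat.mul 11 0))))))))))))))

theorem mvD_eq (a f : ℕ) : mvD a f =
    enc [ment a f 0, ment a f 1, ment a f 2, ment a f 3, ment a f 4, ment a f 5, ment a f 6] := rfl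

/-- `toV (mvTD a f) = (toM a)ᵀ *ᵥ toV f` -/
def mvTD (a f : ℕ) : ℕ :=
  (Nat.add (Nat.mod (Nat.add (Nat.add (Nat.add (Nat.add (Nat.add (Nat.add (Nat.mul (Nat.mod (Nat.div a 1) 11) (Nat.mod (Nat.div f 1) 11)) (Nat.mul (Nat.mod (Nat.div a 19487171) 11) (Nat.mod (Nat.div f 11) 11))) (Nat.mul (Nat.mod (Nat.div a 379749833583241) 11) (Nat.mod (Nat.div f 121) 11))) (Nat.mul (Nat.mod (Nat.div a 7400249944258160101211) 11) (Nat.mod (Nat.div f 1331) 11))) (Nat.mul (Nat.mod (Nat.div a 144209936106499234037676064081) 11) (Nat.mod (Nat.div f 14641) 11))) (Nat.mul (Nat.mod (Nat.div a 2810243684806424785061213903353404851) 11) (Nat.mod (Nat.div f 161051) 11))) (Nat.mul (Nat.mod (Nat.div a 54763699237492901685126120802225273763666521) 11) (Nat.mod (Nat.div f 1771561) 11))) 11) (Nat.mul 11 (Nat.add (Nat.mod (Nat.add (Nat.add (Nat.add (Nat.add (Nat.add (Nat.add (Nat.mul (Nat.mod (Nat.div a 11) 11) (Nat.mod (Nat.div f 1) 11)) (Nat.mul (Nat.mod (Nat.div a 214358881) 11) (Nat.mod (Nat.div f 11) 11))) (Nat.mul (Nat.mod (Nat.div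 a 4177248169415651) 11) (Nat.mod (Nat.div f 121) 11))) (Nat.mul (Nat.mod (Nat.div a 81402749386839761113321) 11) (Nat.mod (Nat.div f 1331) 11))) (Nat.mul (Nat.mod (Nat.div a 1586309297171491574414436704891) 11) (Nat.mod (Nat.div f 14641) 11))) (Nat.mul (Nat.mod (Nat.div a 30912680532870672635673352936887453361) 11) (Nat.mod (Nat.div f 161051) 11))) (Nat.mul (Nat.mod (Nat.div a 602400691612421918536387328824478011400331731) 11) (Nat.mod (Nat.div f 1771561) 11))) 11) (Nat.mul 11 (Nat.add (Nat.mod (Nat.add (Nat.add (Nat.add (Nat.add (Nat.add (Nat.add (Nat.mul (Nat.mod (Nat.div a 121) 11) (Nat.mod (Nat.div f 1) 11)) (Nat.mul (Nat.mod (Nat.div a 2357947691) 11) (Nat.mod (Nat.div f 11) 11))) (Nat.mul (Nat.mod (Nat.div a 45949729863572161) 11) (Nat.mod (Nat.div f 121) 11))) (Nat.mul (Nat.mod (Nat.div a 895430243255237372246531) 11) (Nat.mod (Nat.div f 1331) 11))) (Nat.mul (Nat.mod (Nat.div a 17449402268886407318558803753801) 11) (Nat.mod (Nat.div f 14641) 11))) (Nat.mul (Nat.mod (Nat.div a 340039485861577398992406882305761986971)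 11) (Nat.mod (Nat.div f 161051) 11))) (Nat.mul (Nat.mod (Nat.div a 6626407607736641103900260617069258125403649041) 11) (Nat.mod (Nat.div f 1771561) 11))) 11) (Nat.mul 11 (Nat.add (Nat.mod (Nat.add (Nat.add (Nat.add (Nat.add (Nat.add (Nat.add (Nat.mul (Nat.mod (Nat.div a 1331) 11) (Nat.mod (Nat.div f 1) 11)) (Nat.mul (Nat.mod (Nat.div a 25937424601) 11) (Nat.mod (Nat.div f 11) 11))) (Nat.mul (Nat.mod (Nat.div a 505447028499293771) 11) (Nat.mod (Nat.div f 121) 11))) (Nat.mul (Nat.mod (Nat.div a 9849732675807611094711841) 11) (Nat.mod (Nat.div f 1331) 11))) (Nat.mul (Nat.mod (Nat.div a 191943424957750480504146841291811) 11) (Nat.mod (Nat.div f 14641) 11))) (Nat.mul (Nat.mod (Nat.div a 3740434344477351388916475705363381856681) 11) (Nat.mod (Nat.div f 161051) 11))) (Nat.mul (Nat.mod (Nat.div a 72890483685103052142902866787761839379440139451) 11) (Nat.mod (Nat.div f 1771561) 11))) 11) (Nat.mul 11 (Nat.add (Nat.mod (Nat.add (Nat.add (Nat.add (Nat.add (Nat.add (Nat.add (Nat.mul (Nat.mod (Nat.div a 14641) 11) (Nat.mod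 (Nat.div f 1) 11)) (Nat.mul (Nat.mod (Nat.div a 285311670611) 11) (Nat.mod (Nat.div f 11) 11))) (Nat.mul (Nat.mod (Nat.div a 5559917313492231481) 11) (Nat.mod (Nat.div f 121) 11))) (Nat.mul (Nat.mod (Nat.div a 108347059433883722041830251) 11) (Nat.mod (Nat.div f 1331) 11))) (Nat.mul (Nat.mod (Nat.div a 2111377674535255285545615254209921) 11) (Nat.mod (Nat.div f 14641) 11))) (Nat.mul (Nat.mod (Nat.div a 41144777789250865278081232758997200423491) 11) (Nat.mod (Nat.div f 161051) 11))) (Nat.mul (Nat.mod (Nat.div a 801795320536133573571931534665380233173841533961) 11) (Nat.mod (Nat.div f 1771561) 11))) 11) (Nat.mul 11 (Nat.add (Nat.mod (Nat.add (Nat.add (Nat.add (Nat.add (Nat.add (Nat.add (Nat.mul (Nat.mod (Nat.div a 161051) 11) (Nat.mod (Nat.div f 1) 11)) (Nat.mul (Nat.mod (Nat.div a 3138428376721) 11) (Nat.mod (Nat.div f 11) 11))) (Nat.mul (Nat.mod (Nat.div a 61159090448414546291) 11) (Nat.mod (Nat.div f 121) 11))) (Nat.mul (Nat.mod (Nat.div a 1191817653772720942460132761) 11) (Nat.mod (Nat.div f 1331) 11)))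 (Nat.mul (Nat.mod (Nat.div a 23225154419887808141001767796309131) 11) (Nat.mod (Nat.div f 14641) 11))) (Nat.mul (Nat.mod (Nat.div a 452592555681759518058893560348969204658401) 11) (Nat.mod (Nat.div f 161051) 11))) (Nat.mul (Nat.mod (Nat.div a 8819748525897469309291246881319182564912256873571) 11) (Nat.mod (Nat.div f 1771561) 11))) 11) (Nat.mul 11 (Nat.add (Nat.mod (Nat.add (Nat.add (Nat.add (Nat.add (Nat.add (Nat.add (Nat.mul (Nat.mod (Nat.div a 1771561) 11) (Nat.mod (Nat.div f 1) 11)) (Nat.mul (Nat.mod (Nat.div a 34522712143931) 11) (Nat.mod (Nat.div f 11) 11))) (Nat.mul (Nat.mod (Nat.div a 672749994932560009201) 11) (Nat.mod (Nat.div f 121) 11))) (Nat.mul (Nat.mod (Nat.div a 13109994191499930367061460371) 11) (Nat.mod (Nat.div f 1331) 11))) (Nat.mul (Nat.mod (Nat.div a 255476698618765889551019445759400441) 11) (Nat.mod (Nat.div f 14641) 11))) (Nat.mul (Nat.mod (Nat.div a 4978518112499354698647829163838661251242411) 11) (Nat.mod (Nat.div f 161051) 11))) (Nat.mul (Nat.mod (Nat.div a 97017233784872162402203715694511008214034825609281)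 11) (Nat.mod (Nat.div f 1771561) 11))) 11) (Nat.mul 11 0))))))))))))))

theorem mvTD_eq (a f : ℕ) : mvTD a f =
    enc [mentT a f 0, mentT a f 1, mentT a f 2, mentT a f 3, mentT a f 4, mentT a f 5, mentT a f 6] :=
  rfl

/-- `toM (ttD a) = (toM a)ᵀ * toM a` -/
def ttD (a : ℕ) : ℕ :=
  (Nat.add (Nat.mod (Nat.add (Nat.add (Nat.add (Nat.add (Nat.add (Nat.add (Nat.mul (Nat.mod (Nat.div a 1) 11) (Nat.mod (Nat.div a 1) 11)) (Nat.mul (Nat.mod (Nat.div a 19487171) 11) (Nat.mod (Nat.div a 19487171) 11))) (Nat.mul (Nat.mod (Nat.div a 379749833583241) 11) (Nat.mod (Nat.div a 379749833583241) 11))) (Nat.mul (Nat.mod (Nat.div a 7400249944258160101211) 11) (Nat.mod (Nat.div a 7400249944258160101211) 11))) (Nat.mul (Nat.mod (Nat.div a 144209936106499234037676064081) 11) (Nat.mod (Nat.div a 144209936106499234037676064081) 11))) (Nat.mul (Nat.mod (Nat.div a 2810243684806424785061213903353404851) 11) (Nat.mod (Nat.div a 2810243684806424785061213903353404851) 11))) (Nat.mul (Nat.mod (Nat.div a 54763699237492901685126120802225273763666521)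 11) (Nat.mod (Nat.div a 54763699237492901685126120802225273763666521) 11))) 11) (Nat.mul 11 (Nat.add (Nat.mod (Nat.add (Nat.add (Nat.add (Nat.add (Nat.add (Nat.add (Nat.mul (Nat.mod (Nat.div a 1) 11) (Nat.mod (Nat.div a 11) 11)) (Nat.mul (Nat.mod (Nat.div a 19487171) 11) (Nat.mod (Nat.div a 214358881) 11))) (Nat.mul (Nat.mod (Nat.div a 379749833583241) 11) (Nat.mod (Nat.div a 4177248169415651) 11))) (Nat.mul (Nat.mod (Nat.div a 7400249944258160101211) 11) (Nat.mod (Nat.div a 81402749386839761113321) 11))) (Nat.mul (Nat.mod (Nat.div a 144209936106499234037676064081) 11) (Nat.mod (Nat.div a 1586309297171491574414436704891) 11))) (Nat.mul (Nat.mod (Nat.div a 2810243684806424785061213903353404851) 11) (Nat.mod (Nat.div a 30912680532870672635673352936887453361) 11))) (Nat.mul (Nat.mod (Nat.div a 54763699237492901685126120802225273763666521) 11) (Nat.mod (Nat.div a 602400691612421918536387328824478011400331731) 11))) 11) (Nat.mul 11 (Nat.add (Nat.mod (Nat.add (Nat.add (Nat.add (Nat.add (Nat.add (Nat.add (Nat.mul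 (Nat.mod (Nat.div a 1) 11) (Nat.mod (Nat.div a 121) 11)) (Nat.mul (Nat.mod (Nat.div a 19487171) 11) (Nat.mod (Nat.div a 2357947691) 11))) (Nat.mul (Nat.mod (Nat.div a 379749833583241) 11) (Nat.mod (Nat.div a 45949729863572161) 11))) (Nat.mul (Nat.mod (Nat.div a 7400249944258160101211) 11) (Nat.mod (Nat.div a 895430243255237372246531) 11))) (Nat.mul (Nat.mod (Nat.div a 144209936106499234037676064081) 11) (Nat.mod (Nat.div a 17449402268886407318558803753801) 11))) (Nat.mul (Nat.mod (Nat.div a 2810243684806424785061213903353404851) 11) (Nat.mod (Nat.div a 340039485861577398992406882305761986971) 11))) (Nat.mul (Nat.mod (Nat.div a 54763699237492901685126120802225273763666521) 11) (Nat.mod (Nat.div a 6626407607736641103900260617069258125403649041) 11))) 11) (Nat.mul 11 (Nat.add (Nat.mod (Nat.add (Nat.add (Nat.add (Nat.add (Nat.add (Nat.add (Nat.mul (Nat.mod (Nat.div a 1) 11) (Nat.mod (Nat.div a 1331) 11)) (Nat.mul (Nat.mod (Nat.div a 19487171) 11) (Nat.mod (Nat.div a 25937424601) 11))) (Nat.mul (Nat.mod (Nat.div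 a 379749833583241) 11) (Nat.mod (Nat.div a 505447028499293771) 11))) (Nat.mul (Nat.mod (Nat.div a 7400249944258160101211) 11) (Nat.mod (Nat.div a 9849732675807611094711841) 11))) (Nat.mul (Nat.mod (Nat.div a 144209936106499234037676064081) 11) (Nat.mod (Nat.div a 191943424957750480504146841291811) 11))) (Nat.mul (Nat.mod (Nat.div a 2810243684806424785061213903353404851) 11) (Nat.mod (Nat.div a 3740434344477351388916475705363381856681) 11))) (Nat.mul (Nat.mod (Nat.div a 54763699237492901685126120802225273763666521) 11) (Nat.mod (Nat.div a 72890483685103052142902866787761839379440139451) 11))) 11) (Nat.mul 11 (Nat.add (Nat.mod (Nat.add (Nat.add (Nat.add (Nat.add (Nat.add (Nat.add (Nat.mul (Nat.mod (Nat.div a 1) 11) (Nat.mod (Nat.div a 14641) 11)) (Nat.mul (Nat.mod (Nat.div a 19487171) 11) (Nat.mod (Nat.div a 285311670611) 11))) (Nat.mul (Nat.mod (Nat.div a 379749833583241) 11) (Nat.mod (Nat.div a 5559917313492231481) 11))) (Nat.mul (Nat.mod (Nat.div a 7400249944258160101211) 11) (Nat.mod (Nat.div a 108347059433883722041830251)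 11))) (Nat.mul (Nat.mod (Nat.div a 144209936106499234037676064081) 11) (Nat.mod (Nat.div a 2111377674535255285545615254209921) 11))) (Nat.mul (Nat.mod (Nat.div a 2810243684806424785061213903353404851) 11) (Nat.mod (Nat.div a 41144777789250865278081232758997200423491) 11))) (Nat.mul (Nat.mod (Nat.div a 54763699237492901685126120802225273763666521) 11) (Nat.mod (Nat.div a 801795320536133573571931534665380233173841533961) 11))) 11) (Nat.mul 11 (Nat.add (Nat.mod (Nat.add (Nat.add (Nat.add (Nat.add (Nat.add (Nat.add (Nat.mul (Nat.mod (Nat.div a 1) 11) (Nat.mod (Nat.div a 161051) 11)) (Nat.mul (Nat.mod (Nat.div a 19487171) 11) (Nat.mod (Nat.div a 3138428376721) 11))) (Nat.mul (Nat.mod (Nat.div a 379749833583241) 11) (Nat.mod (Nat.div a 61159090448414546291) 11))) (Nat.mul (Nat.mod (Nat.div a 7400249944258160101211) 11) (Nat.mod (Nat.div a 1191817653772720942460132761) 11))) (Nat.mul (Nat.mod (Nat.div a 144209936106499234037676064081) 11) (Nat.mod (Nat.div a 23225154419887808141001767796309131) 11))) (Nat.mul (Nat.mod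 (Nat.div a 2810243684806424785061213903353404851) 11) (Nat.mod (Nat.div a 452592555681759518058893560348969204658401) 11))) (Nat.mul (Nat.mod (Nat.div a 54763699237492901685126120802225273763666521) 11) (Nat.mod (Nat.div a 8819748525897469309291246881319182564912256873571) 11))) 11) (Nat.mul 11 (Nat.add (Nat.mod (Nat.add (Nat.add (Nat.add (Nat.add (Nat.add (Nat.add (Nat.mul (Nat.mod (Nat.div a 1) 11) (Nat.mod (Nat.div a 1771561) 11)) (Nat.mul (Nat.mod (Nat.div a 19487171) 11) (Nat.mod (Nat.div a 34522712143931) 11))) (Nat.mul (Nat.mod (Nat.div a 379749833583241) 11) (Nat.mod (Nat.div a 672749994932560009201) 11))) (Nat.mul (Nat.mod (Nat.div a 7400249944258160101211) 11) (Nat.mod (Nat.div a 13109994191499930367061460371) 11))) (Nat.mul (Nat.mod (Nat.div a 144209936106499234037676064081) 11) (Nat.mod (Nat.div a 255476698618765889551019445759400441) 11))) (Nat.mul (Nat.mod (Nat.div a 2810243684806424785061213903353404851) 11) (Nat.mod (Nat.div a 4978518112499354698647829163838661251242411) 11))) (Nat.mul (Nat.mod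 (Nat.div a 54763699237492901685126120802225273763666521) 11) (Nat.mod (Nat.div a 97017233784872162402203715694511008214034825609281) 11))) 11) (Nat.mul 11 (Nat.add (Nat.mod (Nat.add (Nat.add (Nat.add (Nat.add (Nat.add (Nat.add (Nat.mul (Nat.mod (Nat.div a 11) 11) (Nat.mod (Nat.div a 1) 11)) (Nat.mul (Nat.mod (Nat.div a 214358881) 11) (Nat.mod (Nat.div a 19487171) 11))) (Nat.mul (Nat.mod (Nat.div a 4177248169415651) 11) (Nat.mod (Nat.div a 379749833583241) 11))) (Nat.mul (Nat.mod (Nat.div a 81402749386839761113321) 11) (Nat.mod (Nat.div a 7400249944258160101211) 11))) (Nat.mul (Nat.mod (Nat.div a 1586309297171491574414436704891) 11) (Nat.mod (Nat.div a 144209936106499234037676064081) 11))) (Nat.mul (Nat.mod (Nat.div a 30912680532870672635673352936887453361) 11) (Nat.mod (Nat.div a 2810243684806424785061213903353404851) 11))) (Nat.mul (Nat.mod (Nat.div a 602400691612421918536387328824478011400331731) 11) (Nat.mod (Nat.div a 54763699237492901685126120802225273763666521) 11))) 11) (Nat.mul 11 (Nat.add (Nat.mod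 (Nat.add (Nat.add (Nat.add (Nat.add (Nat.add (Nat.add (Nat.mul (Nat.mod (Nat.div a 11) 11) (Nat.mod (Nat.div a 11) 11)) (Nat.mul (Nat.mod (Nat.div a 214358881) 11) (Nat.mod (Nat.div a 214358881) 11))) (Nat.mul (Nat.mod (Nat.div a 4177248169415651) 11) (Nat.mod (Nat.div a 4177248169415651) 11))) (Nat.mul (Nat.mod (Nat.div a 81402749386839761113321) 11) (Nat.mod (Nat.div a 81402749386839761113321) 11))) (Nat.mul (Nat.mod (Nat.div a 1586309297171491574414436704891) 11) (Nat.mod (Nat.div a 1586309297171491574414436704891) 11))) (Nat.mul (Nat.mod (Nat.div a 30912680532870672635673352936887453361) 11) (Nat.mod (Nat.div a 30912680532870672635673352936887453361) 11))) (Nat.mul (Nat.mod (Nat.div a 602400691612421918536387328824478011400331731) 11) (Nat.mod (Nat.div a 602400691612421918536387328824478011400331731) 11))) 11) (Nat.mul 11 (Nat.add (Nat.mod (Nat.add (Nat.add (Nat.add (Nat.add (Nat.add (Nat.add (Nat.mul (Nat.mod (Nat.div a 11) 11) (Nat.mod (Nat.div a 121) 11)) (Nat.mul (Nat.mod (Nat.div a 214358881) 11)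 (Nat.mod (Nat.div a 2357947691) 11))) (Nat.mul (Nat.mod (Nat.div a 4177248169415651) 11) (Nat.mod (Nat.div a 45949729863572161) 11))) (Nat.mul (Nat.mod (Nat.div a 81402749386839761113321) 11) (Nat.mod (Nat.div a 895430243255237372246531) 11))) (Nat.mul (Nat.mod (Nat.div a 1586309297171491574414436704891) 11) (Nat.mod (Nat.div a 17449402268886407318558803753801) 11))) (Nat.mul (Nat.mod (Nat.div a 30912680532870672635673352936887453361) 11) (Nat.mod (Nat.div a 340039485861577398992406882305761986971) 11))) (Nat.mul (Nat.mod (Nat.div a 602400691612421918536387328824478011400331731) 11) (Nat.mod (Nat.div a 6626407607736641103900260617069258125403649041) 11))) 11) (Nat.mul 11 (Nat.add (Nat.mod (Nat.add (Nat.add (Nat.add (Nat.add (Nat.add (Nat.add (Nat.mul (Nat.mod (Nat.div a 11) 11) (Nat.mod (Nat.div a 1331) 11)) (Nat.mul (Nat.mod (Nat.div a 214358881) 11) (Nat.mod (Nat.div a 25937424601) 11))) (Nat.mul (Nat.mod (Nat.div a 4177248169415651) 11) (Nat.mod (Nat.div a 505447028499293771) 11))) (Nat.mul (Nat.mod (Nat.div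 a 81402749386839761113321) 11) (Nat.mod (Nat.div a 9849732675807611094711841) 11))) (Nat.mul (Nat.mod (Nat.div a 1586309297171491574414436704891) 11) (Nat.mod (Nat.div a 191943424957750480504146841291811) 11))) (Nat.mul (Nat.mod (Nat.div a 30912680532870672635673352936887453361) 11) (Nat.mod (Nat.div a 3740434344477351388916475705363381856681) 11))) (Nat.mul (Nat.mod (Nat.div a 602400691612421918536387328824478011400331731) 11) (Nat.mod (Nat.div a 72890483685103052142902866787761839379440139451) 11))) 11) (Nat.mul 11 (Nat.add (Nat.mod (Nat.add (Nat.add (Nat.add (Nat.add (Nat.add (Nat.add (Nat.mul (Nat.mod (Nat.div a 11) 11) (Nat.mod (Nat.div a 14641) 11)) (Nat.mul (Nat.mod (Nat.div a 214358881) 11) (Nat.mod (Nat.div a 285311670611) 11))) (Nat.mul (Nat.mod (Nat.div a 4177248169415651) 11) (Nat.mod (Nat.div a 5559917313492231481) 11))) (Nat.mul (Nat.mod (Nat.div a 81402749386839761113321) 11) (Nat.mod (Nat.div a 108347059433883722041830251) 11))) (Nat.mul (Nat.mod (Nat.div a 1586309297171491574414436704891)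 11) (Nat.mod (Nat.div a 2111377674535255285545615254209921) 11))) (Nat.mul (Nat.mod (Nat.div a 30912680532870672635673352936887453361) 11) (Nat.mod (Nat.div a 41144777789250865278081232758997200423491) 11))) (Nat.mul (Nat.mod (Nat.div a 602400691612421918536387328824478011400331731) 11) (Nat.mod (Nat.div a 801795320536133573571931534665380233173841533961) 11))) 11) (Nat.mul 11 (Nat.add (Nat.mod (Nat.add (Nat.add (Nat.add (Nat.add (Nat.add (Nat.add (Nat.mul (Nat.mod (Nat.div a 11) 11) (Nat.mod (Nat.div a 161051) 11)) (Nat.mul (Nat.mod (Nat.div a 214358881) 11) (Nat.mod (Nat.div a 3138428376721) 11))) (Nat.mul (Nat.mod (Nat.div a 4177248169415651) 11) (Nat.mod (Nat.div a 61159090448414546291) 11))) (Nat.mul (Nat.mod (Nat.div a 81402749386839761113321) 11) (Nat.mod (Nat.div a 1191817653772720942460132761) 11))) (Nat.mul (Nat.mod (Nat.div a 1586309297171491574414436704891) 11) (Nat.mod (Nat.div a 23225154419887808141001767796309131) 11))) (Nat.mul (Nat.mod (Nat.div a 30912680532870672635673352936887453361) 11)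 (Nat.mod (Nat.div a 452592555681759518058893560348969204658401) 11))) (Nat.mul (Nat.mod (Nat.div a 602400691612421918536387328824478011400331731) 11) (Nat.mod (Nat.div a 8819748525897469309291246881319182564912256873571) 11))) 11) (Nat.mul 11 (Nat.add (Nat.mod (Nat.add (Nat.add (Nat.add (Nat.add (Nat.add (Nat.add (Nat.mul (Nat.mod (Nat.div a 11) 11) (Nat.mod (Nat.div a 1771561) 11)) (Nat.mul (Nat.mod (Nat.div a 214358881) 11) (Nat.mod (Nat.div a 34522712143931) 11))) (Nat.mul (Nat.mod (Nat.div a 4177248169415651) 11) (Nat.mod (Nat.div a 672749994932560009201) 11))) (Nat.mul (Nat.mod (Nat.div a 81402749386839761113321) 11) (Nat.mod (Nat.div a 13109994191499930367061460371) 11))) (Nat.mul (Nat.mod (Nat.div a 1586309297171491574414436704891) 11) (Nat.mod (Nat.div a 255476698618765889551019445759400441) 11))) (Nat.mul (Nat.mod (Nat.div a 30912680532870672635673352936887453361) 11) (Nat.mod (Nat.div a 4978518112499354698647829163838661251242411) 11))) (Nat.mul (Nat.mod (Nat.div a 602400691612421918536387328824478011400331731)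 11) (Nat.mod (Nat.div a 97017233784872162402203715694511008214034825609281) 11))) 11) (Nat.mul 11 (Nat.add (Nat.mod (Nat.add (Nat.add (Nat.add (Nat.add (Nat.add (Nat.add (Nat.mul (Nat.mod (Nat.div a 121) 11) (Nat.mod (Nat.div a 1) 11)) (Nat.mul (Nat.mod (Nat.div a 2357947691) 11) (Nat.mod (Nat.div a 19487171) 11))) (Nat.mul (Nat.mod (Nat.div a 45949729863572161) 11) (Nat.mod (Nat.div a 379749833583241) 11))) (Nat.mul (Nat.mod (Nat.div a 895430243255237372246531) 11) (Nat.mod (Nat.div a 7400249944258160101211) 11))) (Nat.mul (Nat.mod (Nat.div a 17449402268886407318558803753801) 11) (Nat.mod (Nat.div a 144209936106499234037676064081) 11))) (Nat.mul (Nat.mod (Nat.div a 340039485861577398992406882305761986971) 11) (Nat.mod (Nat.div a 2810243684806424785061213903353404851) 11))) (Nat.mul (Nat.mod (Nat.div a 6626407607736641103900260617069258125403649041) 11) (Nat.mod (Nat.div a 54763699237492901685126120802225273763666521) 11))) 11) (Nat.mul 11 (Nat.add (Nat.mod (Nat.add (Nat.add (Nat.add (Nat.add (Nat.add (Nat.add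 (Nat.mul (Nat.mod (Nat.div a 121) 11) (Nat.mod (Nat.div a 11) 11)) (Nat.mul (Nat.mod (Nat.div a 2357947691) 11) (Nat.mod (Nat.div a 214358881) 11))) (Nat.mul (Nat.mod (Nat.div a 45949729863572161) 11) (Nat.mod (Nat.div a 4177248169415651) 11))) (Nat.mul (Nat.mod (Nat.div a 895430243255237372246531) 11) (Nat.mod (Nat.div a 81402749386839761113321) 11))) (Nat.mul (Nat.mod (Nat.div a 17449402268886407318558803753801) 11) (Nat.mod (Nat.div a 1586309297171491574414436704891) 11))) (Nat.mul (Nat.mod (Nat.div a 340039485861577398992406882305761986971) 11) (Nat.mod (Nat.div a 30912680532870672635673352936887453361) 11))) (Nat.mul (Nat.mod (Nat.div a 6626407607736641103900260617069258125403649041) 11) (Nat.mod (Nat.div a 602400691612421918536387328824478011400331731) 11))) 11) (Nat.mul 11 (Nat.add (Nat.mod (Nat.add (Nat.add (Nat.add (Nat.add (Nat.add (Nat.add (Nat.mul (Nat.mod (Nat.div a 121) 11) (Nat.mod (Nat.div a 121) 11)) (Nat.mul (Nat.mod (Nat.div a 2357947691) 11) (Nat.mod (Nat.div a 2357947691) 11))) (Nat.mul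 (Nat.mod (Nat.div a 45949729863572161) 11) (Nat.mod (Nat.div a 45949729863572161) 11))) (Nat.mul (Nat.mod (Nat.div a 895430243255237372246531) 11) (Nat.mod (Nat.div a 895430243255237372246531) 11))) (Nat.mul (Nat.mod (Nat.div a 17449402268886407318558803753801) 11) (Nat.mod (Nat.div a 17449402268886407318558803753801) 11))) (Nat.mul (Nat.mod (Nat.div a 340039485861577398992406882305761986971) 11) (Nat.mod (Nat.div a 340039485861577398992406882305761986971) 11))) (Nat.mul (Nat.mod (Nat.div a 6626407607736641103900260617069258125403649041) 11) (Nat.mod (Nat.div a 6626407607736641103900260617069258125403649041) 11))) 11) (Nat.mul 11 (Nat.add (Nat.mod (Nat.add (Nat.add (Nat.add (Nat.add (Nat.add (Nat.add (Nat.mul (Nat.mod (Nat.div a 121) 11) (Nat.mod (Nat.div a 1331) 11)) (Nat.mul (Nat.mod (Nat.div a 2357947691) 11) (Nat.mod (Nat.div a 25937424601) 11))) (Nat.mul (Nat.mod (Nat.div a 45949729863572161) 11) (Nat.mod (Nat.div a 505447028499293771) 11))) (Nat.mul (Nat.mod (Nat.div a 895430243255237372246531) 11)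 (Nat.mod (Nat.div a 9849732675807611094711841) 11))) (Nat.mul (Nat.mod (Nat.div a 17449402268886407318558803753801) 11) (Nat.mod (Nat.div a 191943424957750480504146841291811) 11))) (Nat.mul (Nat.mod (Nat.div a 340039485861577398992406882305761986971) 11) (Nat.mod (Nat.div a 3740434344477351388916475705363381856681) 11))) (Nat.mul (Nat.mod (Nat.div a 6626407607736641103900260617069258125403649041) 11) (Nat.mod (Nat.div a 72890483685103052142902866787761839379440139451) 11))) 11) (Nat.mul 11 (Nat.add (Nat.mod (Nat.add (Nat.add (Nat.add (Nat.add (Nat.add (Nat.add (Nat.mul (Nat.mod (Nat.div a 121) 11) (Nat.mod (Nat.div a 14641) 11)) (Nat.mul (Nat.mod (Nat.div a 2357947691) 11) (Nat.mod (Nat.div a 285311670611) 11))) (Nat.mul (Nat.mod (Nat.div a 45949729863572161) 11) (Nat.mod (Nat.div a 5559917313492231481) 11))) (Nat.mul (Nat.mod (Nat.div a 895430243255237372246531) 11) (Nat.mod (Nat.div a 108347059433883722041830251) 11))) (Nat.mul (Nat.mod (Nat.div a 17449402268886407318558803753801) 11) (Nat.mod (Nat.div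 a 2111377674535255285545615254209921) 11))) (Nat.mul (Nat.mod (Nat.div a 340039485861577398992406882305761986971) 11) (Nat.mod (Nat.div a 41144777789250865278081232758997200423491) 11))) (Nat.mul (Nat.mod (Nat.div a 6626407607736641103900260617069258125403649041) 11) (Nat.mod (Nat.div a 801795320536133573571931534665380233173841533961) 11))) 11) (Nat.mul 11 (Nat.add (Nat.mod (Nat.add (Nat.add (Nat.add (Nat.add (Nat.add (Nat.add (Nat.mul (Nat.mod (Nat.div a 121) 11) (Nat.mod (Nat.div a 161051) 11)) (Nat.mul (Nat.mod (Nat.div a 2357947691) 11) (Nat.mod (Nat.div a 3138428376721) 11))) (Nat.mul (Nat.mod (Nat.div a 45949729863572161) 11) (Nat.mod (Nat.div a 61159090448414546291) 11))) (Nat.mul (Nat.mod (Nat.div a 895430243255237372246531) 11) (Nat.mod (Nat.div a 1191817653772720942460132761) 11))) (Nat.mul (Nat.mod (Nat.div a 17449402268886407318558803753801) 11) (Nat.mod (Nat.div a 23225154419887808141001767796309131) 11))) (Nat.mul (Nat.mod (Nat.div a 340039485861577398992406882305761986971) 11) (Nat.mod (Nat.div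 a 452592555681759518058893560348969204658401) 11))) (Nat.mul (Nat.mod (Nat.div a 6626407607736641103900260617069258125403649041) 11) (Nat.mod (Nat.div a 8819748525897469309291246881319182564912256873571) 11))) 11) (Nat.mul 11 (Nat.add (Nat.mod (Nat.add (Nat.add (Nat.add (Nat.add (Nat.add (Nat.add (Nat.mul (Nat.mod (Nat.div a 121) 11) (Nat.mod (Nat.div a 1771561) 11)) (Nat.mul (Nat.mod (Nat.div a 2357947691) 11) (Nat.mod (Nat.div a 34522712143931) 11))) (Nat.mul (Nat.mod (Nat.div a 45949729863572161) 11) (Nat.mod (Nat.div a 672749994932560009201) 11))) (Nat.mul (Nat.mod (Nat.div a 895430243255237372246531) 11) (Nat.mod (Nat.div a 13109994191499930367061460371) 11))) (Nat.mul (Nat.mod (Nat.div a 17449402268886407318558803753801) 11) (Nat.mod (Nat.div a 255476698618765889551019445759400441) 11))) (Nat.mul (Nat.mod (Nat.div a 340039485861577398992406882305761986971) 11) (Nat.mod (Nat.div a 4978518112499354698647829163838661251242411) 11))) (Nat.mul (Nat.mod (Nat.div a 6626407607736641103900260617069258125403649041)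 11) (Nat.mod (Nat.div a 97017233784872162402203715694511008214034825609281) 11))) 11) (Nat.mul 11 (Nat.add (Nat.mod (Nat.add (Nat.add (Nat.add (Nat.add (Nat.add (Nat.add (Nat.mul (Nat.mod (Nat.div a 1331) 11) (Nat.mod (Nat.div a 1) 11)) (Nat.mul (Nat.mod (Nat.div a 25937424601) 11) (Nat.mod (Nat.div a 19487171) 11))) (Nat.mul (Nat.mod (Nat.div a 505447028499293771) 11) (Nat.mod (Nat.div a 379749833583241) 11))) (Nat.mul (Nat.mod (Nat.div a 9849732675807611094711841) 11) (Nat.mod (Nat.div a 7400249944258160101211) 11))) (Nat.mul (Nat.mod (Nat.div a 191943424957750480504146841291811) 11) (Nat.mod (Nat.div a 144209936106499234037676064081) 11))) (Nat.mul (Nat.mod (Nat.div a 3740434344477351388916475705363381856681) 11) (Nat.mod (Nat.div a 2810243684806424785061213903353404851) 11))) (Nat.mul (Nat.mod (Nat.div a 72890483685103052142902866787761839379440139451) 11) (Nat.mod (Nat.div a 54763699237492901685126120802225273763666521) 11))) 11) (Nat.mul 11 (Nat.add (Nat.mod (Nat.add (Nat.add (Nat.add (Nat.add (Nat.add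 (Nat.add (Nat.mul (Nat.mod (Nat.div a 1331) 11) (Nat.mod (Nat.div a 11) 11)) (Nat.mul (Nat.mod (Nat.div a 25937424601) 11) (Nat.mod (Nat.div a 214358881) 11))) (Nat.mul (Nat.mod (Nat.div a 505447028499293771) 11) (Nat.mod (Nat.div a 4177248169415651) 11))) (Nat.mul (Nat.mod (Nat.div a 9849732675807611094711841) 11) (Nat.mod (Nat.div a 81402749386839761113321) 11))) (Nat.mul (Nat.mod (Nat.div a 191943424957750480504146841291811) 11) (Nat.mod (Nat.div a 1586309297171491574414436704891) 11))) (Nat.mul (Nat.mod (Nat.div a 3740434344477351388916475705363381856681) 11) (Nat.mod (Nat.div a 30912680532870672635673352936887453361) 11))) (Nat.mul (Nat.mod (Nat.div a 72890483685103052142902866787761839379440139451) 11) (Nat.mod (Nat.div a 602400691612421918536387328824478011400331731) 11))) 11) (Nat.mul 11 (Nat.add (Nat.mod (Nat.add (Nat.add (Nat.add (Nat.add (Nat.add (Nat.add (Nat.mul (Nat.mod (Nat.div a 1331) 11) (Nat.mod (Nat.div a 121) 11)) (Nat.mul (Nat.mod (Nat.div a 25937424601) 11) (Nat.mod (Nat.div a 2357947691)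 11))) (Nat.mul (Nat.mod (Nat.div a 505447028499293771) 11) (Nat.mod (Nat.div a 45949729863572161) 11))) (Nat.mul (Nat.mod (Nat.div a 9849732675807611094711841) 11) (Nat.mod (Nat.div a 895430243255237372246531) 11))) (Nat.mul (Nat.mod (Nat.div a 191943424957750480504146841291811) 11) (Nat.mod (Nat.div a 17449402268886407318558803753801) 11))) (Nat.mul (Nat.mod (Nat.div a 3740434344477351388916475705363381856681) 11) (Nat.mod (Nat.div a 340039485861577398992406882305761986971) 11))) (Nat.mul (Nat.mod (Nat.div a 72890483685103052142902866787761839379440139451) 11) (Nat.mod (Nat.div a 6626407607736641103900260617069258125403649041) 11))) 11) (Nat.mul 11 (Nat.add (Nat.mod (Nat.add (Nat.add (Nat.add (Nat.add (Nat.add (Nat.add (Nat.mul (Nat.mod (Nat.div a 1331) 11) (Nat.mod (Nat.div a 1331) 11)) (Nat.mul (Nat.mod (Nat.div a 25937424601) 11) (Nat.mod (Nat.div a 25937424601) 11))) (Nat.mul (Nat.mod (Nat.div a 505447028499293771) 11) (Nat.mod (Nat.div a 505447028499293771) 11))) (Nat.mul (Nat.mod (Nat.div a 9849732675807611094711841)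 11) (Nat.mod (Nat.div a 9849732675807611094711841) 11))) (Nat.mul (Nat.mod (Nat.div a 191943424957750480504146841291811) 11) (Nat.mod (Nat.div a 191943424957750480504146841291811) 11))) (Nat.mul (Nat.mod (Nat.div a 3740434344477351388916475705363381856681) 11) (Nat.mod (Nat.div a 3740434344477351388916475705363381856681) 11))) (Nat.mul (Nat.mod (Nat.div a 72890483685103052142902866787761839379440139451) 11) (Nat.mod (Nat.div a 72890483685103052142902866787761839379440139451) 11))) 11) (Nat.mul 11 (Nat.add (Nat.mod (Nat.add (Nat.add (Nat.add (Nat.add (Nat.add (Nat.add (Nat.mul (Nat.mod (Nat.div a 1331) 11) (Nat.mod (Nat.div a 14641) 11)) (Nat.mul (Nat.mod (Nat.div a 25937424601) 11) (Nat.mod (Nat.div a 285311670611) 11))) (Nat.mul (Nat.mod (Nat.div a 505447028499293771) 11) (Nat.mod (Nat.div a 5559917313492231481) 11))) (Nat.mul (Nat.mod (Nat.div a 9849732675807611094711841) 11) (Nat.mod (Nat.div a 108347059433883722041830251) 11))) (Nat.mul (Nat.mod (Nat.div a 191943424957750480504146841291811) 11) (Nat.mod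 (Nat.div a 2111377674535255285545615254209921) 11))) (Nat.mul (Nat.mod (Nat.div a 3740434344477351388916475705363381856681) 11) (Nat.mod (Nat.div a 41144777789250865278081232758997200423491) 11))) (Nat.mul (Nat.mod (Nat.div a 72890483685103052142902866787761839379440139451) 11) (Nat.mod (Nat.div a 801795320536133573571931534665380233173841533961) 11))) 11) (Nat.mul 11 (Nat.add (Nat.mod (Nat.add (Nat.add (Nat.add (Nat.add (Nat.add (Nat.add (Nat.mul (Nat.mod (Nat.div a 1331) 11) (Nat.mod (Nat.div a 161051) 11)) (Nat.mul (Nat.mod (Nat.div a 25937424601) 11) (Nat.mod (Nat.div a 3138428376721) 11))) (Nat.mul (Nat.mod (Nat.div a 505447028499293771) 11) (Nat.mod (Nat.div a 61159090448414546291) 11))) (Nat.mul (Nat.mod (Nat.div a 9849732675807611094711841) 11) (Nat.mod (Nat.div a 1191817653772720942460132761) 11))) (Nat.mul (Nat.mod (Nat.div a 191943424957750480504146841291811) 11) (Nat.mod (Nat.div a 23225154419887808141001767796309131) 11))) (Nat.mul (Nat.mod (Nat.div a 3740434344477351388916475705363381856681)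 11) (Nat.mod (Nat.div a 452592555681759518058893560348969204658401) 11))) (Nat.mul (Nat.mod (Nat.div a 72890483685103052142902866787761839379440139451) 11) (Nat.mod (Nat.div a 8819748525897469309291246881319182564912256873571) 11))) 11) (Nat.mul 11 (Nat.add (Nat.mod (Nat.add (Nat.add (Nat.add (Nat.add (Nat.add (Nat.add (Nat.mul (Nat.mod (Nat.div a 1331) 11) (Nat.mod (Nat.div a 1771561) 11)) (Nat.mul (Nat.mod (Nat.div a 25937424601) 11) (Nat.mod (Nat.div a 34522712143931) 11))) (Nat.mul (Nat.mod (Nat.div a 505447028499293771) 11) (Nat.mod (Nat.div a 672749994932560009201) 11))) (Nat.mul (Nat.mod (Nat.div a 9849732675807611094711841) 11) (Nat.mod (Nat.div a 13109994191499930367061460371) 11))) (Nat.mul (Nat.mod (Nat.div a 191943424957750480504146841291811) 11) (Nat.mod (Nat.div a 255476698618765889551019445759400441) 11))) (Nat.mul (Nat.mod (Nat.div a 3740434344477351388916475705363381856681) 11) (Nat.mod (Nat.div a 4978518112499354698647829163838661251242411) 11))) (Nat.mul (Nat.mod (Nat.div a 72890483685103052142902866787761839379440139451)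 11) (Nat.mod (Nat.div a 97017233784872162402203715694511008214034825609281) 11))) 11) (Nat.mul 11 (Nat.add (Nat.mod (Nat.add (Nat.add (Nat.add (Nat.add (Nat.add (Nat.add (Nat.mul (Nat.mod (Nat.div a 14641) 11) (Nat.mod (Nat.div a 1) 11)) (Nat.mul (Nat.mod (Nat.div a 285311670611) 11) (Nat.mod (Nat.div a 19487171) 11))) (Nat.mul (Nat.mod (Nat.div a 5559917313492231481) 11) (Nat.mod (Nat.div a 379749833583241) 11))) (Nat.mul (Nat.mod (Nat.div a 108347059433883722041830251) 11) (Nat.mod (Nat.div a 7400249944258160101211) 11))) (Nat.mul (Nat.mod (Nat.div a 2111377674535255285545615254209921) 11) (Nat.mod (Nat.div a 144209936106499234037676064081) 11))) (Nat.mul (Nat.mod (Nat.div a 41144777789250865278081232758997200423491) 11) (Nat.mod (Nat.div a 2810243684806424785061213903353404851) 11))) (Nat.mul (Nat.mod (Nat.div a 801795320536133573571931534665380233173841533961) 11) (Nat.mod (Nat.div a 54763699237492901685126120802225273763666521) 11))) 11) (Nat.mul 11 (Nat.add (Nat.mod (Nat.add (Nat.add (Nat.add (Nat.add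 (Nat.add (Nat.add (Nat.mul (Nat.mod (Nat.div a 14641) 11) (Nat.mod (Nat.div a 11) 11)) (Nat.mul (Nat.mod (Nat.div a 285311670611) 11) (Nat.mod (Nat.div a 214358881) 11))) (Nat.mul (Nat.mod (Nat.div a 5559917313492231481) 11) (Nat.mod (Nat.div a 4177248169415651) 11))) (Nat.mul (Nat.mod (Nat.div a 108347059433883722041830251) 11) (Nat.mod (Nat.div a 81402749386839761113321) 11))) (Nat.mul (Nat.mod (Nat.div a 2111377674535255285545615254209921) 11) (Nat.mod (Nat.div a 1586309297171491574414436704891) 11))) (Nat.mul (Nat.mod (Nat.div a 41144777789250865278081232758997200423491) 11) (Nat.mod (Nat.div a 30912680532870672635673352936887453361) 11))) (Nat.mul (Nat.mod (Nat.div a 801795320536133573571931534665380233173841533961) 11) (Nat.mod (Nat.div a 602400691612421918536387328824478011400331731) 11))) 11) (Nat.mul 11 (Nat.add (Nat.mod (Nat.add (Nat.add (Nat.add (Nat.add (Nat.add (Nat.add (Nat.mul (Nat.mod (Nat.div a 14641) 11) (Nat.mod (Nat.div a 121) 11)) (Nat.mul (Nat.mod (Nat.div a 285311670611) 11) (Nat.mod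 (Nat.div a 2357947691) 11))) (Nat.mul (Nat.mod (Nat.div a 5559917313492231481) 11) (Nat.mod (Nat.div a 45949729863572161) 11))) (Nat.mul (Nat.mod (Nat.div a 108347059433883722041830251) 11) (Nat.mod (Nat.div a 895430243255237372246531) 11))) (Nat.mul (Nat.mod (Nat.div a 2111377674535255285545615254209921) 11) (Nat.mod (Nat.div a 17449402268886407318558803753801) 11))) (Nat.mul (Nat.mod (Nat.div a 41144777789250865278081232758997200423491) 11) (Nat.mod (Nat.div a 340039485861577398992406882305761986971) 11))) (Nat.mul (Nat.mod (Nat.div a 801795320536133573571931534665380233173841533961) 11) (Nat.mod (Nat.div a 6626407607736641103900260617069258125403649041) 11))) 11) (Nat.mul 11 (Nat.add (Nat.mod (Nat.add (Nat.add (Nat.add (Nat.add (Nat.add (Nat.add (Nat.mul (Nat.mod (Nat.div a 14641) 11) (Nat.mod (Nat.div a 1331) 11)) (Nat.mul (Nat.mod (Nat.div a 285311670611) 11) (Nat.mod (Nat.div a 25937424601) 11))) (Nat.mul (Nat.mod (Nat.div a 5559917313492231481) 11) (Nat.mod (Nat.div a 505447028499293771) 11))) (Nat.mul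 (Nat.mod (Nat.div a 108347059433883722041830251) 11) (Nat.mod (Nat.div a 9849732675807611094711841) 11))) (Nat.mul (Nat.mod (Nat.div a 2111377674535255285545615254209921) 11) (Nat.mod (Nat.div a 191943424957750480504146841291811) 11))) (Nat.mul (Nat.mod (Nat.div a 41144777789250865278081232758997200423491) 11) (Nat.mod (Nat.div a 3740434344477351388916475705363381856681) 11))) (Nat.mul (Nat.mod (Nat.div a 801795320536133573571931534665380233173841533961) 11) (Nat.mod (Nat.div a 72890483685103052142902866787761839379440139451) 11))) 11) (Nat.mul 11 (Nat.add (Nat.mod (Nat.add (Nat.add (Nat.add (Nat.add (Nat.add (Nat.add (Nat.mul (Nat.mod (Nat.div a 14641) 11) (Nat.mod (Nat.div a 14641) 11)) (Nat.mul (Nat.mod (Nat.div a 285311670611) 11) (Nat.mod (Nat.div a 285311670611) 11))) (Nat.mul (Nat.mod (Nat.div a 5559917313492231481) 11) (Nat.mod (Nat.div a 5559917313492231481) 11))) (Nat.mul (Nat.mod (Nat.div a 108347059433883722041830251) 11) (Nat.mod (Nat.div a 108347059433883722041830251) 11))) (Nat.mul (Nat.mod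 (Nat.div a 2111377674535255285545615254209921) 11) (Nat.mod (Nat.div a 2111377674535255285545615254209921) 11))) (Nat.mul (Nat.mod (Nat.div a 41144777789250865278081232758997200423491) 11) (Nat.mod (Nat.div a 41144777789250865278081232758997200423491) 11))) (Nat.mul (Nat.mod (Nat.div a 801795320536133573571931534665380233173841533961) 11) (Nat.mod (Nat.div a 801795320536133573571931534665380233173841533961) 11))) 11) (Nat.mul 11 (Nat.add (Nat.mod (Nat.add (Nat.add (Nat.add (Nat.add (Nat.add (Nat.add (Nat.mul (Nat.mod (Nat.div a 14641) 11) (Nat.mod (Nat.div a 161051) 11)) (Nat.mul (Nat.mod (Nat.div a 285311670611) 11) (Nat.mod (Nat.div a 3138428376721) 11))) (Nat.mul (Nat.mod (Nat.div a 5559917313492231481) 11) (Nat.mod (Nat.div a 61159090448414546291) 11))) (Nat.mul (Nat.mod (Nat.div a 108347059433883722041830251) 11) (Nat.mod (Nat.div a 1191817653772720942460132761) 11))) (Nat.mul (Nat.mod (Nat.div a 2111377674535255285545615254209921) 11) (Nat.mod (Nat.div a 23225154419887808141001767796309131) 11))) (Nat.mul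 (Nat.mod (Nat.div a 41144777789250865278081232758997200423491) 11) (Nat.mod (Nat.div a 452592555681759518058893560348969204658401) 11))) (Nat.mul (Nat.mod (Nat.div a 801795320536133573571931534665380233173841533961) 11) (Nat.mod (Nat.div a 8819748525897469309291246881319182564912256873571) 11))) 11) (Nat.mul 11 (Nat.add (Nat.mod (Nat.add (Nat.add (Nat.add (Nat.add (Nat.add (Nat.add (Nat.mul (Nat.mod (Nat.div a 14641) 11) (Nat.mod (Nat.div a 1771561) 11)) (Nat.mul (Nat.mod (Nat.div a 285311670611) 11) (Nat.mod (Nat.div a 34522712143931) 11))) (Nat.mul (Nat.mod (Nat.div a 5559917313492231481) 11) (Nat.mod (Nat.div a 672749994932560009201) 11))) (Nat.mul (Nat.mod (Nat.div a 108347059433883722041830251) 11) (Nat.mod (Nat.div a 13109994191499930367061460371) 11))) (Nat.mul (Nat.mod (Nat.div a 2111377674535255285545615254209921) 11) (Nat.mod (Nat.div a 255476698618765889551019445759400441) 11))) (Nat.mul (Nat.mod (Nat.div a 41144777789250865278081232758997200423491) 11) (Nat.mod (Nat.div a 4978518112499354698647829163838661251242411)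 11))) (Nat.mul (Nat.mod (Nat.div a 801795320536133573571931534665380233173841533961) 11) (Nat.mod (Nat.div a 97017233784872162402203715694511008214034825609281) 11))) 11) (Nat.mul 11 (Nat.add (Nat.mod (Nat.add (Nat.add (Nat.add (Nat.add (Nat.add (Nat.add (Nat.mul (Nat.mod (Nat.div a 161051) 11) (Nat.mod (Nat.div a 1) 11)) (Nat.mul (Nat.mod (Nat.div a 3138428376721) 11) (Nat.mod (Nat.div a 19487171) 11))) (Nat.mul (Nat.mod (Nat.div a 61159090448414546291) 11) (Nat.mod (Nat.div a 379749833583241) 11))) (Nat.mul (Nat.mod (Nat.div a 1191817653772720942460132761) 11) (Nat.mod (Nat.div a 7400249944258160101211) 11))) (Nat.mul (Nat.mod (Nat.div a 23225154419887808141001767796309131) 11) (Nat.mod (Nat.div a 144209936106499234037676064081) 11))) (Nat.mul (Nat.mod (Nat.div a 452592555681759518058893560348969204658401) 11) (Nat.mod (Nat.div a 2810243684806424785061213903353404851) 11))) (Nat.mul (Nat.mod (Nat.div a 8819748525897469309291246881319182564912256873571) 11) (Nat.mod (Nat.div a 54763699237492901685126120802225273763666521)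 11))) 11) (Nat.mul 11 (Nat.add (Nat.mod (Nat.add (Nat.add (Nat.add (Nat.add (Nat.add (Nat.add (Nat.mul (Nat.mod (Nat.div a 161051) 11) (Nat.mod (Nat.div a 11) 11)) (Nat.mul (Nat.mod (Nat.div a 3138428376721) 11) (Nat.mod (Nat.div a 214358881) 11))) (Nat.mul (Nat.mod (Nat.div a 61159090448414546291) 11) (Nat.mod (Nat.div a 4177248169415651) 11))) (Nat.mul (Nat.mod (Nat.div a 1191817653772720942460132761) 11) (Nat.mod (Nat.div a 81402749386839761113321) 11))) (Nat.mul (Nat.mod (Nat.div a 23225154419887808141001767796309131) 11) (Nat.mod (Nat.div a 1586309297171491574414436704891) 11))) (Nat.mul (Nat.mod (Nat.div a 452592555681759518058893560348969204658401) 11) (Nat.mod (Nat.div a 30912680532870672635673352936887453361) 11))) (Nat.mul (Nat.mod (Nat.div a 8819748525897469309291246881319182564912256873571) 11) (Nat.mod (Nat.div a 602400691612421918536387328824478011400331731) 11))) 11) (Nat.mul 11 (Nat.add (Nat.mod (Nat.add (Nat.add (Nat.add (Nat.add (Nat.add (Nat.add (Nat.mul (Nat.mod (Nat.div a 161051) 11)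 (Nat.mod (Nat.div a 121) 11)) (Nat.mul (Nat.mod (Nat.div a 3138428376721) 11) (Nat.mod (Nat.div a 2357947691) 11))) (Nat.mul (Nat.mod (Nat.div a 61159090448414546291) 11) (Nat.mod (Nat.div a 45949729863572161) 11))) (Nat.mul (Nat.mod (Nat.div a 1191817653772720942460132761) 11) (Nat.mod (Nat.div a 895430243255237372246531) 11))) (Nat.mul (Nat.mod (Nat.div a 23225154419887808141001767796309131) 11) (Nat.mod (Nat.div a 17449402268886407318558803753801) 11))) (Nat.mul (Nat.mod (Nat.div a 452592555681759518058893560348969204658401) 11) (Nat.mod (Nat.div a 340039485861577398992406882305761986971) 11))) (Nat.mul (Nat.mod (Nat.div a 8819748525897469309291246881319182564912256873571) 11) (Nat.mod (Nat.div a 6626407607736641103900260617069258125403649041) 11))) 11) (Nat.mul 11 (Nat.add (Nat.mod (Nat.add (Nat.add (Nat.add (Nat.add (Nat.add (Nat.add (Nat.mul (Nat.mod (Nat.div a 161051) 11) (Nat.mod (Nat.div a 1331) 11)) (Nat.mul (Nat.mod (Nat.div a 3138428376721) 11) (Nat.mod (Nat.div a 25937424601) 11))) (Nat.mul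 (Nat.mod (Nat.div a 61159090448414546291) 11) (Nat.mod (Nat.div a 505447028499293771) 11))) (Nat.mul (Nat.mod (Nat.div a 1191817653772720942460132761) 11) (Nat.mod (Nat.div a 9849732675807611094711841) 11))) (Nat.mul (Nat.mod (Nat.div a 23225154419887808141001767796309131) 11) (Nat.mod (Nat.div a 191943424957750480504146841291811) 11))) (Nat.mul (Nat.mod (Nat.div a 452592555681759518058893560348969204658401) 11) (Nat.mod (Nat.div a 3740434344477351388916475705363381856681) 11))) (Nat.mul (Nat.mod (Nat.div a 8819748525897469309291246881319182564912256873571) 11) (Nat.mod (Nat.div a 72890483685103052142902866787761839379440139451) 11))) 11) (Nat.mul 11 (Nat.add (Nat.mod (Nat.add (Nat.add (Nat.add (Nat.add (Nat.add (Nat.add (Nat.mul (Nat.mod (Nat.div a 161051) 11) (Nat.mod (Nat.div a 14641) 11)) (Nat.mul (Nat.mod (Nat.div a 3138428376721) 11) (Nat.mod (Nat.div a 285311670611) 11))) (Nat.mul (Nat.mod (Nat.div a 61159090448414546291) 11) (Nat.mod (Nat.div a 5559917313492231481) 11))) (Nat.mul (Nat.mod (Nat.div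 a 1191817653772720942460132761) 11) (Nat.mod (Nat.div a 108347059433883722041830251) 11))) (Nat.mul (Nat.mod (Nat.div a 23225154419887808141001767796309131) 11) (Nat.mod (Nat.div a 2111377674535255285545615254209921) 11))) (Nat.mul (Nat.mod (Nat.div a 452592555681759518058893560348969204658401) 11) (Nat.mod (Nat.div a 41144777789250865278081232758997200423491) 11))) (Nat.mul (Nat.mod (Nat.div a 8819748525897469309291246881319182564912256873571) 11) (Nat.mod (Nat.div a 801795320536133573571931534665380233173841533961) 11))) 11) (Nat.mul 11 (Nat.add (Nat.mod (Nat.add (Nat.add (Nat.add (Nat.add (Nat.add (Nat.add (Nat.mul (Nat.mod (Nat.div a 161051) 11) (Nat.mod (Nat.div a 161051) 11)) (Nat.mul (Nat.mod (Nat.div a 3138428376721) 11) (Nat.mod (Nat.div a 3138428376721) 11))) (Nat.mul (Nat.mod (Nat.div a 61159090448414546291) 11) (Nat.mod (Nat.div a 61159090448414546291) 11))) (Nat.mul (Nat.mod (Nat.div a 1191817653772720942460132761) 11) (Nat.mod (Nat.div a 1191817653772720942460132761) 11))) (Nat.mul (Nat.mod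 (Nat.div a 23225154419887808141001767796309131) 11) (Nat.mod (Nat.div a 23225154419887808141001767796309131) 11))) (Nat.mul (Nat.mod (Nat.div a 452592555681759518058893560348969204658401) 11) (Nat.mod (Nat.div a 452592555681759518058893560348969204658401) 11))) (Nat.mul (Nat.mod (Nat.div a 8819748525897469309291246881319182564912256873571) 11) (Nat.mod (Nat.div a 8819748525897469309291246881319182564912256873571) 11))) 11) (Nat.mul 11 (Nat.add (Nat.mod (Nat.add (Nat.add (Nat.add (Nat.add (Nat.add (Nat.add (Nat.mul (Nat.mod (Nat.div a 161051) 11) (Nat.mod (Nat.div a 1771561) 11)) (Nat.mul (Nat.mod (Nat.div a 3138428376721) 11) (Nat.mod (Nat.div a 34522712143931) 11))) (Nat.mul (Nat.mod (Nat.div a 61159090448414546291) 11) (Nat.mod (Nat.div a 672749994932560009201) 11))) (Nat.mul (Nat.mod (Nat.div a 1191817653772720942460132761) 11) (Nat.mod (Nat.div a 13109994191499930367061460371) 11))) (Nat.mul (Nat.mod (Nat.div a 23225154419887808141001767796309131) 11) (Nat.mod (Nat.div a 255476698618765889551019445759400441)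 11))) (Nat.mul (Nat.mod (Nat.div a 452592555681759518058893560348969204658401) 11) (Nat.mod (Nat.div a 4978518112499354698647829163838661251242411) 11))) (Nat.mul (Nat.mod (Nat.div a 8819748525897469309291246881319182564912256873571) 11) (Nat.mod (Nat.div a 97017233784872162402203715694511008214034825609281) 11))) 11) (Nat.mul 11 (Nat.add (Nat.mod (Nat.add (Nat.add (Nat.add (Nat.add (Nat.add (Nat.add (Nat.mul (Nat.mod (Nat.div a 1771561) 11) (Nat.mod (Nat.div a 1) 11)) (Nat.mul (Nat.mod (Nat.div a 34522712143931) 11) (Nat.mod (Nat.div a 19487171) 11))) (Nat.mul (Nat.mod (Nat.div a 672749994932560009201) 11) (Nat.mod (Nat.div a 379749833583241) 11))) (Nat.mul (Nat.mod (Nat.div a 13109994191499930367061460371) 11) (Nat.mod (Nat.div a 7400249944258160101211) 11))) (Nat.mul (Nat.mod (Nat.div a 255476698618765889551019445759400441) 11) (Nat.mod (Nat.div a 144209936106499234037676064081) 11))) (Nat.mul (Nat.mod (Nat.div a 4978518112499354698647829163838661251242411) 11) (Nat.mod (Nat.div a 2810243684806424785061213903353404851)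 11))) (Nat.mul (Nat.mod (Nat.div a 97017233784872162402203715694511008214034825609281) 11) (Nat.mod (Nat.div a 54763699237492901685126120802225273763666521) 11))) 11) (Nat.mul 11 (Nat.add (Nat.mod (Nat.add (Nat.add (Nat.add (Nat.add (Nat.add (Nat.add (Nat.mul (Nat.mod (Nat.div a 1771561) 11) (Nat.mod (Nat.div a 11) 11)) (Nat.mul (Nat.mod (Nat.div a 34522712143931) 11) (Nat.mod (Nat.div a 214358881) 11))) (Nat.mul (Nat.mod (Nat.div a 672749994932560009201) 11) (Nat.mod (Nat.div a 4177248169415651) 11))) (Nat.mul (Nat.mod (Nat.div a 13109994191499930367061460371) 11) (Nat.mod (Nat.div a 81402749386839761113321) 11))) (Nat.mul (Nat.mod (Nat.div a 255476698618765889551019445759400441) 11) (Nat.mod (Nat.div a 1586309297171491574414436704891) 11))) (Nat.mul (Nat.mod (Nat.div a 4978518112499354698647829163838661251242411) 11) (Nat.mod (Nat.div a 30912680532870672635673352936887453361) 11))) (Nat.mul (Nat.mod (Nat.div a 97017233784872162402203715694511008214034825609281) 11) (Nat.mod (Nat.div a 602400691612421918536387328824478011400331731)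 11))) 11) (Nat.mul 11 (Nat.add (Nat.mod (Nat.add (Nat.add (Nat.add (Nat.add (Nat.add (Nat.add (Nat.mul (Nat.mod (Nat.div a 1771561) 11) (Nat.mod (Nat.div a 121) 11)) (Nat.mul (Nat.mod (Nat.div a 34522712143931) 11) (Nat.mod (Nat.div a 2357947691) 11))) (Nat.mul (Nat.mod (Nat.div a 672749994932560009201) 11) (Nat.mod (Nat.div a 45949729863572161) 11))) (Nat.mul (Nat.mod (Nat.div a 13109994191499930367061460371) 11) (Nat.mod (Nat.div a 895430243255237372246531) 11))) (Nat.mul (Nat.mod (Nat.div a 255476698618765889551019445759400441) 11) (Nat.mod (Nat.div a 17449402268886407318558803753801) 11))) (Nat.mul (Nat.mod (Nat.div a 4978518112499354698647829163838661251242411) 11) (Nat.mod (Nat.div a 340039485861577398992406882305761986971) 11))) (Nat.mul (Nat.mod (Nat.div a 97017233784872162402203715694511008214034825609281) 11) (Nat.mod (Nat.div a 6626407607736641103900260617069258125403649041) 11))) 11) (Nat.mul 11 (Nat.add (Nat.mod (Nat.add (Nat.add (Nat.add (Nat.add (Nat.add (Nat.add (Nat.mul (Nat.mod (Nat.div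 a 1771561) 11) (Nat.mod (Nat.div a 1331) 11)) (Nat.mul (Nat.mod (Nat.div a 34522712143931) 11) (Nat.mod (Nat.div a 25937424601) 11))) (Nat.mul (Nat.mod (Nat.div a 672749994932560009201) 11) (Nat.mod (Nat.div a 505447028499293771) 11))) (Nat.mul (Nat.mod (Nat.div a 13109994191499930367061460371) 11) (Nat.mod (Nat.div a 9849732675807611094711841) 11))) (Nat.mul (Nat.mod (Nat.div a 255476698618765889551019445759400441) 11) (Nat.mod (Nat.div a 191943424957750480504146841291811) 11))) (Nat.mul (Nat.mod (Nat.div a 4978518112499354698647829163838661251242411) 11) (Nat.mod (Nat.div a 3740434344477351388916475705363381856681) 11))) (Nat.mul (Nat.mod (Nat.div a 97017233784872162402203715694511008214034825609281) 11) (Nat.mod (Nat.div a 72890483685103052142902866787761839379440139451) 11))) 11) (Nat.mul 11 (Nat.add (Nat.mod (Nat.add (Nat.add (Nat.add (Nat.add (Nat.add (Nat.add (Nat.mul (Nat.mod (Nat.div a 1771561) 11) (Nat.mod (Nat.div a 14641) 11)) (Nat.mul (Nat.mod (Nat.div a 34522712143931) 11) (Nat.mod (Nat.div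 a 285311670611) 11))) (Nat.mul (Nat.mod (Nat.div a 672749994932560009201) 11) (Nat.mod (Nat.div a 5559917313492231481) 11))) (Nat.mul (Nat.mod (Nat.div a 13109994191499930367061460371) 11) (Nat.mod (Nat.div a 108347059433883722041830251) 11))) (Nat.mul (Nat.mod (Nat.div a 255476698618765889551019445759400441) 11) (Nat.mod (Nat.div a 2111377674535255285545615254209921) 11))) (Nat.mul (Nat.mod (Nat.div a 4978518112499354698647829163838661251242411) 11) (Nat.mod (Nat.div a 41144777789250865278081232758997200423491) 11))) (Nat.mul (Nat.mod (Nat.div a 97017233784872162402203715694511008214034825609281) 11) (Nat.mod (Nat.div a 801795320536133573571931534665380233173841533961) 11))) 11) (Nat.mul 11 (Nat.add (Nat.mod (Nat.add (Nat.add (Nat.add (Nat.add (Nat.add (Nat.add (Nat.mul (Nat.mod (Nat.div a 1771561) 11) (Nat.mod (Nat.div a 161051) 11)) (Nat.mul (Nat.mod (Nat.div a 34522712143931) 11) (Nat.mod (Nat.div a 3138428376721) 11))) (Nat.mul (Nat.mod (Nat.div a 672749994932560009201) 11) (Nat.mod (Nat.div a 61159090448414546291)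 11))) (Nat.mul (Nat.mod (Nat.div a 13109994191499930367061460371) 11) (Nat.mod (Nat.div a 1191817653772720942460132761) 11))) (Nat.mul (Nat.mod (Nat.div a 255476698618765889551019445759400441) 11) (Nat.mod (Nat.div a 23225154419887808141001767796309131) 11))) (Nat.mul (Nat.mod (Nat.div a 4978518112499354698647829163838661251242411) 11) (Nat.mod (Nat.div a 452592555681759518058893560348969204658401) 11))) (Nat.mul (Nat.mod (Nat.div a 97017233784872162402203715694511008214034825609281) 11) (Nat.mod (Nat.div a 8819748525897469309291246881319182564912256873571) 11))) 11) (Nat.mul 11 (Nat.add (Nat.mod (Nat.add (Nat.add (Nat.add (Nat.add (Nat.add (Nat.add (Nat.mul (Nat.mod (Nat.div a 1771561) 11) (Nat.mod (Nat.div a 1771561) 11)) (Nat.mul (Nat.mod (Nat.div a 34522712143931) 11) (Nat.mod (Nat.div a 34522712143931) 11))) (Nat.mul (Nat.mod (Nat.div a 672749994932560009201) 11) (Nat.mod (Nat.div a 672749994932560009201) 11))) (Nat.mul (Nat.mod (Nat.div a 13109994191499930367061460371) 11) (Nat.mod (Nat.div a 13109994191499930367061460371)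 11))) (Nat.mul (Nat.mod (Nat.div a 255476698618765889551019445759400441) 11) (Nat.mod (Nat.div a 255476698618765889551019445759400441) 11))) (Nat.mul (Nat.mod (Nat.div a 4978518112499354698647829163838661251242411) 11) (Nat.mod (Nat.div a 4978518112499354698647829163838661251242411) 11))) (Nat.mul (Nat.mod (Nat.div a 97017233784872162402203715694511008214034825609281) 11) (Nat.mod (Nat.div a 97017233784872162402203715694511008214034825609281) 11))) 11) (Nat.mul 11 0))))))))))))))))))))))))))))))))))))))))))))))))))))))))))))))))))))))))))))))))))))))))))))))))))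

/-- the vectors coded by `v`, `w` are proportional (all 2 x 2 minors vanish) -/
def propT (v w : ℕ) : Bool :=
  (and (Nat.beq (Nat.mod (Nat.mul (Nat.mod (Nat.div v 1) 11) (Nat.mod (Nat.div w 11) 11)) 11) (Nat.mod (Nat.mul (Nat.mod (Nat.div v 11) 11) (Nat.mod (Nat.div w 1) 11)) 11)) (and (Nat.beq (Nat.mod (Nat.mul (Nat.mod (Nat.div v 1) 11) (Nat.mod (Nat.div w 121) 11)) 11) (Nat.mod (Nat.mul (Nat.mod (Nat.div v 121) 11) (Nat.mod (Nat.div w 1) 11)) 11)) (and (Nat.beq (Nat.mod (Nat.mul (Nat.mod (Nat.div v 1) 11) (Nat.mod (Nat.div w 1331) 11)) 11) (Nat.mod (Nat.mul (Nat.mod (Nat.div v 1331) 11) (Nat.mod (Nat.div w 1) 11)) 11)) (and (Nat.beq (Nat.mod (Nat.mul (Nat.mod (Nat.div v 1) 11) (Nat.mod (Nat.div w 14641) 11)) 11) (Nat.mod (Nat.mul (Nat.mod (Nat.div v 14641) 11) (Nat.mod (Nat.div w 1) 11)) 11)) (and (Nat.beq (Nat.mod (Nat.mul (Nat.mod (Nat.div v 1) 11) (Nat.mod (Nat.div w 161051) 11)) 11) (Nat.mod (Nat.mul (Nat.mod (Nat.div v 161051) 11) (Nat.mod (Nat.div w 1) 11)) 11)) (and (Nat.beq (Nat.mod (Nat.mul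 (Nat.mod (Nat.div v 1) 11) (Nat.mod (Nat.div w 1771561) 11)) 11) (Nat.mod (Nat.mul (Nat.mod (Nat.div v 1771561) 11) (Nat.mod (Nat.div w 1) 11)) 11)) (and (Nat.beq (Nat.mod (Nat.mul (Nat.mod (Nat.div v 11) 11) (Nat.mod (Nat.div w 121) 11)) 11) (Nat.mod (Nat.mul (Nat.mod (Nat.div v 121) 11) (Nat.mod (Nat.div w 11) 11)) 11)) (and (Nat.beq (Nat.mod (Nat.mul (Nat.mod (Nat.div v 11) 11) (Nat.mod (Nat.div w 1331) 11)) 11) (Nat.mod (Nat.mul (Nat.mod (Nat.div v 1331) 11) (Nat.mod (Nat.div w 11) 11)) 11)) (and (Nat.beq (Nat.mod (Nat.mul (Nat.mod (Nat.div v 11) 11) (Nat.mod (Nat.div w 14641) 11)) 11) (Nat.mod (Nat.mul (Nat.mod (Nat.div v 14641) 11) (Nat.mod (Nat.div w 11) 11)) 11)) (and (Nat.beq (Nat.mod (Nat.mul (Nat.mod (Nat.div v 11) 11) (Nat.mod (Nat.div w 161051) 11)) 11) (Nat.mod (Nat.mul (Nat.mod (Nat.div v 161051) 11) (Nat.mod (Nat.div w 11) 11)) 11)) (and (Nat.beq (Nat.mod (Nat.mul (Nat.mod (Nat.div v 11) 11) (Nat.mod (Nat.div w 1771561) 11)) 11) (Nat.mod (Nat.mul (Nat.mod (Nat.div v 1771561) 11) (Nat.mod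 (Nat.div w 11) 11)) 11)) (and (Nat.beq (Nat.mod (Nat.mul (Nat.mod (Nat.div v 121) 11) (Nat.mod (Nat.div w 1331) 11)) 11) (Nat.mod (Nat.mul (Nat.mod (Nat.div v 1331) 11) (Nat.mod (Nat.div w 121) 11)) 11)) (and (Nat.beq (Nat.mod (Nat.mul (Nat.mod (Nat.div v 121) 11) (Nat.mod (Nat.div w 14641) 11)) 11) (Nat.mod (Nat.mul (Nat.mod (Nat.div v 14641) 11) (Nat.mod (Nat.div w 121) 11)) 11)) (and (Nat.beq (Nat.mod (Nat.mul (Nat.mod (Nat.div v 121) 11) (Nat.mod (Nat.div w 161051) 11)) 11) (Nat.mod (Nat.mul (Nat.mod (Nat.div v 161051) 11) (Nat.mod (Nat.div w 121) 11)) 11)) (and (Nat.beq (Nat.mod (Nat.mul (Nat.mod (Nat.div v 121) 11) (Nat.mod (Nat.div w 1771561) 11)) 11) (Nat.mod (Nat.mul (Nat.mod (Nat.div v 1771561) 11) (Nat.mod (Nat.div w 121) 11)) 11)) (and (Nat.beq (Nat.mod (Nat.mul (Nat.mod (Nat.div v 1331) 11) (Nat.mod (Nat.div w 14641) 11)) 11) (Nat.mod (Nat.mul (Nat.mod (Nat.div v 14641) 11) (Nat.mod (Nat.div w 1331) 11)) 11)) (and (Nat.beq (Nat.mod (Nat.mul (Nat.mod (Nat.div v 1331) 11) (Nat.mod (Nat.div w 161051)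 11)) 11) (Nat.mod (Nat.mul (Nat.mod (Nat.div v 161051) 11) (Nat.mod (Nat.div w 1331) 11)) 11)) (and (Nat.beq (Nat.mod (Nat.mul (Nat.mod (Nat.div v 1331) 11) (Nat.mod (Nat.div w 1771561) 11)) 11) (Nat.mod (Nat.mul (Nat.mod (Nat.div v 1771561) 11) (Nat.mod (Nat.div w 1331) 11)) 11)) (and (Nat.beq (Nat.mod (Nat.mul (Nat.mod (Nat.div v 14641) 11) (Nat.mod (Nat.div w 161051) 11)) 11) (Nat.mod (Nat.mul (Nat.mod (Nat.div v 161051) 11) (Nat.mod (Nat.div w 14641) 11)) 11)) (and (Nat.beq (Nat.mod (Nat.mul (Nat.mod (Nat.div v 14641) 11) (Nat.mod (Nat.div w 1771561) 11)) 11) (Nat.mod (Nat.mul (Nat.mod (Nat.div v 1771561) 11) (Nat.mod (Nat.div w 14641) 11)) 11)) (Nat.beq (Nat.mod (Nat.mul (Nat.mod (Nat.div v 161051) 11) (Nat.mod (Nat.div w 1771561) 11)) 11) (Nat.mod (Nat.mul (Nat.mod (Nat.div v 1771561) 11) (Nat.mod (Nat.div w 161051) 11)) 11))))))))))))))))))))))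


/-! ### soundness -/

lemma dgt_lt (c k : ℕ) : dgt c k < 11 := Nat.mod_lt _ (by norm_num)

lemma dgt_enc (L : List ℕ) (hL : ∀ x ∈ L, x < 11) (k : ℕ) : dgt (enc L) k = L.getD k 0 := by
  induction L generalizing k with
  | nil =>
    show 0 / 11 ^ k % 11 = _
    simp
  | cons x l ih =>
    have hx : x < 11 := hL x (by simp)
    have hl : ∀ y ∈ l, y < 11 := fun y hy => hL y (by simp [hy])
    cases k with
    | zero =>
      simp only [dgt, enc, List.getD_cons_zero]
      show (x + 11 * enc l) / 11 ^ 0 % 11 = x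
      rw [pow_zero, Nat.div_one, Nat.add_mul_mod_self_left, Nat.mod_eq_of_lt hx]
    | succ k =>
      have h1 : dgt (enc (x :: l)) (k + 1) = dgt (enc l) k := by
        show (x + 11 * enc l) / 11 ^ (k + 1) % 11 = enc l / 11 ^ k % 11
        rw [pow_succ', ← Nat.div_div_eq_div_mul]
        congr 2
        rw [Nat.add_mul_div_left _ _ (by norm_num), Nat.div_eq_of_lt hx, zero_add]
      rw [h1, ih hl k]
      simp

lemma ent_lt (a b i j : ℕ) : ent a b i j < 11 := Nat.mod_lt _ (by norm_num)

lemma ment_lt (a b i : ℕ) : ment a b i < 11 := Nat.mod_lt _ (by norm_num)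

lemma mentT_lt (a b i : ℕ) : mentT a b i < 11 := Nat.mod_lt _ (by norm_num)

lemma entL_lt (a b : ℕ) : ∀ x ∈ entL a b, x < 11 := by
  intro x hx
  simp only [entL, List.mem_cons, List.not_mem_nil, or_false] at hx
  rcases hx with h | h | h | h | h | h | h | h | h | h | h | h | h | h | h | h | h | h | h | h |
    h | h | h | h | h | h | h | h | h | h | h | h | h | h | h | h | h | h | h | h |
    h | h | h | h | h | h | h | h | h <;> exact h ▸ ent_lt _ _ _ _

lemma dgt_mulD (a b : ℕ) (i j : Fin 7) :
    dgt (mulD a b) (7 * i.val + j.val) = ent a b i.val j.val := by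
  rw [mulD_eq, dgt_enc _ (entL_lt a b)]
  fin_cases i <;> fin_cases j <;> rfl

lemma cast_ent (a b : ℕ) (i j : Fin 7) :
    ((ent a b i.val j.val : ℕ) : ZMod 11) = (toM a * toM b) i j := by
  rw [Matrix.mul_apply, Fin.sum_univ_seven]
  have h : ∀ n : ℕ, ((Nat.mod n 11 : ℕ) : ZMod 11) = (n : ZMod 11) := fun n => ZMod.natCast_mod n 11
  unfold ent
  rw [h]
  simp only [toM, Nat.add_eq, Nat.mul_eq, Nat.cast_add, Nat.cast_mul]
  rfl

theorem toM_mulD (a b : ℕ) : toM (mulD a b) = toM a * toM b := by
  ext i j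
  rw [← cast_ent]
  show ((dgt (mulD a b) (7 * i.val + j.val) : ℕ) : ZMod 11) = _
  rw [dgt_mulD]

lemma toV_enc7 (x0 x1 x2 x3 x4 x5 x6 : ℕ) (h0 : x0 < 11) (h1 : x1 < 11) (h2 : x2 < 11) (h3 : x3 < 11)
    (h4 : x4 < 11) (h5 : x5 < 11) (h6 : x6 < 11) (i : Fin 7) :
    dgt (enc [x0, x1, x2, x3, x4, x5, x6]) i.val = [x0, x1, x2, x3, x4, x5, x6].getD i.val 0 := by
  apply dgt_enc
  intro x hx
  simp only [List.mem_cons, List.not_mem_nil, or_false] at hx
  rcases hx with h | h | h | h | h | h | h <;> omega

theorem toV_mvD (a f : ℕ) : toV (mvD a f) = Matrix.mulVec (toM a) (toV f) := by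
  ext i
  have h : ∀ n : ℕ, ((Nat.mod n 11 : ℕ) : ZMod 11) = (n : ZMod 11) := fun n => ZMod.natCast_mod n 11
  have h1 : dgt (mvD a f) i.val = ment a f i.val := by
    rw [mvD_eq, toV_enc7 _ _ _ _ _ _ _ (ment_lt _ _ _) (ment_lt _ _ _) (ment_lt _ _ _) (ment_lt _ _ _)
      (ment_lt _ _ _) (ment_lt _ _ _) (ment_lt _ _ _)]
    fin_cases i <;> rfl
  show ((dgt (mvD a f) i.val : ℕ) : ZMod 11) = _
  rw [h1, Matrix.mulVec, dotProduct, Fin.sum_univ_seven]
  unfold ment
  rw [h]
  simp only [toM, toV, Nat.add_eq, Nat.mul_eq, Nat.cast_add, Nat.cast_mul]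
  rfl

theorem toV_mvTD (a f : ℕ) : toV (mvTD a f) = Matrix.mulVec (toM a).transpose (toV f) := by
  ext i
  have h : ∀ n : ℕ, ((Nat.mod n 11 : ℕ) : ZMod 11) = (n : ZMod 11) := fun n => ZMod.natCast_mod n 11
  have h1 : dgt (mvTD a f) i.val = mentT a f i.val := by
    rw [mvTD_eq, toV_enc7 _ _ _ _ _ _ _ (mentT_lt _ _ _) (mentT_lt _ _ _) (mentT_lt _ _ _)
      (mentT_lt _ _ _) (mentT_lt _ _ _) (mentT_lt _ _ _) (mentT_lt _ _ _)]
    fin_cases i <;> rfl
  show ((dgt (mvTD a f) i.val : ℕ) : ZMod 11) = _
  rw [h1, Matrix.mulVec, dotProduct, Fin.sum_univ_seven]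
  unfold mentT
  rw [h]
  simp only [toM, toV, Nat.add_eq, Nat.mul_eq, Nat.cast_add, Nat.cast_mul, Matrix.transpose_apply]
  rfl

lemma beq_of_cast {x y : ℕ} (h : (x : ZMod 11) = y) : Nat.beq (Nat.mod x 11) (Nat.mod y 11) = true := by
  have := (ZMod.natCast_eq_natCast_iff' x y 11).1 h
  rw [Nat.beq_eq]
  exact this

/-- proportional vectors pass the test -/
theorem propT_of_smul (v w : ℕ) (c : ZMod 11) (h : toV v = c • toV w) : propT v w = true := by
  have key : ∀ i j : Fin 7, ((Nat.mul (dgt v i) (dgt w j) : ℕ) : ZMod 11) =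
      ((Nat.mul (dgt v j) (dgt w i) : ℕ) : ZMod 11) := by
    intro i j
    have hi : ((dgt v i : ℕ) : ZMod 11) = c * ((dgt w i : ℕ) : ZMod 11) := congrFun h i
    have hj : ((dgt v j : ℕ) : ZMod 11) = c * ((dgt w j : ℕ) : ZMod 11) := congrFun h j
    simp only [Nat.mul_eq, Nat.cast_mul, hi, hj]
    ring
  have key2 : ∀ i j : Fin 7, Nat.beq (Nat.mod (Nat.mul (dgt v i) (dgt w j)) 11)
      (Nat.mod (Nat.mul (dgt v j) (dgt w i)) 11) = true := fun i j => beq_of_cast (key i j)
  unfold propT
  simp only [Bool.and_eq_true]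
  exact ⟨key2 0 1, key2 0 2, key2 0 3, key2 0 4, key2 0 5, key2 0 6, key2 1 2, key2 1 3, key2 1 4,
    key2 1 5, key2 1 6, key2 2 3, key2 2 4, key2 2 5, key2 2 6, key2 3 4, key2 3 5, key2 3 6,
    key2 4 5, key2 4 6, key2 5 6⟩

/-- powers -/
def powD (y : ℕ) (cI : ℕ) : ℕ → ℕ
  | 0 => cI
  | n + 1 => mulD y (powD y cI n)

theorem toM_powD (y cI n : ℕ) (hI : toM cI = 1) : toM (powD y cI n) = toM y ^ n := by
  induction n with
  | zero => simpa [powD] using hI
  | succ n ih =>
    rw [powD, toM_mulD, ih, pow_succ']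

/-- codes of products are determined by their matrices -/
theorem mulD_inj (a b c d : ℕ) (h : toM (mulD a b) = toM (mulD c d)) : mulD a b = mulD c d := by
  have hd : ∀ i j : Fin 7, ent a b i.val j.val = ent c d i.val j.val := by
    intro i j
    have h1 := congrFun (congrFun h i) j
    change ((dgt (mulD a b) (7 * i.val + j.val) : ℕ) : ZMod 11) =
      ((dgt (mulD c d) (7 * i.val + j.val) : ℕ) : ZMod 11) at h1
    rw [dgt_mulD, dgt_mulD] at h1
    have h2 := (ZMod.natCast_eq_natCast_iff' _ _ 11).1 h1
    rwa [Nat.mod_eq_of_lt (ent_lt _ _ _ _), Nat.mod_eq_of_lt (ent_lt _ _ _ _)] at h2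
  rw [mulD_eq, mulD_eq]
  congr 1
  have e : ∀ i j : ℕ, (hi : i < 7) → (hj : j < 7) → ent a b i j = ent c d i j :=
    fun i j hi hj => hd ⟨i, hi⟩ ⟨j, hj⟩
  unfold entL
  rw [e 0 0 (by norm_num) (by norm_num), e 0 1 (by norm_num) (by norm_num), e 0 2 (by norm_num) (by norm_num), e 0 3 (by norm_num) (by norm_num), e 0 4 (by norm_num) (by norm_num), e 0 5 (by norm_num) (by norm_num), e 0 6 (by norm_num) (by norm_num), e 1 0 (by norm_num) (by norm_num), e 1 1 (by norm_num) (by norm_num), e 1 2 (by norm_num) (by norm_num), e 1 3 (by norm_num) (by norm_num), e 1 4 (by norm_num) (by norm_num), e 1 5 (by norm_num) (by norm_num), e 1 6 (by norm_num) (by norm_num), e 2 0 (by norm_num) (by norm_num), e 2 1 (by norm_num) (by norm_num), e 2 2 (by norm_num) (by norm_num), e 2 3 (by norm_num) (by norm_num), e 2 4 (by norm_num) (by norm_num), e 2 5 (by norm_num) (by norm_num), e 2 6 (by norm_num) (by norm_num), e 3 0 (by norm_num) (by norm_num), e 3 1 (by norm_num) (by norm_num), e 3 2 (by norm_num) (by norm_num), e 3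 3 (by norm_num) (by norm_num), e 3 4 (by norm_num) (by norm_num), e 3 5 (by norm_num) (by norm_num), e 3 6 (by norm_num) (by norm_num), e 4 0 (by norm_num) (by norm_num), e 4 1 (by norm_num) (by norm_num), e 4 2 (by norm_num) (by norm_num), e 4 3 (by norm_num) (by norm_num), e 4 4 (by norm_num) (by norm_num), e 4 5 (by norm_num) (by norm_num), e 4 6 (by norm_num) (by norm_num), e 5 0 (by norm_num) (by norm_num), e 5 1 (by norm_num) (by norm_num), e 5 2 (by norm_num) (by norm_num), e 5 3 (by norm_num) (by norm_num), e 5 4 (by norm_num) (by norm_num), e 5 5 (by norm_num) (by norm_num), e 5 6 (by norm_num) (by norm_num), e 6 0 (by norm_num) (by norm_num), e 6 1 (by norm_num) (by norm_num), e 6 2 (by norm_num) (by norm_num), e 6 3 (by norm_num) (by norm_num), e 6 4 (by norm_num) (by norm_num), e 6 5 (by norm_num) (by norm_num), e 6 6 (by norm_num) (by norm_num)]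

end Cfsg.Agent.H17.J1
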