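import Cfsg.Agent.Lib.H17.J1Spec

/-! The smallest Janko group: order 175560 and the exact list of element orders. -/

set_option autoImplicit false
set_option maxRecDepth 100000
set_option linter.style.haveILetI false

namespace Cfsg.Agent.H17.J1

open Cfsg.Spor

/-! ### commuting involutions -/

def w21 : ℕ := mulD cX (mulD w2 (mulD cX (mulD cX (mulD cX (mulD cX (mulD cX cX))))))
def w22 : ℕ := mulD cX (mulD cX (mulD w2 (mulD cX (mulD cX (mulD cX (mulD cX cX))))))

def t1 : G := e2
def t2 : G := gX * (e2 * (gX * (gX * (gX * (gX * (gX * gX))))))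
def t3 : G := gX * (gX * (e2 * (gX * (gX * (gX * (gX * gX))))))

lemma phi_t1 : phi t1 = toM w2 := phi_e2
lemma phi_t2 : phi t2 = toM w21 := by
  simp only [t2, w21, map_mul, toM_mulD, phi_gX, phi_e2]
lemma phi_t3 : phi t3 = toM w22 := by
  simp only [t3, w22, map_mul, toM_mulD, phi_gX, phi_e2]

lemma t1_sq : t1 * t1 = 1 := by
  apply phi_inj
  rw [map_mul, phi_t1, ← toM_mulD, show mulD w2 w2 = cI by decide +kernel, toM_cI, map_one]
lemma t2_sq : t2 * t2 = 1 := by
  apply phi_inj
  rw [map_mul, phi_t2, ← toM_mulD, show mulD w21 w21 = cI by decide +kernel, toM_cI, map_one]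
lemma t3_sq : t3 * t3 = 1 := by
  apply phi_inj
  rw [map_mul, phi_t3, ← toM_mulD, show mulD w22 w22 = cI by decide +kernel, toM_cI, map_one]
lemma c12 : t1 * t2 = t2 * t1 := by
  apply phi_inj
  rw [map_mul, map_mul, phi_t1, phi_t2, ← toM_mulD, ← toM_mulD,
    show mulD w2 w21 = mulD w21 w2 by decide +kernel]
lemma c13 : t1 * t3 = t3 * t1 := by
  apply phi_inj
  rw [map_mul, map_mul, phi_t1, phi_t3, ← toM_mulD, ← toM_mulD,
    show mulD w2 w22 = mulD w22 w2 by decide +kernel]
lemma c23 : t2 * t3 = t3 * t2 := by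
  apply phi_inj
  rw [map_mul, map_mul, phi_t2, phi_t3, ← toM_mulD, ← toM_mulD,
    show mulD w21 w22 = mulD w22 w21 by decide +kernel]

def E : Subgroup G := Subgroup.closure {t1, t2, t3}

lemma comm_aux {H : Type*} [Group H] (a b c : H) (hab : a * b = b * a) (hac : a * c = c * a)
    (hbc : b * c = c * b) :
    ∀ x ∈ ({a, b, c} : Set H), ∀ y ∈ ({a, b, c} : Set H), x * y = y * x := by
  intro x hx y hy
  simp only [Set.mem_insert_iff, Set.mem_singleton_iff] at hx hy
  rcases hx with rfl | rfl | rfl <;> rcases hy with rfl | rfl | rfl <;>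
    first
      | rfl
      | assumption
      | (apply Eq.symm; assumption)

lemma sq_aux {H : Type*} [Group H] (a b c : H) (ha : a * a = 1) (hb : b * b = 1)
    (hc : c * c = 1) : ∀ x ∈ ({a, b, c} : Set H), x * x = 1 := by
  intro x hx
  simp only [Set.mem_insert_iff, Set.mem_singleton_iff] at hx
  rcases hx with rfl | rfl | rfl <;> assumption

lemma E_comm (x y : G) (hx : x ∈ E) (hy : y ∈ E) : x * y = y * x := by
  have hs := comm_aux t1 t2 t3 c12 c13 c23
  induction hx using Subgroup.closure_induction with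
  | mem x hx =>
    induction hy using Subgroup.closure_induction with
    | mem y hy => exact hs x hx y hy
    | one => simp
    | mul a b _ _ iha ihb => rw [mul_assoc, ← ihb, ← mul_assoc, iha, mul_assoc]
    | inv a _ iha => exact (Commute.inv_right iha : Commute x a⁻¹)
  | one => simp
  | mul a b _ _ iha ihb => rw [mul_assoc, ihb, ← mul_assoc, iha, mul_assoc]
  | inv a _ iha => exact (Commute.inv_left iha : Commute a⁻¹ y)

lemma E_sq (x : G) (hx : x ∈ E) : x * x = 1 := by
  induction hx using Subgroup.closure_induction with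
  | mem x hx => exact sq_aux t1 t2 t3 t1_sq t2_sq t3_sq x hx
  | one => simp
  | mul x y hx hy ihx ihy =>
    have h := E_comm x y hx hy
    calc x * y * (x * y) = x * (y * x) * y := by group
      _ = x * (x * y) * y := by rw [h]
      _ = (x * x) * (y * y) := by group
      _ = 1 := by rw [ihx, ihy, one_mul]
  | inv x hx ih =>
    have : x⁻¹ = x := inv_eq_of_mul_eq_one_left ih
    rw [this]
    exact ih

lemma E_pgroup : IsPGroup 2 E := by
  intro x
  refine ⟨1, ?_⟩
  apply Subtype.ext
  show (x : G) ^ 2 ^ 1 = 1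
  rw [pow_one, pow_two]
  exact E_sq x x.2

def pick (b : Bool) (t : G) : G := if b then t else 1
def pickC (b : Bool) (c : ℕ) : ℕ := if b then c else cI

lemma phi_pick (b : Bool) (t : G) (c : ℕ) (h : phi t = toM c) : phi (pick b t) = toM (pickC b c) := by
  cases b
  · simp [pick, pickC, toM_cI]
  · simpa [pick, pickC] using h

def cE (p : Bool × Bool × Bool) : ℕ :=
  mulD (pickC p.1 w2) (mulD (pickC p.2.1 w21) (pickC p.2.2 w22))

theorem cE_inj : ∀ p q, cE p = cE q → p = q := by decide +kernel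

lemma card_E_ge : 8 ≤ Nat.card E := by
  let f : Bool × Bool × Bool → E := fun p =>
    ⟨pick p.1 t1 * (pick p.2.1 t2 * pick p.2.2 t3), by
      have h1 : ∀ (b : Bool) (t : G), t ∈ E → pick b t ∈ E := by
        intro b t ht
        cases b
        · simp [pick, E.one_mem]
        · simpa [pick] using ht
      have m1 : t1 ∈ E := Subgroup.subset_closure (by simp)
      have m2 : t2 ∈ E := Subgroup.subset_closure (by simp)
      have m3 : t3 ∈ E := Subgroup.subset_closure (by simp)
      exact E.mul_mem (h1 _ _ m1) (E.mul_mem (h1 _ _ m2) (h1 _ _ m3))⟩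
  have hf : Function.Injective f := by
    intro p q h
    apply cE_inj
    have h1 : pick p.1 t1 * (pick p.2.1 t2 * pick p.2.2 t3) =
        pick q.1 t1 * (pick q.2.1 t2 * pick q.2.2 t3) := congrArg Subtype.val h
    have h2 := congrArg phi h1
    simp only [map_mul, phi_pick _ _ _ phi_t1, phi_pick _ _ _ phi_t2, phi_pick _ _ _ phi_t3] at h2
    apply mulD_inj
    simp only [toM_mulD]
    exact h2
  have h := Nat.card_le_card_of_injective f hf
  simpa using h

theorem card_G : Nat.card G = 175560 := by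
  have h8 : 8 ∣ Nat.card G := by
    obtain ⟨k, hk⟩ := IsPGroup.iff_card.mp E_pgroup
    have h1 := card_E_ge
    rw [hk] at h1
    have h2 : 3 ≤ k := by
      by_contra hcon
      push Not at hcon
      have : 2 ^ k ≤ 2 ^ 2 := Nat.pow_le_pow_right (by norm_num) (by omega)
      omega
    have h3 : (8 : ℕ) ∣ 2 ^ k := by
      have : (8 : ℕ) = 2 ^ 3 := by norm_num
      rw [this]
      exact pow_dvd_pow 2 h2
    exact dvd_trans (hk ▸ h3) (Subgroup.card_subgroup_dvd_card E)
  have h3 : 3 ∣ Nat.card G := order_e3 ▸ orderOf_dvd_natCard e3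
  have h5 : 5 ∣ Nat.card G := order_gY ▸ orderOf_dvd_natCard gY
  have h7 : 7 ∣ Nat.card G := order_gX ▸ orderOf_dvd_natCard gX
  have h11 : 11 ∣ Nat.card G := order_e11 ▸ orderOf_dvd_natCard e11
  have h19 : 19 ∣ Nat.card G := order_e19 ▸ orderOf_dvd_natCard e19
  have h : 175560 ∣ Nat.card G := by
    have c1 : (8 * 3).Coprime 5 := by norm_num
    have h24 : 8 * 3 ∣ Nat.card G := Nat.Coprime.mul_dvd_of_dvd_of_dvd (by norm_num) h8 h3
    have h120 : 8 * 3 * 5 ∣ Nat.card G := Nat.Coprime.mul_dvd_of_dvd_of_dvd (by norm_num) h24 h5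
    have h840 : 8 * 3 * 5 * 7 ∣ Nat.card G := Nat.Coprime.mul_dvd_of_dvd_of_dvd (by norm_num) h120 h7
    have h9240 : 8 * 3 * 5 * 7 * 11 ∣ Nat.card G :=
      Nat.Coprime.mul_dvd_of_dvd_of_dvd (by norm_num) h840 h11
    have h175560 : 8 * 3 * 5 * 7 * 11 * 19 ∣ Nat.card G :=
      Nat.Coprime.mul_dvd_of_dvd_of_dvd (by norm_num) h9240 h19
    simpa using h175560
  exact le_antisymm card_le (Nat.le_of_dvd Nat.card_pos h)

/-! ### conjugacy via Sylow -/

lemma conj_mem_zpowers {H : Type*} [Group H] [Finite H] (p : ℕ) [hp : Fact p.Prime]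
    (hp2 : ¬ p ^ 2 ∣ Nat.card H) (x h : H) (hx : orderOf x = p) (hh : orderOf h = p) :
    ∃ c : H, c * x * c⁻¹ ∈ Subgroup.zpowers h := by
  have hne : Nat.card H ≠ 0 := Nat.card_pos.ne'
  have hd : p ∣ Nat.card H := hx ▸ orderOf_dvd_natCard x
  have hf : (Nat.card H).factorization p = 1 := by
    have h1 : 1 ≤ (Nat.card H).factorization p := by
      rw [← hp.out.pow_dvd_iff_le_factorization hne, pow_one]
      exact hd
    have h2 : ¬ 2 ≤ (Nat.card H).factorization p := by
      rw [← hp.out.pow_dvd_iff_le_factorization hne]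
      exact hp2
    omega
  let P₁ : Sylow p H := Sylow.ofCard (Subgroup.zpowers x) (by
    rw [Nat.card_zpowers, hx, hf, pow_one])
  let P₂ : Sylow p H := Sylow.ofCard (Subgroup.zpowers h) (by
    rw [Nat.card_zpowers, hh, hf, pow_one])
  obtain ⟨c, hc⟩ := MulAction.exists_smul_eq H P₁ P₂
  refine ⟨c, ?_⟩
  have hxm : x ∈ (P₁ : Subgroup H) := Subgroup.mem_zpowers x
  have h3 : c * x * c⁻¹ ∈ ((c • P₁ : Sylow p H) : Subgroup H) := by
    rw [Sylow.coe_subgroup_smul]
    exact Subgroup.smul_mem_pointwise_smul x (MulAut.conj c) _ hxm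
  rw [hc] at h3
  exact h3

/-- if `g` has order divisible by `p` (and `p` exactly divides the group order) then `g` is conjugate into
the centralizer of the given element of order `p` -/
lemma conj_commute {H : Type*} [Group H] [Finite H] (p : ℕ) [hp : Fact p.Prime]
    (hp2 : ¬ p ^ 2 ∣ Nat.card H) (x g : H) (hx : orderOf x = p) (hg : p ∣ orderOf g) :
    ∃ c : H, (c⁻¹ * g * c) * x = x * (c⁻¹ * g * c) := by
  have h0 : orderOf g ≠ 0 := (orderOf_pos g).ne'
  have hh : orderOf (g ^ (orderOf g / p)) = p := orderOf_pow_orderOf_div h0 hg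
  obtain ⟨c, hc⟩ := conj_mem_zpowers p hp2 x _ hx hh
  refine ⟨c, ?_⟩
  obtain ⟨k, hk⟩ := Subgroup.mem_zpowers_iff.mp hc
  have hcomm : Commute g (c * x * c⁻¹) := by
    rw [← hk]
    exact ((Commute.refl g).pow_right _).zpow_right _
  have h1 : g * (c * x * c⁻¹) = (c * x * c⁻¹) * g := hcomm
  calc c⁻¹ * g * c * x = c⁻¹ * (g * (c * x * c⁻¹)) * c := by group
    _ = c⁻¹ * ((c * x * c⁻¹) * g) * c := by rw [h1]
    _ = x * (c⁻¹ * g * c) := by group

lemma conj_pow_one {H : Type*} [Group H] (c g : H) (n : ℕ) (h : (c⁻¹ * g * c) ^ n = 1) : g ^ n = 1 := by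
  have h2 : (c⁻¹ * g * c) ^ n = c⁻¹ * g ^ n * c := by
    have := conj_pow (a := c⁻¹) (b := g) (i := n)
    simpa using this
  rw [h2] at h
  have h3 : g ^ n = c * (c⁻¹ * g ^ n * c) * c⁻¹ := by group
  rw [h3, h]
  simp

/-- no elements of order 4 -/
lemma no_four (h : G) (hh : orderOf h = 4) : False := by
  haveI : Fact (Nat.Prime 2) := ⟨Nat.prime_two⟩
  have hE : Nat.card E = 2 ^ (Nat.card G).factorization 2 := by
    have hf : (Nat.card G).factorization 2 = 3 := by
      rw [card_G]
      have h1 : (175560 : ℕ) = 2 ^ 3 * 21945 := by norm_num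
      rw [h1, Nat.factorization_mul (by norm_num) (by norm_num), Nat.Prime.factorization_pow Nat.prime_two]
      simp only [Finsupp.coe_add, Pi.add_apply, Finsupp.single_eq_same]
      have : (21945 : ℕ).factorization 2 = 0 := Nat.factorization_eq_zero_of_not_dvd (by norm_num)
      omega
    rw [hf]
    obtain ⟨k, hk⟩ := IsPGroup.iff_card.mp E_pgroup
    have h1 := card_E_ge
    have h2 : Nat.card E ∣ 175560 := card_G ▸ Subgroup.card_subgroup_dvd_card E
    rw [hk] at h1 h2
    have h3 : k ≤ 3 := by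
      by_contra hcon
      push Not at hcon
      have : (2 : ℕ) ^ 4 ∣ 2 ^ k := pow_dvd_pow 2 hcon
      have h4 : (2 : ℕ) ^ 4 ∣ 175560 := dvd_trans this h2
      omega
    have h4 : 3 ≤ k := by
      by_contra hcon
      push Not at hcon
      have : 2 ^ k ≤ 2 ^ 2 := Nat.pow_le_pow_right (by norm_num) (by omega)
      omega
    have : k = 3 := by omega
    rw [hk, this]
  let P₀ : Sylow 2 G := Sylow.ofCard E hE
  have hp : IsPGroup 2 (Subgroup.zpowers h) := by
    apply IsPGroup.of_card (n := 2)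
    rw [Nat.card_zpowers, hh]
    norm_num
  obtain ⟨Q, hQ⟩ := hp.exists_le_sylow
  obtain ⟨c, hc⟩ := MulAction.exists_smul_eq G P₀ Q
  have hm : h ∈ (Q : Subgroup G) := hQ (Subgroup.mem_zpowers h)
  rw [← hc, Sylow.coe_subgroup_smul] at hm
  obtain ⟨e, he, rfl⟩ := Subgroup.mem_pointwise_smul_iff_inv_smul_mem.mp hm |> fun h3 =>
    (⟨_, h3, smul_inv_smul _ _⟩ : ∃ e, e ∈ (P₀ : Subgroup G) ∧ MulAut.conj c • e = h)
  have he2 : e * e = 1 := E_sq e he
  have h4 : (MulAut.conj c • e) ^ 2 = 1 := by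
    rw [pow_two]
    show MulAut.conj c e * MulAut.conj c e = 1
    rw [← map_mul, he2, map_one]
  have h5 := orderOf_dvd_of_pow_eq_one h4
  rw [hh] at h5
  omega

/-- The list of element orders in the smallest Janko group. -/
theorem orderOf_cases (g : G) : orderOf g = 1 ∨ orderOf g = 2 ∨ orderOf g = 3 ∨ orderOf g = 5 ∨
    orderOf g = 6 ∨ orderOf g = 7 ∨ orderOf g = 10 ∨ orderOf g = 11 ∨ orderOf g = 15 ∨ orderOf g = 19 := by
  have hdvd : orderOf g ∣ 175560 := card_G ▸ orderOf_dvd_natCard g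
  have hbig : ∀ (p : ℕ) (hp : p.Prime) (x : G), orderOf x = p → ¬ p ^ 2 ∣ 175560 →
      (∀ y : G, y * x = x * y → y ^ p = 1) → p ∣ orderOf g → orderOf g = p := by
    intro p hp x hx hp2 hc hg
    haveI := Fact.mk hp
    obtain ⟨c, hcomm⟩ := conj_commute p (by rw [card_G]; exact hp2) x g hx hg
    have h1 := conj_pow_one c g p (hc _ hcomm)
    have h2 := orderOf_dvd_of_pow_eq_one h1
    exact Nat.dvd_antisymm h2 hg
  by_cases h7 : 7 ∣ orderOf g
  · have := hbig 7 (by norm_num) gX order_gX (by norm_num) cent7 h7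
    simp [this]
  by_cases h11 : 11 ∣ orderOf g
  · have := hbig 11 (by norm_num) e11 order_e11 (by norm_num) cent11 h11
    simp [this]
  by_cases h19 : 19 ∣ orderOf g
  · have := hbig 19 (by norm_num) e19 order_e19 (by norm_num) cent19 h19
    simp [this]
  have h4 : ¬ 4 ∣ orderOf g := by
    intro h
    exact no_four (g ^ (orderOf g / 4)) (orderOf_pow_orderOf_div (orderOf_pos g).ne' h)
  have h120 : orderOf g ∣ 120 := by
    have c1 : (orderOf g).Coprime 7 := ((Nat.Prime.coprime_iff_not_dvd (by norm_num)).2 h7).symm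
    have c2 : (orderOf g).Coprime 11 := ((Nat.Prime.coprime_iff_not_dvd (by norm_num)).2 h11).symm
    have c3 : (orderOf g).Coprime 19 := ((Nat.Prime.coprime_iff_not_dvd (by norm_num)).2 h19).symm
    have e1 : orderOf g ∣ 120 * 7 * 11 * 19 := by simpa using hdvd
    exact c1.dvd_of_dvd_mul_right (c2.dvd_of_dvd_mul_right (c3.dvd_of_dvd_mul_right e1))
  have hne30 : orderOf g ≠ 30 := by
    intro h30
    haveI : Fact (Nat.Prime 5) := ⟨by norm_num⟩
    obtain ⟨c, hcomm⟩ := conj_commute 5 (by rw [card_G]; norm_num) gY g order_gY (by rw [h30]; norm_num)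
    rcases cent5 _ hcomm with h | h | h
    · have := orderOf_dvd_of_pow_eq_one (conj_pow_one c g _ h)
      rw [h30] at this
      omega
    · have := orderOf_dvd_of_pow_eq_one (conj_pow_one c g _ h)
      rw [h30] at this
      omega
    · have := orderOf_dvd_of_pow_eq_one (conj_pow_one c g _ h)
      rw [h30] at this
      omega
  have hle := Nat.le_of_dvd (by norm_num) h120
  have hpos := orderOf_pos g
  generalize orderOf g = e at *
  interval_cases e <;> first | omega | simp

theorem exists_order_small (n : ℕ) (hn : n = 1 ∨ n = 2 ∨ n = 3 ∨ n = 5 ∨ n = 6 ∨ n = 10 ∨ n = 15) :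
    ∃ z : G, orderOf z = n := by
  rcases hn with rfl | rfl | rfl | rfl | rfl | rfl | rfl
  · exact ⟨1, orderOf_one⟩
  · exact ⟨_, order_e2⟩
  · exact ⟨_, order_e3⟩
  · exact ⟨_, order_gY⟩
  · exact ⟨_, order_e6⟩
  · exact ⟨_, order_e10⟩
  · exact ⟨_, order_e15⟩

end Cfsg.Agent.H17.J1
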