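import Cfsg.Agent.Lib.H17.J1Data

/-! The smallest Janko group: order 175560 and the exact list of element orders. -/

set_option autoImplicit false
set_option maxRecDepth 100000
set_option linter.style.haveILetI false

namespace Cfsg.Agent.H17.J1

open Cfsg.Spor

def entT (a i j : ℕ) : ℕ :=
  Nat.mod (Nat.add (Nat.add (Nat.add (Nat.add (Nat.add (Nat.add
    (Nat.mul (dgt a (7 * 0 + i)) (dgt a (7 * 0 + j))) (Nat.mul (dgt a (7 * 1 + i)) (dgt a (7 * 1 + j))))
    (Nat.mul (dgt a (7 * 2 + i)) (dgt a (7 * 2 + j)))) (Nat.mul (dgt a (7 * 3 + i)) (dgt a (7 * 3 + j))))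
    (Nat.mul (dgt a (7 * 4 + i)) (dgt a (7 * 4 + j)))) (Nat.mul (dgt a (7 * 5 + i)) (dgt a (7 * 5 + j))))
    (Nat.mul (dgt a (7 * 6 + i)) (dgt a (7 * 6 + j)))) 11

def entTL (a : ℕ) : List ℕ := [entT a 0 0, entT a 0 1, entT a 0 2, entT a 0 3, entT a 0 4, entT a 0 5, entT a 0 6, entT a 1 0, entT a 1 1, entT a 1 2, entT a 1 3, entT a 1 4, entT a 1 5, entT a 1 6, entT a 2 0, entT a 2 1, entT a 2 2, entT a 2 3, entT a 2 4, entT a 2 5, entT a 2 6, entT a 3 0, entT a 3 1, entT a 3 2, entT a 3 3, entT a 3 4, entT a 3 5, entT a 3 6, entT a 4 0, entT a 4 1, entT a 4 2, entT a 4 3, entT a 4 4, entT a 4 5, entT a 4 6, entT a 5 0, entT a 5 1, entT a 5 2, entT a 5 3, entT a 5 4, entT a 5 5, entT a 5 6, entT a 6 0, entT a 6 1, entT a 6 2, entT a 6 3, entT a 6 4, entT a 6 5, entT a 6 6]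

theorem ttD_eq (a : ℕ) : ttD a = enc (entTL a) := rfl

lemma entT_lt (a i j : ℕ) : entT a i j < 11 := Nat.mod_lt _ (by norm_num)

lemma entTL_lt (a : ℕ) : ∀ x ∈ entTL a, x < 11 := by
  intro x hx
  simp only [entTL, List.mem_cons, List.not_mem_nil, or_false] at hx
  rcases hx with h | h | h | h | h | h | h | h | h | h | h | h | h | h | h | h | h | h | h | h |
    h | h | h | h | h | h | h | h | h | h | h | h | h | h | h | h | h | h | h | h |
    h | h | h | h | h | h | h | h | h <;> exact h ▸ entT_lt _ _ _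

lemma dgt_ttD (a : ℕ) (i j : Fin 7) : dgt (ttD a) (7 * i.val + j.val) = entT a i.val j.val := by
  rw [ttD_eq, dgt_enc _ (entTL_lt a)]
  fin_cases i <;> fin_cases j <;> rfl

theorem toM_ttD (a : ℕ) : toM (ttD a) = (toM a).transpose * toM a := by
  ext i j
  show ((dgt (ttD a) (7 * i.val + j.val) : ℕ) : ZMod 11) = _
  rw [dgt_ttD, Matrix.mul_apply, Fin.sum_univ_seven]
  have h : ∀ n : ℕ, ((Nat.mod n 11 : ℕ) : ZMod 11) = (n : ZMod 11) := fun n => ZMod.natCast_mod n 11
  unfold entT
  rw [h]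
  simp only [toM, Nat.add_eq, Nat.mul_eq, Nat.cast_add, Nat.cast_mul, Matrix.transpose_apply]
  rfl

theorem toM_cX : toM cX = jankoMatrixX := by decide +kernel

theorem toM_cY : toM cY = jankoMatrixY := by decide +kernel

theorem toM_cI : toM cI = 1 := by decide +kernel

theorem cI_mul : mulD cI cI = cI := by decide +kernel

/-- `toM` is faithful on canonical codes -/
lemma canon_eq (x y : ℕ) (h : toM x = toM y) : mulD cI x = mulD cI y := by
  apply mulD_inj
  rw [toM_mulD, toM_mulD, h]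

lemma ne_one_of (x : ℕ) (h : mulD cI x ≠ cI) : toM x ≠ 1 := by
  intro h1
  apply h
  have := canon_eq x cI (by rw [h1, toM_cI])
  rw [this, cI_mul]

/-! ### the group -/

abbrev G := ↥Cfsg.Spor.J1

/-- the underlying matrix -/
def phi : G →* Mat := (Units.coeHom Mat).comp (Cfsg.Spor.J1).subtype

lemma phi_apply (g : G) : phi g = ((g : GL (Fin 7) (ZMod 11)) : Mat) := rfl

lemma phi_inj : Function.Injective phi := by
  intro a b h
  apply Subtype.ext
  apply Units.ext
  exact h

def gX : G := ⟨jankoX, Subgroup.subset_closure (by simp)⟩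

def gY : G := ⟨jankoY, Subgroup.subset_closure (by simp)⟩

lemma phi_gX : phi gX = toM cX := by rw [toM_cX]; rfl

lemma phi_gY : phi gY = toM cY := by rw [toM_cY]; rfl

/-- the cover of the group -/
lemma row_of (u : ℕ) (hu : u ∈ Us) :
    (∃ u' ∈ Us, ∃ a' ∈ As, mulD cX u = mulD u' a') ∧ (∃ u' ∈ Us, ∃ a' ∈ As, mulD cY u = mulD u' a') := by
  have h1 : u ∈ Tb.map Prod.fst := by rw [Tb_us]; exact hu
  obtain ⟨r, hr, rfl⟩ := List.mem_map.mp h1
  have h2 := List.all_eq_true.mp Tb_ok r hr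
  obtain ⟨u0, jx, ax, jy, ay⟩ := r
  simp only [rowOK, Bool.and_eq_true] at h2
  obtain ⟨h3, h4, h5, h6, h7, h8⟩ := h2
  have e7 := Nat.eq_of_beq_eq_true h7
  have e8 := Nat.eq_of_beq_eq_true h8
  refine ⟨⟨gd Us jx, gd_mem _ _ (by rw [Us_len]; exact h3), gd As ax, gd_mem _ _ (by rw [As_len]; exact h4),
    e7⟩, ⟨gd Us jy, gd_mem _ _ (by rw [Us_len]; exact h5), gd As ay, gd_mem _ _ (by rw [As_len]; exact h6),
    e8⟩⟩

lemma as_mul (a b : ℕ) (ha : a ∈ As) (hb : b ∈ As) : mulD a b ∈ As := by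
  have h1 := List.all_eq_true.mp As_closed a ha
  have h2 := List.all_eq_true.mp h1 b hb
  exact elemN_mem _ _ h2

/-- property for the cover -/
def Cov (m : Mat) : Prop := ∃ u ∈ Us, ∃ a ∈ As, m = toM u * toM a

lemma cov_X (m : Mat) (h : Cov m) : Cov (toM cX * m) := by
  obtain ⟨u, hu, a, ha, rfl⟩ := h
  obtain ⟨⟨u', hu', a', ha', e⟩, -⟩ := row_of u hu
  refine ⟨u', hu', mulD a' a, as_mul _ _ ha' ha, ?_⟩
  rw [toM_mulD, ← mul_assoc, ← mul_assoc, ← toM_mulD, e, toM_mulD]

lemma cov_Y (m : Mat) (h : Cov m) : Cov (toM cY * m) := by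
  obtain ⟨u, hu, a, ha, rfl⟩ := h
  obtain ⟨-, ⟨u', hu', a', ha', e⟩⟩ := row_of u hu
  refine ⟨u', hu', mulD a' a, as_mul _ _ ha' ha, ?_⟩
  rw [toM_mulD, ← mul_assoc, ← mul_assoc, ← toM_mulD, e, toM_mulD]

lemma cov_one : Cov 1 := by
  refine ⟨cI, by decide +kernel, cI, by decide +kernel, ?_⟩
  rw [toM_cI, one_mul]

theorem powX : jankoX ^ 7 = 1 := by
  apply Units.ext
  show (jankoMatrixX) ^ 7 = 1
  have h : powD cX cI 7 = cI := by decide +kernel
  have h2 := toM_powD cX cI 7 toM_cI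
  rw [h, toM_cI, toM_cX] at h2
  exact h2.symm

theorem powY : jankoY ^ 5 = 1 := by
  apply Units.ext
  show (jankoMatrixY) ^ 5 = 1
  have h : powD cY cI 5 = cI := by decide +kernel
  have h2 := toM_powD cY cI 5 toM_cI
  rw [h, toM_cI, toM_cY] at h2
  exact h2.symm

theorem cover_gl (h : GL (Fin 7) (ZMod 11)) (hh : h ∈ Cfsg.Spor.J1) : Cov (h : Mat) := by
  have hX : ∀ (k : ℕ) (y : GL (Fin 7) (ZMod 11)), Cov (y : Mat) → Cov (((jankoX ^ k * y : GL (Fin 7) (ZMod 11))) : Mat) := by
    intro k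
    induction k with
    | zero => intro y hy; simpa using hy
    | succ k ih =>
      intro y hy
      have h1 := cov_X _ (ih y hy)
      have e : ((jankoX ^ (k + 1) * y : GL (Fin 7) (ZMod 11)) : Mat) = jankoMatrixX * ((jankoX ^ k * y : GL (Fin 7) (ZMod 11)) : Mat) := by
        rw [pow_succ', mul_assoc]
        rfl
      rw [e]
      rw [toM_cX] at h1
      exact h1
  have hY : ∀ (k : ℕ) (y : GL (Fin 7) (ZMod 11)), Cov (y : Mat) → Cov (((jankoY ^ k * y : GL (Fin 7) (ZMod 11))) : Mat) := by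
    intro k
    induction k with
    | zero => intro y hy; simpa using hy
    | succ k ih =>
      intro y hy
      have h1 := cov_Y _ (ih y hy)
      have e : ((jankoY ^ (k + 1) * y : GL (Fin 7) (ZMod 11)) : Mat) = jankoMatrixY * ((jankoY ^ k * y : GL (Fin 7) (ZMod 11)) : Mat) := by
        rw [pow_succ', mul_assoc]
        rfl
      rw [e]
      rw [toM_cY] at h1
      exact h1
  have invX : (jankoX)⁻¹ = jankoX ^ 6 := by
    apply inv_eq_of_mul_eq_one_right
    rw [← pow_succ', powX]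
  have invY : (jankoY)⁻¹ = jankoY ^ 4 := by
    apply inv_eq_of_mul_eq_one_right
    rw [← pow_succ', powY]
  induction hh using Subgroup.closure_induction_left with
  | one => simpa using cov_one
  | mul_left x hx y _ ih =>
    rcases hx with rfl | hx
    · simpa using hX 1 y ih
    · have hx' : x = jankoY := hx
      subst hx'
      simpa using hY 1 y ih
  | inv_mul_cancel x hx y _ ih =>
    rcases hx with rfl | hx
    · rw [invX]
      exact hX 6 y ih
    · have hx' : x = jankoY := hx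
      subst hx'
      rw [invY]
      exact hY 4 y ih


theorem cover (g : G) : Cov (phi g) := cover_gl g.1 g.2

lemma cover_mem (F : Finset Mat) (hF : ∀ u ∈ Us, ∀ a ∈ As, toM u * toM a ∈ F) (g : G) : phi g ∈ F := by
  obtain ⟨u, hu, a, ha, e⟩ := cover g
  rw [e]
  exact hF u hu a ha

lemma card_le_aux (F : Finset Mat) (hF : ∀ g : G, phi g ∈ F) : Nat.card G ≤ F.card := by
  have h1 : Nat.card G ≤ Nat.card F := by
    apply Nat.card_le_card_of_injective (fun g : G => (⟨phi g, hF g⟩ : F))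
    intro a b h
    exact phi_inj (congrArg Subtype.val h)
  have h2 : Nat.card F = F.card := by simp
  omega

lemma card_le_aux2 (l1 l2 : List ℕ) (h : ∀ g : G, ∃ u ∈ l1, ∃ a ∈ l2, phi g = toM u * toM a) :
    Nat.card G ≤ l1.length * l2.length := by
  classical
  have h1 := card_le_aux ((l1.toFinset ×ˢ l2.toFinset).image (fun p => toM p.1 * toM p.2)) (by
    intro g
    obtain ⟨u, hu, a, ha, e⟩ := h g
    rw [e]
    exact Finset.mem_image.mpr ⟨(u, a), by simp [hu, ha], rfl⟩)
  have h3 : ((l1.toFinset ×ˢ l2.toFinset).image (fun p => toM p.1 * toM p.2)).card ≤ l1.length * l2.length := by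
    calc _ ≤ (l1.toFinset ×ˢ l2.toFinset).card := Finset.card_image_le
      _ = l1.toFinset.card * l2.toFinset.card := Finset.card_product _ _
      _ ≤ l1.length * l2.length := Nat.mul_le_mul (List.toFinset_card_le _) (List.toFinset_card_le _)
  omega

theorem card_le : Nat.card G ≤ 175560 := by
  have h := card_le_aux2 Us As cover
  rw [Us_len, As_len] at h
  exact h

lemma phi_pow (y : G) (c : ℕ) (hy : phi y = toM c) (n : ℕ) : phi (y ^ n) = toM (powD c cI n) := by
  rw [map_pow, hy, toM_powD _ _ _ toM_cI]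

lemma pow_eq_one_of (y : G) (c : ℕ) (hy : phi y = toM c) (n : ℕ) (h : powD c cI n = cI) : y ^ n = 1 := by
  apply phi_inj
  rw [phi_pow y c hy, h, toM_cI, map_one]

lemma pow_ne_one_of (y : G) (c : ℕ) (hy : phi y = toM c) (n : ℕ) (h : mulD cI (powD c cI n) ≠ cI) :
    y ^ n ≠ 1 := by
  intro h1
  apply ne_one_of _ h
  rw [← phi_pow y c hy, h1, map_one]

lemma order_prime (y : G) (c p : ℕ) (hy : phi y = toM c) (hp : p.Prime) (h1 : powD c cI p = cI)
    (h2 : mulD cI (powD c cI 1) ≠ cI) : orderOf y = p := by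
  haveI := Fact.mk hp
  apply orderOf_eq_prime (pow_eq_one_of y c hy p h1)
  have := pow_ne_one_of y c hy 1 h2
  simpa using this

lemma order_pq (y : G) (c p q : ℕ) (hy : phi y = toM c) (hp : p.Prime) (hq : q.Prime) (hpq : p ≠ q)
    (h1 : powD c cI (p * q) = cI) (h2 : mulD cI (powD c cI p) ≠ cI) (h3 : mulD cI (powD c cI q) ≠ cI) :
    orderOf y = p * q := by
  apply orderOf_eq_of_pow_and_pow_div_prime (Nat.mul_pos hp.pos hq.pos) (pow_eq_one_of y c hy _ h1)
  intro r hr hrd
  rcases (Nat.Prime.dvd_mul hr).1 hrd with h | h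
  · have e : r = p := (Nat.prime_dvd_prime_iff_eq hr hp).1 h
    subst e
    rw [Nat.mul_div_cancel_left _ hr.pos]
    exact pow_ne_one_of y c hy _ h3
  · have e : r = q := (Nat.prime_dvd_prime_iff_eq hr hq).1 h
    subst e
    rw [Nat.mul_div_cancel _ hr.pos]
    exact pow_ne_one_of y c hy _ h2

/-! ### explicit elements -/

def w2 : ℕ := mulD cX (mulD cY (mulD cX (mulD cY (mulD cY (mulD cY cY)))))
def w3 : ℕ := mulD cX (mulD cX (mulD cX (mulD cY (mulD cX (mulD cY (mulD cX cY))))))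
def w6 : ℕ := mulD cX (mulD cY (mulD cY cY))
def w10 : ℕ := mulD cX cY
def w11 : ℕ := mulD cX (mulD cY cY)
def w15 : ℕ := mulD cX (mulD cX (mulD cY (mulD cY (mulD cX (mulD cY (mulD cX (mulD cY cY)))))))
def w19 : ℕ := mulD cX (mulD cX (mulD cX cY))

def e2 : G := gX * (gY * (gX * (gY * (gY * (gY * gY)))))
def e3 : G := gX * (gX * (gX * (gY * (gX * (gY * (gX * gY))))))
def e6 : G := gX * (gY * (gY * gY))
def e10 : G := gX * gY
def e11 : G := gX * (gY * gY)
def e15 : G := gX * (gX * (gY * (gY * (gX * (gY * (gX * (gY * gY)))))))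
def e19 : G := gX * (gX * (gX * gY))

lemma phi_e2 : phi e2 = toM w2 := by simp only [e2, w2, map_mul, toM_mulD, phi_gX, phi_gY]
lemma phi_e3 : phi e3 = toM w3 := by simp only [e3, w3, map_mul, toM_mulD, phi_gX, phi_gY]
lemma phi_e6 : phi e6 = toM w6 := by simp only [e6, w6, map_mul, toM_mulD, phi_gX, phi_gY]
lemma phi_e10 : phi e10 = toM w10 := by simp only [e10, w10, map_mul, toM_mulD, phi_gX, phi_gY]
lemma phi_e11 : phi e11 = toM w11 := by simp only [e11, w11, map_mul, toM_mulD, phi_gX, phi_gY]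
lemma phi_e15 : phi e15 = toM w15 := by simp only [e15, w15, map_mul, toM_mulD, phi_gX, phi_gY]
lemma phi_e19 : phi e19 = toM w19 := by simp only [e19, w19, map_mul, toM_mulD, phi_gX, phi_gY]

theorem order_e2 : orderOf e2 = 2 :=
  order_prime e2 w2 2 phi_e2 (by norm_num) (by decide +kernel) (by decide +kernel)
theorem order_e3 : orderOf e3 = 3 :=
  order_prime e3 w3 3 phi_e3 (by norm_num) (by decide +kernel) (by decide +kernel)
theorem order_gY : orderOf gY = 5 :=
  order_prime gY cY 5 phi_gY (by norm_num) (by decide +kernel) (by decide +kernel)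
theorem order_gX : orderOf gX = 7 :=
  order_prime gX cX 7 phi_gX (by norm_num) (by decide +kernel) (by decide +kernel)
theorem order_e11 : orderOf e11 = 11 :=
  order_prime e11 w11 11 phi_e11 (by norm_num) (by decide +kernel) (by decide +kernel)
theorem order_e19 : orderOf e19 = 19 :=
  order_prime e19 w19 19 phi_e19 (by norm_num) (by decide +kernel) (by decide +kernel)
theorem order_e6 : orderOf e6 = 6 :=
  order_pq e6 w6 2 3 phi_e6 (by norm_num) (by norm_num) (by norm_num) (by decide +kernel)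
    (by decide +kernel) (by decide +kernel)
theorem order_e10 : orderOf e10 = 10 :=
  order_pq e10 w10 2 5 phi_e10 (by norm_num) (by norm_num) (by norm_num) (by decide +kernel)
    (by decide +kernel) (by decide +kernel)
theorem order_e15 : orderOf e15 = 15 :=
  order_pq e15 w15 3 5 phi_e15 (by norm_num) (by norm_num) (by norm_num) (by decide +kernel)
    (by decide +kernel) (by decide +kernel)

/-! ### centralizers -/

theorem cent_run (xg : G) (x f l Q : ℕ) (T : List (ℕ × ℕ)) (good : ℕ → Bool) (hx : phi xg = toM x)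
    (hfix : Matrix.mulVec (toM x) (toV f) = toV f)
    (hcert : toM Q * (toM x - 1) + Matrix.vecMulVec (toV f) (toV l) = 1)
    (hfst : T.map Prod.fst = As) (hok : tblOK f T = true) (hrun : runCheck x f T good = true)
    (y : G) (hy : y * xg = xg * y) : ∃ c, phi y = toM c ∧ good c = true := by
  obtain ⟨u, hu, a, ha, e⟩ := cover y
  have hv : Matrix.mulVec (toM x) (Matrix.mulVec (phi y) (toV f)) = Matrix.mulVec (phi y) (toV f) := by
    rw [Matrix.mulVec_mulVec, ← hx, ← map_mul, ← hy, map_mul, ← Matrix.mulVec_mulVec, hx, hfix]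
  set v := Matrix.mulVec (phi y) (toV f) with hvdef
  have hc : v = (dotProduct (toV l) v) • toV f := by
    have h1 : Matrix.mulVec (toM Q * (toM x - 1) + Matrix.vecMulVec (toV f) (toV l)) v = v := by
      rw [hcert, Matrix.one_mulVec]
    rw [Matrix.add_mulVec, ← Matrix.mulVec_mulVec, Matrix.sub_mulVec, hv, Matrix.one_mulVec, sub_self,
      Matrix.mulVec_zero, zero_add] at h1
    have h2 : Matrix.mulVec (Matrix.vecMulVec (toV f) (toV l)) v = (dotProduct (toV l) v) • toV f := by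
      ext i
      simp only [Matrix.mulVec, Matrix.vecMulVec_apply, dotProduct, Pi.smul_apply, smul_eq_mul]
      rw [mul_comm (∑ _, _), Finset.mul_sum]
      exact Finset.sum_congr rfl (fun j _ => mul_assoc _ _ _)
    rw [← h2]
    exact h1.symm
  have hUU : (toM u).transpose * toM u = 1 := by
    have h1 := List.all_eq_true.mp Us_orth u hu
    have h2 : ttD u = cI := Nat.eq_of_beq_eq_true h1
    rw [← toM_ttD, h2, toM_cI]
  have hA : toV (mvD a f) = (dotProduct (toV l) v) • toV (mvTD u f) := by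
    rw [toV_mvD, toV_mvTD, ← Matrix.mulVec_smul, ← hc, hvdef, e, Matrix.mulVec_mulVec,
      ← mul_assoc, hUU, one_mul]
  have hprop := propT_of_smul _ _ _ hA
  have haT : a ∈ T.map Prod.fst := by rw [hfst]; exact ha
  obtain ⟨p, hp, hpa⟩ := List.mem_map.mp haT
  have h2 : mvD p.1 f = p.2 := Nat.eq_of_beq_eq_true (List.all_eq_true.mp hok p hp)
  have h3 := List.all_eq_true.mp (List.all_eq_true.mp hrun u hu) p hp
  rw [← h2, hpa, hprop] at h3
  have hcomm : Nat.beq (mulD (mulD u a) x) (mulD x (mulD u a)) = true := by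
    rw [Nat.beq_eq]
    apply mulD_inj
    simp only [toM_mulD]
    rw [← e, ← hx, ← map_mul, ← map_mul, hy]
  rw [hcomm] at h3
  refine ⟨mulD u a, by rw [toM_mulD, e], ?_⟩
  simpa using h3

theorem x7c_eq : toM x7c = toM cX := by decide +kernel
theorem x5c_eq : toM x5c = toM cY := by decide +kernel
theorem x11c_eq : toM x11c = toM w11 := by decide +kernel
theorem x19c_eq : toM x19c = toM w19 := by decide +kernel

theorem cent7 (y : G) (hy : y * gX = gX * y) : y ^ 7 = 1 := by
  obtain ⟨c, hc, hg⟩ := cent_run gX x7c x7f x7l x7Q x7T _ (by rw [phi_gX, x7c_eq])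
    (by decide +kernel) (by decide +kernel) x7T_fst x7T_ok x7_run y hy
  exact pow_eq_one_of y c hc 7 (Nat.eq_of_beq_eq_true hg)

theorem cent11 (y : G) (hy : y * e11 = e11 * y) : y ^ 11 = 1 := by
  obtain ⟨c, hc, hg⟩ := cent_run e11 x11c x11f x11l x11Q x11T _ (by rw [phi_e11, x11c_eq])
    (by decide +kernel) (by decide +kernel) x11T_fst x11T_ok x11_run y hy
  exact pow_eq_one_of y c hc 11 (Nat.eq_of_beq_eq_true hg)

theorem cent19 (y : G) (hy : y * e19 = e19 * y) : y ^ 19 = 1 := by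
  obtain ⟨c, hc, hg⟩ := cent_run e19 x19c x19f x19l x19Q x19T _ (by rw [phi_e19, x19c_eq])
    (by decide +kernel) (by decide +kernel) x19T_fst x19T_ok x19_run y hy
  exact pow_eq_one_of y c hc 19 (Nat.eq_of_beq_eq_true hg)

theorem cent5 (y : G) (hy : y * gY = gY * y) : y ^ 6 = 1 ∨ y ^ 10 = 1 ∨ y ^ 15 = 1 := by
  obtain ⟨c, hc, hg⟩ := cent_run gY x5c x5f x5l x5Q x5T _ (by rw [phi_gY, x5c_eq])
    (by decide +kernel) (by decide +kernel) x5T_fst x5T_ok x5_run y hy
  simp only [Bool.or_eq_true] at hg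
  rcases hg with h | h | h
  · exact Or.inl (pow_eq_one_of y c hc 6 (Nat.eq_of_beq_eq_true h))
  · exact Or.inr (Or.inl (pow_eq_one_of y c hc 10 (Nat.eq_of_beq_eq_true h)))
  · exact Or.inr (Or.inr (pow_eq_one_of y c hc 15 (Nat.eq_of_beq_eq_true h)))

end Cfsg.Agent.H17.J1
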