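import Cfsg.Agent.Lib.H17.J1Orders

/-! Sylow subgroups of the smallest Janko group. -/

set_option autoImplicit false
set_option maxRecDepth 100000
set_option linter.style.haveILetI false

namespace Cfsg.Agent.H17.J1

open Cfsg.Spor

theorem hE : Nat.card E = 2 ^ (Nat.card G).factorization 2 := by
  haveI : Fact (Nat.Prime 2) := ⟨Nat.prime_two⟩
  have hf : (Nat.card G).factorization 2 = 3 := by
    rw [card_G]
    have h1 : (175560 : ℕ) = 2 ^ 3 * 21945 := by norm_num
    rw [h1, Nat.factorization_mul (by norm_num) (by norm_num), Nat.Prime.factorization_pow Nat.prime_two]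
    simp only [Finsupp.coe_add, Pi.add_apply, Finsupp.single_eq_same]
    have : (21945 : ℕ).factorization 2 = 0 := Nat.factorization_eq_zero_of_not_dvd (by norm_num)
    omega
  rw [hf]
  obtain ⟨k, hk⟩ := IsPGroup.iff_card.mp E_pgroup
  have h1 := card_E_ge
  have h2 : Nat.card E ∣ 175560 := card_G ▸ Subgroup.card_subgroup_dvd_card E
  rw [hk] at h1 h2
  have h3 : k ≤ 3 := by
    by_contra hcon
    push Not at hcon
    have : (2 : ℕ) ^ 4 ∣ 2 ^ k := pow_dvd_pow 2 hcon
    have h4 : (2 : ℕ) ^ 4 ∣ 175560 := dvd_trans this h2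
    omega
  have h4 : 3 ≤ k := by
    by_contra hcon
    push Not at hcon
    have : 2 ^ k ≤ 2 ^ 2 := Nat.pow_le_pow_right (by norm_num) (by omega)
    omega
  have : k = 3 := by omega
  rw [hk, this]

theorem card_E : Nat.card E = 8 := by
  have h := hE
  have hf : (Nat.card G).factorization 2 = 3 := by
    rw [card_G]
    have h1 : (175560 : ℕ) = 2 ^ 3 * 21945 := by norm_num
    rw [h1, Nat.factorization_mul (by norm_num) (by norm_num), Nat.Prime.factorization_pow Nat.prime_two]
    simp only [Finsupp.coe_add, Pi.add_apply, Finsupp.single_eq_same]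
    have : (21945 : ℕ).factorization 2 = 0 := Nat.factorization_eq_zero_of_not_dvd (by norm_num)
    omega
  rw [h, hf]
  norm_num

/-- every 2-subgroup is conjugate into `E`. -/
theorem conj_into_E (Q : Subgroup G) (hQ : IsPGroup 2 Q) :
    ∃ c : G, ∀ x ∈ Q, c⁻¹ * x * c ∈ E := by
  haveI : Fact (Nat.Prime 2) := ⟨Nat.prime_two⟩
  let P₀ : Sylow 2 G := Sylow.ofCard E hE
  obtain ⟨R, hR⟩ := hQ.exists_le_sylow
  obtain ⟨c, hc⟩ := MulAction.exists_smul_eq G P₀ R
  refine ⟨c, fun x hx => ?_⟩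
  have hm : x ∈ (R : Subgroup G) := hR hx
  rw [← hc, Sylow.coe_subgroup_smul] at hm
  have h3 := Subgroup.mem_pointwise_smul_iff_inv_smul_mem.mp hm
  have h4 : (MulAut.conj c)⁻¹ • x = c⁻¹ * x * c := by
    show (MulAut.conj c)⁻¹ x = _
    rw [MulAut.conj_inv_apply]
  rw [h4] at h3
  exact h3

lemma s1 : gX * t1 = t2 * gX := by
  apply phi_inj
  rw [map_mul, map_mul, phi_t1, phi_t2, phi_gX, ← toM_mulD, ← toM_mulD,
    show mulD cX w2 = mulD w21 cX by decide +kernel]

lemma s2 : gX * t2 = t3 * gX := by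
  apply phi_inj
  rw [map_mul, map_mul, phi_t2, phi_t3, phi_gX, ← toM_mulD, ← toM_mulD,
    show mulD cX w21 = mulD w22 cX by decide +kernel]

lemma s3 : gX * t3 = (t1 * t2) * gX := by
  apply phi_inj
  rw [map_mul, map_mul, map_mul, phi_t1, phi_t2, phi_t3, phi_gX, ← toM_mulD, ← toM_mulD, ← toM_mulD,
    show mulD cX w22 = mulD (mulD w2 w21) cX by decide +kernel]

lemma s4 : gX * ((t1 * t2) * (t2 * t3)) = t1 * gX := by
  apply phi_inj
  simp only [map_mul, phi_t1, phi_t2, phi_t3, phi_gX, ← toM_mulD]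
  rw [show mulD cX (mulD (mulD w2 w21) (mulD w21 w22)) = mulD w2 cX by decide +kernel]

end Cfsg.Agent.H17.J1
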