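import Mathlib

/-! # Labelling a free action of a cyclic group of odd prime order, and normal forms of
permutations normalising it -/

set_option autoImplicit false
set_option linter.unusedSectionVars false
set_option linter.style.haveILetI false
set_option linter.unusedSimpArgs false
set_option linter.unusedVariables false

namespace Cfsg.Agent.H17.Lab2

open Equiv Equiv.Perm

variable {p r : ℕ} [hp : Fact p.Prime]

theorem units_pow_odd (u : ℤˣ) {n : ℕ} (hn : Odd n) : u ^ n = u := by
  rcases Int.units_eq_one_or u with rfl | rfl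
  · simp
  · exact hn.neg_one_pow

theorem sign_addRight (hp2 : p ≠ 2) (c : ZMod p) :
    sign (Equiv.addRight c : Perm (ZMod p)) = 1 := by
  have hodd : Odd p := hp.out.odd_of_ne_two hp2
  have h1 : (Equiv.addRight c : Perm (ZMod p)) ^ p = 1 := by
    have key : ∀ (n : ℕ) (j : ZMod p), ((Equiv.addRight c : Perm (ZMod p)) ^ n) j = j + n * c := by
      intro n
      induction n with
      | zero => intro j; simp
      | succ n ih =>
        intro j
        rw [pow_succ, Perm.mul_apply, ih]
        simp
        ring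
    ext j
    rw [key]
    simp
  have h2 := congrArg sign h1
  rw [map_pow, units_pow_odd _ hodd, map_one] at h2
  exact h2

/-- Affine form of a map that normalises the shift. -/
theorem affine_form (σ : Fin r × ZMod p → Fin r × ZMod p) (m : ZMod p)
    (h : ∀ i j, σ (i, j + 1) = ((σ (i, j)).1, (σ (i, j)).2 + m)) (i : Fin r) (j : ZMod p) :
    σ (i, j) = ((σ (i, 0)).1, m * j + (σ (i, 0)).2) := by
  have key : ∀ n : ℕ, σ (i, (n : ZMod p)) = ((σ (i, 0)).1, m * n + (σ (i, 0)).2) := by
    intro n
    induction n with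
    | zero => simp
    | succ n ih =>
      have := h i n
      rw [ih] at this
      push_cast
      rw [this]
      ext <;> simp
      ring
  have h2 := key j.val
  rwa [ZMod.natCast_zmod_val] at h2

/-- The sign of a permutation of the model normalising the shift. -/
theorem model_sign (hp2 : p ≠ 2) (σ : Perm (Fin r × ZMod p)) (m : ZMod p) (hm : m ≠ 0)
    (h : ∀ i j, σ (i, j + 1) = ((σ (i, j)).1, (σ (i, j)).2 + m)) :
    ∃ τ : Perm (Fin r), (∀ i j, (σ (i, j)).1 = τ i) ∧
      sign σ = sign τ * (sign (Units.mulLeft (Units.mk0 m hm) : Perm (ZMod p))) ^ r := by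
  classical
  have hodd : Odd p := hp.out.odd_of_ne_two hp2
  have hform := affine_form σ m h
  let t : Fin r → Fin r := fun i => (σ (i, 0)).1
  have ht1 : ∀ i j, (σ (i, j)).1 = t i := fun i j => by rw [hform i j]
  have hsurj : Function.Surjective t := by
    intro i'
    obtain ⟨⟨i, j⟩, hij⟩ := σ.surjective (i', 0)
    refine ⟨i, ?_⟩
    have := ht1 i j
    rw [hij] at this
    exact this.symm
  have hinj : Function.Injective t := Finite.injective_iff_surjective.mpr hsurj
  let τ : Perm (Fin r) := Equiv.ofBijective t ⟨hinj, hsurj⟩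
  refine ⟨τ, fun i j => ht1 i j, ?_⟩
  let u : (ZMod p)ˣ := Units.mk0 m hm
  let f : Fin r → Perm (ZMod p) := fun i =>
    (Equiv.addRight ((σ (i, 0)).2) : Perm (ZMod p)) * Units.mulLeft u
  have hσ : σ = (prodCongrLeft (fun _ : ZMod p => τ)) * (prodCongrRight f) := by
    ext ⟨i, j⟩ : 1
    rw [hform i j]
    simp [Perm.mul_apply, f, u, Units.mulLeft]
    rfl
  rw [hσ, Perm.sign_mul, sign_prodCongrLeft, sign_prodCongrRight]
  have h1 : ∀ i, sign (f i) = sign (Units.mulLeft u : Perm (ZMod p)) := by
    intro i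
    simp only [f, Perm.sign_mul, sign_addRight hp2, one_mul]
  simp only [h1, Finset.prod_const, Finset.card_univ, Fintype.card_fin, ZMod.card]
  rw [units_pow_odd _ hodd]

/-- A fibrewise shift has order dividing `p`. -/
theorem fibre_shift_pow (σ : Perm (Fin r × ZMod p)) (c : Fin r → ZMod p)
    (h : ∀ i j, σ (i, j) = (i, j + c i)) : σ ^ p = 1 := by
  have key : ∀ (n : ℕ) (i : Fin r) (j : ZMod p), (σ ^ n) (i, j) = (i, j + n * c i) := by
    intro n
    induction n with
    | zero => intro i j; simp
    | succ n ih =>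
      intro i j
      rw [pow_succ, Perm.mul_apply, h, ih]
      push_cast
      ext <;> simp
      ring
  ext ⟨i, j⟩ : 1
  rw [key]
  simp

/-- Free action of order `p`: labelling. -/
theorem exists_labeling {Z : Type*} [Finite Z] (f : Perm Z) (hf : f ^ p = 1)
    (hfree : ∀ z, f z ≠ z) (hcard : Nat.card Z = r * p) :
    ∃ E : Fin r × ZMod p ≃ Z, ∀ i j, E (i, j + 1) = f (E (i, j)) := by
  classical
  have hp0 : p ≠ 0 := hp.out.ne_zero
  have hpos : 0 < p := hp.out.pos
  have hfint : Fintype Z := Fintype.ofFinite Z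
  have hfz : Fintype (ZMod p) := ZMod.fintype p
  let g : ZMod p → Perm Z := fun j => f ^ j.val
  have h5 : orderOf f ∣ p := orderOf_dvd_of_pow_eq_one hf
  have g_add : ∀ a b : ZMod p, g (a + b) = g a * g b := by
    intro a b
    simp only [g]
    rw [← pow_add, ZMod.val_add]
    rw [← pow_mod_orderOf f (a.val + b.val), ← pow_mod_orderOf f ((a.val + b.val) % p),
      Nat.mod_mod_of_dvd _ h5]
  have g_natCast : ∀ k : ℕ, f ^ k = g (k : ZMod p) := by
    intro k
    simp only [g]
    rw [ZMod.val_natCast]
    rw [← pow_mod_orderOf f k, ← pow_mod_orderOf f (k % p), Nat.mod_mod_of_dvd _ h5]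
  have g_zero : g 0 = 1 := by simp [g]
  have g_one : g 1 = f := by
    have := g_natCast 1
    simpa using this.symm
  have hfree' : ∀ (j : ZMod p) (z : Z), g j z = z → j = 0 := by
    intro j z hj
    by_contra hne
    have : ∃ t : ZMod p, t * j = 1 := ⟨j⁻¹, inv_mul_cancel₀ hne⟩
    obtain ⟨t, ht⟩ := this
    have hfix : ∀ n : ℕ, (g j ^ n) z = z := by
      intro n
      induction n with
      | zero => simp
      | succ n ih => rw [pow_succ, Perm.mul_apply, hj, ih]
    have h2 : ∀ n : ℕ, g j ^ n = g ((n : ZMod p) * j) := by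
      intro n
      induction n with
      | zero => simp [g_zero]
      | succ n ih =>
        rw [pow_succ, ih, ← g_add]
        congr 1
        push_cast
        ring
    have h3 := hfix t.val
    rw [h2, ZMod.natCast_zmod_val, ht, g_one] at h3
    exact hfree z h3
  let rr : Setoid Z :=
    { r := fun a b => ∃ j : ZMod p, g j a = b
      iseqv :=
        { refl := fun a => ⟨0, by simp [g_zero]⟩
          symm := by
            rintro a b ⟨j, rfl⟩
            refine ⟨-j, ?_⟩
            rw [← Perm.mul_apply, ← g_add]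
            simp [g_zero]
          trans := by
            rintro a b c ⟨j, rfl⟩ ⟨k, rfl⟩
            refine ⟨k + j, ?_⟩
            rw [g_add, Perm.mul_apply] } }
  let Q := Quotient rr
  let Φ : Q × ZMod p → Z := fun q => g q.2 (Quotient.out q.1)
  have hΦinj : Function.Injective Φ := by
    rintro ⟨q, j⟩ ⟨q', j'⟩ h
    simp only [Φ] at h
    have hq : q = q' := by
      have h1 : (Quotient.mk rr (Quotient.out q)) = Quotient.mk rr (g j (Quotient.out q)) :=
        Quotient.sound ⟨j, rfl⟩
      have h2 : (Quotient.mk rr (Quotient.out q')) = Quotient.mk rr (g j' (Quotient.out q')) :=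
        Quotient.sound ⟨j', rfl⟩
      rw [Quotient.out_eq] at h1 h2
      rw [h1, h2, h]
    subst hq
    have h3 : g (j - j') (g j' (Quotient.out q)) = g j' (Quotient.out q) := by
      rw [← Perm.mul_apply, ← g_add, sub_add_cancel, h]
    have h4 := hfree' _ _ h3
    have : j = j' := sub_eq_zero.1 h4
    rw [this]
  have hΦsurj : Function.Surjective Φ := by
    intro z
    have h1 : (Quotient.mk rr (Quotient.out (Quotient.mk rr z))) = Quotient.mk rr z :=
      Quotient.out_eq _
    obtain ⟨j, hj⟩ := Quotient.exact h1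
    exact ⟨(Quotient.mk rr z, j), hj⟩
  let e := Equiv.ofBijective Φ ⟨hΦinj, hΦsurj⟩
  have hQfin : Finite Q := Finite.of_surjective (fun z : Z => Quotient.mk rr z) Quotient.mk_surjective
  have hQ : Nat.card Q = r := by
    have h1 : Nat.card (Q × ZMod p) = r * p := by rw [Nat.card_congr e, hcard]
    rw [Nat.card_prod] at h1
    have h2 : Nat.card (ZMod p) = p := by
      rw [Nat.card_eq_fintype_card, ZMod.card]
    rw [h2] at h1
    exact Nat.eq_of_mul_eq_mul_right hpos h1
  have hQe : Fin r ≃ Q := by
    have : Fintype Q := Fintype.ofFinite Q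
    refine Fintype.equivOfCardEq ?_
    rw [← Nat.card_eq_fintype_card (α := Q), hQ]
    simp
  refine ⟨(Equiv.prodCongr hQe (Equiv.refl _)).trans e, ?_⟩
  intro i j
  change g (j + 1) (Quotient.out (hQe i)) = f (g j (Quotient.out (hQe i)))
  rw [add_comm, g_add, g_one, Perm.mul_apply]

section transport

variable {Z : Type*} (E : Fin r × ZMod p ≃ Z) (f : Perm Z)
  (hE : ∀ i j, E (i, j + 1) = f (E (i, j)))

include hE in
theorem E_add (i : Fin r) (j : ZMod p) (k : ℕ) :
    E (i, j + k) = (f ^ k) (E (i, j)) := by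
  induction k with
  | zero => simp
  | succ k ih =>
    have : j + ((k + 1 : ℕ) : ZMod p) = (j + k) + 1 := by push_cast; ring
    rw [this, hE, ih, pow_succ', Perm.mul_apply]

include hE in
theorem conj_step (g : Perm Z) (m : ZMod p) (hm : g * f * g⁻¹ = f ^ m.val)
    (i : Fin r) (j : ZMod p) :
    (E.symm.permCongr g) (i, j + 1) =
      (((E.symm.permCongr g) (i, j)).1, ((E.symm.permCongr g) (i, j)).2 + m) := by
  apply E.injective
  have h1 : E (((E.symm.permCongr g) (i, j)).1, ((E.symm.permCongr g) (i, j)).2 + m) =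
      (f ^ m.val) (E ((E.symm.permCongr g) (i, j))) := by
    have := E_add E f hE ((E.symm.permCongr g) (i, j)).1 ((E.symm.permCongr g) (i, j)).2 m.val
    rw [ZMod.natCast_zmod_val] at this
    exact this
  rw [h1]
  simp only [Equiv.permCongr_apply, Equiv.symm_symm, Equiv.apply_symm_apply]
  rw [hE, ← hm]
  simp

end transport

/-- The induced permutations of the labels of the orbits form a homomorphism, with the sign
relation. -/
theorem exists_tau_hom (hp2 : p ≠ 2) {Z : Type*} [Fintype Z] [DecidableEq Z]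
    (E : Fin r × ZMod p ≃ Z) (f : Perm Z)
    (hE : ∀ i j, E (i, j + 1) = f (E (i, j))) {S : Type*} [Group S]
    (ρ : S →* Perm Z) (mm : S → ZMod p) (hm0 : ∀ t, mm t ≠ 0)
    (hc : ∀ t, ρ t * f * (ρ t)⁻¹ = f ^ (mm t).val) :
    ∃ ψ : S →* Perm (Fin r), (∀ t i j, (E.symm (ρ t (E (i, j)))).1 = ψ t i) ∧
      ∀ t, sign (ρ t) = sign (ψ t) *
        (sign (Units.mulLeft (Units.mk0 (mm t) (hm0 t)) : Perm (ZMod p))) ^ r := by
  classical
  have h1 : ∀ t, ∃ τ : Perm (Fin r), (∀ i j, ((E.symm.permCongr (ρ t)) (i, j)).1 = τ i) ∧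
      sign (E.symm.permCongr (ρ t)) = sign τ *
        (sign (Units.mulLeft (Units.mk0 (mm t) (hm0 t)) : Perm (ZMod p))) ^ r := fun t =>
    model_sign hp2 _ (mm t) (hm0 t) (fun i j => conj_step E f hE (ρ t) (mm t) (hc t) i j)
  choose τ hτ1 hτ2 using h1
  have hτ1' : ∀ t i j, (E.symm (ρ t (E (i, j)))).1 = τ t i := by
    intro t i j
    have := hτ1 t i j
    simpa [Equiv.permCongr_apply] using this
  let ψ : S →* Perm (Fin r) := MonoidHom.mk' τ (by
    intro t s
    ext i : 1
    rw [Perm.mul_apply, ← hτ1' (t * s) i 0, map_mul, Perm.mul_apply]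
    have h3 := hτ1' s i 0
    have h4 : ρ s (E (i, 0)) = E (τ s i, (E.symm (ρ s (E (i, 0)))).2) := by
      rw [← h3]
      simp
    rw [h4, hτ1' t])
  refine ⟨ψ, hτ1', fun t => ?_⟩
  have := hτ2 t
  rw [sign_permCongr] at this
  exact this

end Cfsg.Agent.H17.Lab2
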