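import Mathlib

/-! # Counting patterns under a multiply transitive action -/

set_option autoImplicit false
set_option linter.unusedSectionVars false
set_option linter.style.haveILetI false
set_option linter.unusedSimpArgs false
set_option linter.unusedVariables false
set_option linter.style.longLine false

namespace Cfsg.Agent.H17.Marg

open Finset MulAction
open scoped Nat

universe u v

theorem choose_step {w r : ℕ} (h : 2 * r + 1 < w) : Nat.choose w r < Nat.choose w (r + 1) := by
  have h1 := Nat.choose_succ_right_eq w r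
  have h2 : 0 < Nat.choose w r := Nat.choose_pos (by omega)
  by_contra hcon
  push Not at hcon
  have h3 : Nat.choose w (r + 1) * (r + 1) ≤ Nat.choose w r * (r + 1) := Nat.mul_le_mul_right _ hcon
  rw [h1] at h3
  have h4 : r + 1 < w - r := by omega
  have h5 : Nat.choose w r * (r + 1) < Nat.choose w r * (w - r) := Nat.mul_lt_mul_of_pos_left h4 h2
  omega

theorem choose_lt_mid {w a c : ℕ} (hac : a < c) (hc : 2 * c ≤ w) : Nat.choose w a < Nat.choose w c := by
  induction c, hac using Nat.le_induction with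
  | base => exact choose_step (by omega)
  | succ c hc' ih => exact (ih (by omega)).trans (choose_step (by omega))

theorem choose_lt {w a b : ℕ} (hab : a < b) (hw : a + b < w) : Nat.choose w a < Nat.choose w b := by
  by_cases h : 2 * b ≤ w
  · exact choose_lt_mid hab h
  · have h1 : Nat.choose w b = Nat.choose w (w - b) := (Nat.choose_symm (by omega)).symm
    rw [h1]
    exact choose_lt_mid (by omega) (by omega)

theorem desc_identity {m d t k w : ℕ} (hk : k ≤ t) (htm : t < m) (htd : t ≤ d) (hmd : m + d = t + 1 + w) :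
    m.descFactorial k * d.descFactorial (t - k) * (w + 1)! = m ! * d ! * Nat.choose (w + 1) (m - k) := by
  have h1 := Nat.factorial_mul_descFactorial (n := m) (k := k) (by omega)
  have h2 := Nat.factorial_mul_descFactorial (n := d) (k := t - k) (by omega)
  have h3 := Nat.choose_mul_factorial_mul_factorial (n := w + 1) (k := m - k) (by omega)
  have e : w + 1 - (m - k) = d - (t - k) := by omega
  rw [e] at h3
  have hpos : 0 < (m - k)! * (d - (t - k))! := Nat.mul_pos (Nat.factorial_pos _) (Nat.factorial_pos _)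
  apply Nat.eq_of_mul_eq_mul_right hpos
  calc m.descFactorial k * d.descFactorial (t - k) * (w + 1)! * ((m - k)! * (d - (t - k))!)
      = ((m - k)! * m.descFactorial k) * ((d - (t - k))! * d.descFactorial (t - k)) * (w + 1)! := by ring
    _ = m ! * d ! * (w + 1)! := by rw [h1, h2]
    _ = m ! * d ! * ((w + 1).choose (m - k) * (m - k)! * (d - (t - k))!) := by rw [h3]
    _ = _ := by ring

section Count

variable {G : Type u} {Ω : Type v} [Group G] [Fintype G] [MulAction G Ω]

variable (G) in
open scoped Classical in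
/-- The number of group elements realising a given pattern. -/
noncomputable def pat (Γ : Set Ω) (I O : Finset Ω) : ℕ :=
  (univ.filter fun g : G => (∀ a ∈ I, g • a ∈ Γ) ∧ ∀ b ∈ O, g • b ∉ Γ).card

open scoped Classical in
theorem pat_zero {Γ : Set Ω} {I O : Finset Ω} (h : ∀ g : G, (∀ a ∈ I, g • a ∈ Γ) → (∀ b ∈ O, g • b ∉ Γ) → False) :
    pat G Γ I O = 0 := by
  unfold pat
  refine Finset.card_eq_zero.2 (Finset.filter_eq_empty_iff.2 ?_)
  rintro g - ⟨h1, h2⟩
  exact h g h1 h2

open scoped Classical in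
theorem pat_one_one (Γ : Set Ω) (a b : Ω) :
    pat G Γ {a} {b} = (univ.filter fun g : G => g • a ∈ Γ ∧ g • b ∉ Γ).card := by
  unfold pat
  congr 1
  ext g
  simp

open scoped Classical in
theorem pat_pair [DecidableEq Ω] (Γ : Set Ω) (a b : Ω) :
    pat G Γ {a, b} ∅ = (univ.filter fun g : G => g • a ∈ Γ ∧ g • b ∈ Γ).card := by
  unfold pat
  congr 1
  ext g
  simp

theorem pat_split [DecidableEq Ω] (Γ : Set Ω) (I O : Finset Ω) (e : Ω) :
    pat G Γ I O = pat G Γ (insert e I) O + pat G Γ I (insert e O) := by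
  classical
  unfold pat
  rw [← Finset.card_filter_add_card_filter_not (s := univ.filter _) (fun g : G => g • e ∈ Γ)]
  congr 1
  · congr 1
    ext g
    simp only [mem_filter, mem_univ, true_and, mem_insert, forall_eq_or_imp]
    tauto
  · congr 1
    ext g
    simp only [mem_filter, mem_univ, true_and, mem_insert, forall_eq_or_imp]
    tauto

theorem orb_count {X : Type*} [Fintype X] [DecidableEq X] [MulAction G X] [IsPretransitive G X] (u : X) (P : Finset X) :
    (univ.filter fun g : G => g • u ∈ P).card * Fintype.card X = Fintype.card G * P.card := by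
  classical
  have hf : ∀ v : X, (univ.filter fun g : G => g • u = v).card = (univ.filter fun g : G => g • u = u).card := by
    intro v
    obtain ⟨g₀, hg₀⟩ := exists_smul_eq G u v
    symm
    refine Finset.card_bij (fun g _ => g₀ * g) ?_ ?_ ?_
    · intro g hg
      simp only [mem_filter, mem_univ, true_and] at hg ⊢
      rw [mul_smul, hg, hg₀]
    · intro a _ b _ h
      exact mul_left_cancel h
    · intro g hg
      simp only [mem_filter, mem_univ, true_and] at hg
      refine ⟨g₀⁻¹ * g, ?_, by group⟩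
      simp only [mem_filter, mem_univ, true_and]
      rw [mul_smul, hg, ← hg₀, inv_smul_smul]
  have h1 : Fintype.card G = Fintype.card X * (univ.filter fun g : G => g • u = u).card := by
    have := Finset.card_eq_sum_card_fiberwise (f := fun g : G => g • u) (s := univ) (t := univ) (fun _ _ => mem_univ _)
    rw [Finset.card_univ] at this
    rw [this]
    rw [Finset.sum_congr rfl (fun v _ => hf v), Finset.sum_const, Finset.card_univ, smul_eq_mul]
  have h2 : (univ.filter fun g : G => g • u ∈ P).card = P.card * (univ.filter fun g : G => g • u = u).card := by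
    have := Finset.card_eq_sum_card_fiberwise (f := fun g : G => g • u) (s := univ.filter fun g : G => g • u ∈ P) (t := P)
      (fun g hg => (mem_filter.1 hg).2)
    rw [this, Finset.sum_congr rfl (g := fun _ => (univ.filter fun g : G => g • u = u).card), Finset.sum_const, smul_eq_mul]
    intro v hv
    rw [← hf v]
    congr 1
    ext g
    simp only [mem_filter, mem_univ, true_and]
    constructor
    · exact fun h => h.2
    · intro h
      exact ⟨h ▸ hv, h⟩
  rw [h1, h2]
  ring

omit [Fintype G] in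
theorem preT {J : Type*} [Fintype J] {t : ℕ} (hJ : Fintype.card J = t) [IsMultiplyPretransitive G Ω t] :
    IsPretransitive G (J ↪ Ω) := by
  obtain e : J ≃ Fin t := Fintype.equivFinOfCardEq hJ
  constructor
  intro x y
  obtain ⟨g, hg⟩ := exists_smul_eq G (e.symm.toEmbedding.trans x) (e.symm.toEmbedding.trans y)
  refine ⟨g, ?_⟩
  ext j
  have := DFunLike.congr_fun hg (e j)
  simpa using this

omit [Group G] [Fintype G] [MulAction G Ω] in
open scoped Classical in
theorem card_patSet [Fintype Ω] (Γ : Set Ω) (I O : Finset Ω) :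
    (univ.filter fun v : (↥I ⊕ ↥O) ↪ Ω => (∀ a, v (Sum.inl a) ∈ Γ) ∧ ∀ b, v (Sum.inr b) ∉ Γ).card =
      Γ.ncard.descFactorial I.card * Γᶜ.ncard.descFactorial O.card := by
  classical
  have h1 : Fintype.card ↥Γ = Γ.ncard := by
    rw [← Nat.card_eq_fintype_card, Nat.card_coe_set_eq]
  have h2 : Fintype.card ↥Γᶜ = Γᶜ.ncard := by
    rw [← Nat.card_eq_fintype_card, Nat.card_coe_set_eq]
  rw [← Fintype.card_subtype]
  rw [← h1, ← h2, ← Fintype.card_coe I, ← Fintype.card_coe O, ← Fintype.card_embedding_eq, ← Fintype.card_embedding_eq,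
    ← Fintype.card_prod]
  refine Fintype.card_congr ?_
  refine ⟨fun v => (⟨fun a => ⟨v.1 (Sum.inl a), v.2.1 a⟩, ?_⟩, ⟨fun b => ⟨v.1 (Sum.inr b), v.2.2 b⟩, ?_⟩),
    fun p => ⟨⟨Sum.elim (fun a => (p.1 a : Ω)) (fun b => (p.2 b : Ω)), ?_⟩, ?_, ?_⟩, ?_, ?_⟩
  · intro a b h
    have h3 := congrArg Subtype.val h
    simpa using v.1.injective h3
  · intro a b h
    have h3 := congrArg Subtype.val h
    simpa using v.1.injective h3
  · rintro (a | a) (b | b) h
    · simp only [Sum.elim_inl] at h
      rw [p.1.injective (Subtype.ext h)]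
    · simp only [Sum.elim_inl, Sum.elim_inr] at h
      exact absurd ((p.1 a).2) (by rw [h]; exact (p.2 b).2)
    · simp only [Sum.elim_inl, Sum.elim_inr] at h
      exact absurd ((p.1 b).2) (by rw [← h]; exact (p.2 a).2)
    · simp only [Sum.elim_inr] at h
      rw [p.2.injective (Subtype.ext h)]
  · intro a
    exact (p.1 a).2
  · intro b
    exact (p.2 b).2
  · intro v
    apply Subtype.ext
    ext (a | b) <;> rfl
  · intro p
    rfl

theorem pat_eq [Fintype Ω] {t : ℕ} [IsMultiplyPretransitive G Ω t] (Γ : Set Ω) (I O : Finset Ω)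
    (hd : Disjoint I O) (ht : I.card + O.card = t) :
    pat G Γ I O * (Fintype.card Ω).descFactorial t =
      Fintype.card G * (Γ.ncard.descFactorial I.card * Γᶜ.ncard.descFactorial O.card) := by
  classical
  have hJ : Fintype.card (↥I ⊕ ↥O) = t := by
    rw [Fintype.card_sum, Fintype.card_coe, Fintype.card_coe, ht]
  haveI := preT (G := G) (Ω := Ω) hJ
  let u : (↥I ⊕ ↥O) ↪ Ω := ⟨Sum.elim (fun a => (a : Ω)) (fun b => (b : Ω)), by
    rintro (a | a) (b | b) h
    · simp only [Sum.elim_inl] at h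
      rw [Subtype.ext h]
    · simp only [Sum.elim_inl, Sum.elim_inr] at h
      exact absurd (h ▸ a.2) (Finset.disjoint_right.1 hd b.2)
    · simp only [Sum.elim_inl, Sum.elim_inr] at h
      exact absurd (h ▸ b.2) (Finset.disjoint_right.1 hd a.2)
    · simp only [Sum.elim_inr] at h
      rw [Subtype.ext h]⟩
  have h1 := orb_count (G := G) u (univ.filter fun v : (↥I ⊕ ↥O) ↪ Ω => (∀ a, v (Sum.inl a) ∈ Γ) ∧ ∀ b, v (Sum.inr b) ∉ Γ)
  have h3 : (univ.filter fun v : (↥I ⊕ ↥O) ↪ Ω => (∀ a, v (Sum.inl a) ∈ Γ) ∧ ∀ b, v (Sum.inr b) ∉ Γ).card =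
      Γ.ncard.descFactorial I.card * Γᶜ.ncard.descFactorial O.card := by
    convert card_patSet Γ I O
  rw [h3, Fintype.card_embedding_eq, hJ] at h1
  rw [← h1]
  congr 1
  unfold pat
  congr 1
  ext g
  simp only [mem_filter, mem_univ, true_and]
  constructor
  · rintro ⟨h5, h6⟩
    exact ⟨fun a => h5 a a.2, fun b => h6 b b.2⟩
  · rintro ⟨h5, h6⟩
    exact ⟨fun a ha => h5 ⟨a, ha⟩, fun b hb => h6 ⟨b, hb⟩⟩

/-- The alternating chain of pattern counts. -/
theorem chain [Fintype Ω] [DecidableEq Ω] {t : ℕ} [IsMultiplyPretransitive G Ω t] (Γ : Set Ω) {w : ℕ}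
    (hmd : Γ.ncard + Γᶜ.ncard = t + 1 + w) (htm : t < Γ.ncard) (htd : t ≤ Γᶜ.ncard)
    {X P₀ : Finset Ω} (hX : X.card = t + 1) (hP₀ : P₀ ⊆ X) (h0 : pat G Γ P₀ (X \ P₀) = 0) :
    ∀ (j : ℕ) (I : Finset Ω), P₀ ⊆ I → I ⊆ X → I.card = P₀.card + j →
      (pat G Γ I (X \ I) : ℤ) * (((Fintype.card Ω).descFactorial t * (w + 1)! : ℕ) : ℤ) =
        ((Fintype.card G * (Γ.ncard ! * Γᶜ.ncard !) : ℕ) : ℤ) *
          ((Nat.choose w (Γ.ncard - P₀.card - j) : ℤ) - (-1) ^ j * (Nat.choose w (Γ.ncard - P₀.card) : ℤ)) := by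
  intro j
  induction j with
  | zero =>
    intro I h1 h2 h3
    have : I = P₀ := (Finset.eq_of_subset_of_card_le h1 (by omega)).symm
    subst this
    rw [h0]
    simp
  | succ j ih =>
    intro I h1 h2 h3
    obtain ⟨e, he⟩ : (I \ P₀).Nonempty := by
      rw [← Finset.card_pos, Finset.card_sdiff_of_subset h1]
      omega
    obtain ⟨heI, heP⟩ := Finset.mem_sdiff.1 he
    set I' := I.erase e with hI'
    have hI'1 : P₀ ⊆ I' := fun a ha => Finset.mem_erase.2 ⟨fun h => heP (h ▸ ha), h1 ha⟩
    have hI'2 : I' ⊆ X := (Finset.erase_subset _ _).trans h2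
    have hI'3 : I'.card = P₀.card + j := by
      rw [hI', Finset.card_erase_of_mem heI]
      omega
    have hi := ih I' hI'1 hI'2 hI'3
    have heX := h2 heI
    set O := X \ I with hO
    have hsplit := pat_split (G := G) Γ I' O e
    have e1 : insert e I' = I := Finset.insert_erase heI
    have e2 : insert e O = X \ I' := by
      ext a
      simp only [hO, hI', mem_insert, mem_sdiff, mem_erase, not_and]
      constructor
      · rintro (rfl | ⟨h5, h6⟩)
        · exact ⟨heX, fun h => absurd rfl h⟩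
        · exact ⟨h5, fun _ => h6⟩
      · rintro ⟨h5, h6⟩
        by_cases h7 : a = e
        · exact Or.inl h7
        · exact Or.inr ⟨h5, h6 h7⟩
    rw [e1, e2] at hsplit
    have hdis : Disjoint I' O := by
      rw [Finset.disjoint_left]
      intro a ha hb
      exact (Finset.mem_sdiff.1 hb).2 (Finset.mem_of_mem_erase ha)
    have hOc : O.card = t + 1 - I.card := by
      rw [hO, Finset.card_sdiff_of_subset h2, hX]
    have hIle : I.card ≤ t + 1 := by
      rw [← hX]
      exact Finset.card_le_card h2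
    have hIm : I'.card ≤ t := by omega
    have hsum : I'.card + O.card = t := by omega
    have hp := pat_eq (G := G) (t := t) Γ I' O hdis hsum
    have hOt : O.card = t - I'.card := by omega
    have hid := desc_identity (m := Γ.ncard) (d := Γᶜ.ncard) (t := t) (k := I'.card) (w := w) hIm htm htd hmd
    rw [← hOt] at hid
    have hP1 : pat G Γ I' O * ((Fintype.card Ω).descFactorial t * (w + 1)!) =
        (Fintype.card G * (Γ.ncard ! * Γᶜ.ncard !)) * Nat.choose (w + 1) (Γ.ncard - I'.card) := by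
      calc pat G Γ I' O * ((Fintype.card Ω).descFactorial t * (w + 1)!)
          = (pat G Γ I' O * (Fintype.card Ω).descFactorial t) * (w + 1)! := by ring
        _ = Fintype.card G * (Γ.ncard.descFactorial I'.card * Γᶜ.ncard.descFactorial O.card * (w + 1)!) := by
            rw [hp]; ring
        _ = _ := by rw [hid]; ring
    have hc : Nat.choose (w + 1) (Γ.ncard - I'.card) =
        Nat.choose w (Γ.ncard - I'.card) + Nat.choose w (Γ.ncard - I'.card - 1) := by
      obtain ⟨r, hr⟩ : ∃ r, Γ.ncard - I'.card = r + 1 := ⟨Γ.ncard - I'.card - 1, by omega⟩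
      rw [hr, Nat.choose_succ_succ]
      simp only [Nat.add_sub_cancel]
      ring
    rw [hc] at hP1
    have e3 : Γ.ncard - I'.card = Γ.ncard - P₀.card - j := by omega
    have e4 : Γ.ncard - I'.card - 1 = Γ.ncard - P₀.card - (j + 1) := by omega
    rw [e4, e3] at hP1
    set A : ℤ := ((Fintype.card G * (Γ.ncard ! * Γᶜ.ncard !) : ℕ) : ℤ) with hA
    set B : ℤ := (((Fintype.card Ω).descFactorial t * (w + 1)! : ℕ) : ℤ) with hB
    have hP2 : (pat G Γ I' O : ℤ) * B = A * ((Nat.choose w (Γ.ncard - P₀.card - j) : ℤ) + Nat.choose w (Γ.ncard - P₀.card - (j + 1))) := by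
      rw [hA, hB]
      exact_mod_cast hP1
    have hsplit' : (pat G Γ I' O : ℤ) = pat G Γ I O + pat G Γ I' (X \ I') := by
      exact_mod_cast hsplit
    rw [hsplit', add_mul, hi] at hP2
    have : (pat G Γ I O : ℤ) * B = A * ((Nat.choose w (Γ.ncard - P₀.card - (j + 1)) : ℤ) -
        (-1) ^ (j + 1) * (Nat.choose w (Γ.ncard - P₀.card) : ℤ)) := by
      rw [pow_succ]
      linear_combination hP2
    exact this

/-- A vanishing pattern is impossible when the complement is larger. -/
theorem no_pattern [Fintype Ω] [DecidableEq Ω] {t : ℕ} [IsMultiplyPretransitive G Ω t] (Γ : Set Ω)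
    (htm : t < Γ.ncard) (hd : Γ.ncard < Γᶜ.ncard) (hn : Γ.ncard + Γᶜ.ncard = Fintype.card Ω)
    {X P₀ : Finset Ω} (hX : X.card = t + 1) (hP₀ : P₀ ⊆ X) (h0 : pat G Γ P₀ (X \ P₀) = 0)
    (hp : 1 ≤ P₀.card) {k : ℕ} (hk1 : t ≤ k) (hk2 : k ≤ t + 1) (hk3 : P₀.card + 2 ≤ k) (hk4 : Even (k - P₀.card)) : False := by
  classical
  obtain ⟨w, hw⟩ : ∃ w, Γ.ncard + Γᶜ.ncard = t + 1 + w := ⟨Γ.ncard + Γᶜ.ncard - (t + 1), by omega⟩
  obtain ⟨I, h1, h2, h3⟩ := Finset.exists_subsuperset_card_eq hP₀ (by omega : P₀.card ≤ k) (by omega : k ≤ X.card)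
  have hc := chain (G := G) (t := t) Γ hw htm (by omega) hX hP₀ h0 (k - P₀.card) I h1 h2 (by omega)
  rw [hk4.neg_one_pow, one_mul] at hc
  have e : Γ.ncard - P₀.card - (k - P₀.card) = Γ.ncard - k := by omega
  rw [e] at hc
  have hlt := choose_lt (w := w) (a := Γ.ncard - k) (b := Γ.ncard - P₀.card) (by omega) (by omega)
  have hB : (0 : ℤ) < (((Fintype.card Ω).descFactorial t * (w + 1)! : ℕ) : ℤ) := by
    have h4 : 0 < (Fintype.card Ω).descFactorial t := Nat.descFactorial_pos.2 (by omega)
    exact_mod_cast Nat.mul_pos h4 (Nat.factorial_pos _)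
  have hA : (0 : ℤ) < ((Fintype.card G * (Γ.ncard ! * Γᶜ.ncard !) : ℕ) : ℤ) := by
    have h4 : 0 < Fintype.card G := Fintype.card_pos
    exact_mod_cast Nat.mul_pos h4 (Nat.mul_pos (Nat.factorial_pos _) (Nat.factorial_pos _))
  have h5 : (0 : ℤ) ≤ (pat G Γ I (X \ I) : ℤ) * (((Fintype.card Ω).descFactorial t * (w + 1)! : ℕ) : ℤ) :=
    mul_nonneg (by positivity) hB.le
  rw [hc] at h5
  have h6 : ((Nat.choose w (Γ.ncard - k) : ℤ) - (Nat.choose w (Γ.ncard - P₀.card) : ℤ)) < 0 := by
    have : ((Nat.choose w (Γ.ncard - k) : ℕ) : ℤ) < (Nat.choose w (Γ.ncard - P₀.card) : ℕ) := by exact_mod_cast hlt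
    omega
  have h7 := mul_neg_of_pos_of_neg hA h6
  omega

end Count

end Cfsg.Agent.H17.Marg
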