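import Cfsg.Agent.Lib.H17.Mg1

/-! # Jordan sets: vanishing patterns from blocks of a fixator -/

set_option autoImplicit false
set_option linter.unusedSectionVars false
set_option linter.style.haveILetI false
set_option linter.unusedSimpArgs false
set_option linter.unusedVariables false
set_option linter.style.longLine false

namespace Cfsg.Agent.H17.Marg

open Finset MulAction
open scoped Nat

universe u v

section Block

variable {G : Type u} {Ω : Type v} [Group G] [MulAction G Ω]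

variable (G) in
/-- The Jordan condition on a set. -/
def Jor (Γ : Set Ω) : Prop :=
  ∀ a ∈ Γ, ∀ b ∈ Γ, ∃ h : G, (∀ u, u ∉ Γ → h • u = u) ∧ h • a = b

variable (G) in
/-- `B` is a block for the fixator of `S`. -/
def IsBk (S B : Finset Ω) : Prop :=
  ∀ h : G, (∀ s ∈ S, h • s = s) → ∀ u ∈ B, h • u ∈ B → ∀ v ∈ B, h • v ∈ B

theorem K0 {Γ : Set Ω} (hJ : Jor G Γ) {S B : Finset Ω} (hB : IsBk G S B) (g : G) (hS : ∀ s ∈ S, g • s ∉ Γ)
    {x δ : Ω} (hx : x ∈ B) (hgx : g • x ∈ Γ) (hδ : δ ∈ B) (hgδ : g • δ ∉ Γ) :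
    ∀ a ∈ Γ, ∃ v ∈ B, g • v = a := by
  intro a ha
  obtain ⟨h, h1, h2⟩ := hJ _ hgx a ha
  have hfix : ∀ s ∈ S, (g⁻¹ * h * g) • s = s := by
    intro s hs
    rw [mul_smul, mul_smul, h1 _ (hS s hs), inv_smul_smul]
  have hδ' : (g⁻¹ * h * g) • δ = δ := by
    rw [mul_smul, mul_smul, h1 _ hgδ, inv_smul_smul]
  have h3 := hB _ hfix δ hδ (by rw [hδ']; exact hδ) x hx
  refine ⟨_, h3, ?_⟩
  rw [mul_smul, mul_smul, smul_inv_smul, h2]

variable [Fintype Ω] [DecidableEq Ω]

theorem K1 {Γ : Set Ω} (hJ : Jor G Γ) {S B : Finset Ω} (hB : IsBk G S B) (g : G) (hS : ∀ s ∈ S, g • s ∉ Γ)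
    {x : Ω} (hx : x ∈ B) (hgx : g • x ∈ Γ) (hcard : B.card ≤ Γ.ncard) : ∀ y ∈ B, g • y ∈ Γ := by
  classical
  intro y hy
  by_contra hgy
  have h1 := K0 hJ hB g hS hx hgx hy hgy
  have h2 : insert (g • y) (Set.toFinset Γ) ⊆ B.image (fun v => g • v) := by
    intro a ha
    rcases Finset.mem_insert.1 ha with rfl | ha
    · exact Finset.mem_image_of_mem _ hy
    · obtain ⟨v, hv, hva⟩ := h1 a (Set.mem_toFinset.1 ha)
      exact Finset.mem_image.2 ⟨v, hv, hva⟩
  have h3 := Finset.card_le_card h2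
  rw [Finset.card_insert_of_notMem (by rwa [Set.mem_toFinset]), ← Set.ncard_eq_toFinset_card'] at h3
  have h4 := Finset.card_image_le (s := B) (f := fun v => g • v)
  omega

theorem K2 {Γ : Set Ω} (hJ : Jor G Γ) {S B : Finset Ω} (hB : IsBk G S B) (g : G) (hS : ∀ s ∈ S, g • s ∉ Γ)
    {x : Ω} (hx : x ∈ B) (hgx : g • x ∈ Γ) (hcard : Γ.ncard < B.card) : ∀ a ∈ Γ, ∃ v ∈ B, g • v = a := by
  classical
  obtain ⟨δ, hδ, hgδ⟩ : ∃ δ ∈ B, g • δ ∉ Γ := by
    by_contra hcon
    push Not at hcon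
    have h2 : B.image (fun v => g • v) ⊆ Set.toFinset Γ := by
      intro a ha
      obtain ⟨v, hv, rfl⟩ := Finset.mem_image.1 ha
      exact Set.mem_toFinset.2 (hcon v hv)
    have h3 := Finset.card_le_card h2
    rw [Finset.card_image_of_injective _ (MulAction.injective g), ← Set.ncard_eq_toFinset_card'] at h3
    omega
  exact K0 hJ hB g hS hx hgx hδ hgδ

variable [Fintype G]

theorem no_block_small {Γ : Set Ω} (hJ : Jor G Γ) {t : ℕ} [IsMultiplyPretransitive G Ω t] (ht2 : 2 ≤ t)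
    (htm : t < Γ.ncard) (hd : Γ.ncard < Γᶜ.ncard) {S B : Finset Ω} (hSc : S.card + 1 = t) (hSB : Disjoint S B)
    (hB : IsBk G S B) (hB2 : 2 ≤ B.card) (hcard : B.card ≤ Γ.ncard) : False := by
  classical
  obtain ⟨x₀, hx₀, y₀, hy₀, hne⟩ := Finset.one_lt_card.1 (by omega : 1 < B.card)
  have hx₀S : x₀ ∉ S := Finset.disjoint_right.1 hSB hx₀
  have hy₀S : y₀ ∉ S := Finset.disjoint_right.1 hSB hy₀
  have hn : Γ.ncard + Γᶜ.ncard = Fintype.card Ω := by
    rw [Set.ncard_add_ncard_compl, Nat.card_eq_fintype_card]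
  set X := insert x₀ (insert y₀ S) with hX
  have hXc : X.card = t + 1 := by
    rw [hX, Finset.card_insert_of_notMem (by simp [hne, hx₀S]), Finset.card_insert_of_notMem hy₀S]
    omega
  have hP : ({x₀} : Finset Ω) ⊆ X := by simp [hX]
  have hXd : ∀ b ∈ X \ {x₀}, b = y₀ ∨ b ∈ S := by
    intro b hb
    have h1 := Finset.mem_sdiff.1 hb
    have h2 := h1.1
    simp only [hX, Finset.mem_insert, Finset.mem_singleton] at h1 h2
    tauto
  have h0 : pat G Γ {x₀} (X \ {x₀}) = 0 := by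
    refine pat_zero fun g h1 h2 => ?_
    have h3 : g • x₀ ∈ Γ := h1 x₀ (by simp)
    have h4 : ∀ s ∈ S, g • s ∉ Γ := by
      intro s hs
      refine h2 s (Finset.mem_sdiff.2 ⟨by simp [hX, hs], ?_⟩)
      simp only [Finset.mem_singleton]
      rintro rfl
      exact hx₀S hs
    have h5 := K1 hJ hB g h4 hx₀ h3 hcard y₀ hy₀
    refine h2 y₀ (Finset.mem_sdiff.2 ⟨by simp [hX], ?_⟩) h5
    simpa using hne.symm
  rcases Nat.even_or_odd t with he | ho
  · refine no_pattern (G := G) (t := t) Γ htm hd hn hXc hP h0 (by simp) (k := t + 1) (by omega) le_rfl ?_ ?_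
    · rw [Finset.card_singleton]
      omega
    · rw [Finset.card_singleton, Nat.add_sub_cancel]
      exact he
  · refine no_pattern (G := G) (t := t) Γ htm hd hn hXc hP h0 (by simp) (k := t) le_rfl (by omega) ?_ ?_
    · rw [Finset.card_singleton]
      obtain ⟨r, hr⟩ := ho
      omega
    · rw [Finset.card_singleton]
      obtain ⟨r, hr⟩ := ho
      exact ⟨r, by omega⟩

theorem no_block_big3 {Γ : Set Ω} (hJ : Jor G Γ) {t : ℕ} [IsMultiplyPretransitive G Ω t] (ht3 : 3 ≤ t)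
    (htm : t < Γ.ncard) (hd : Γ.ncard < Γᶜ.ncard) {S B : Finset Ω} (hSc : S.card + 1 = t) (hSB : Disjoint S B)
    (hB : IsBk G S B) (hB2 : 2 ≤ B.card) (hcard : Γ.ncard < B.card) {w₀ : Ω} (hw₁ : w₀ ∉ B) (hw₂ : w₀ ∉ S) : False := by
  classical
  obtain ⟨x₀, hx₀⟩ : B.Nonempty := Finset.card_pos.1 (by omega)
  have hx₀S : x₀ ∉ S := Finset.disjoint_right.1 hSB hx₀
  have hne : x₀ ≠ w₀ := by
    rintro rfl
    exact hw₁ hx₀
  have hn : Γ.ncard + Γᶜ.ncard = Fintype.card Ω := by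
    rw [Set.ncard_add_ncard_compl, Nat.card_eq_fintype_card]
  set X := insert x₀ (insert w₀ S) with hX
  have hXc : X.card = t + 1 := by
    rw [hX, Finset.card_insert_of_notMem (by simp [hne, hx₀S]), Finset.card_insert_of_notMem hw₂]
    omega
  have hP : ({x₀, w₀} : Finset Ω) ⊆ X := by
    intro a ha
    simp only [Finset.mem_insert, Finset.mem_singleton] at ha
    simp only [hX, Finset.mem_insert]
    tauto
  have hPc : ({x₀, w₀} : Finset Ω).card = 2 := Finset.card_pair hne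
  have h0 : pat G Γ {x₀, w₀} (X \ {x₀, w₀}) = 0 := by
    refine pat_zero fun g h1 h2 => ?_
    have h3 : g • x₀ ∈ Γ := h1 x₀ (by simp)
    have h3' : g • w₀ ∈ Γ := h1 w₀ (by simp)
    have h4 : ∀ s ∈ S, g • s ∉ Γ := by
      intro s hs
      refine h2 s (Finset.mem_sdiff.2 ⟨by simp [hX, hs], ?_⟩)
      simp only [Finset.mem_insert, Finset.mem_singleton]
      rintro (rfl | rfl)
      · exact hx₀S hs
      · exact hw₂ hs
    obtain ⟨v, hv, hvw⟩ := K2 hJ hB g h4 hx₀ h3 hcard _ h3'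
    have : v = w₀ := MulAction.injective g hvw
    exact hw₁ (this ▸ hv)
  rcases Nat.even_or_odd t with he | ho
  · refine no_pattern (G := G) (t := t) Γ htm hd hn hXc hP h0 (by rw [hPc]; omega) (k := t) le_rfl (by omega) ?_ ?_
    · rw [hPc]
      obtain ⟨r, hr⟩ := he
      omega
    · rw [hPc]
      obtain ⟨r, hr⟩ := he
      exact ⟨r - 1, by omega⟩
  · refine no_pattern (G := G) (t := t) Γ htm hd hn hXc hP h0 (by rw [hPc]; omega) (k := t + 1) (by omega) le_rfl ?_ ?_
    · rw [hPc]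
      omega
    · rw [hPc]
      obtain ⟨r, hr⟩ := ho
      exact ⟨r, by omega⟩

/-- Room for two disjoint translates. -/
theorem two_blocks_le {t : ℕ} [IsMultiplyPretransitive G Ω 2] {z₀ x₀ w₀ : Ω} {B : Finset Ω} (hBk : IsBk G {z₀} B)
    (hz : z₀ ∉ B) (hx₀ : x₀ ∈ B) (hw₁ : w₀ ∉ B) (hw₂ : w₀ ≠ z₀) : 2 * B.card + 1 ≤ Fintype.card Ω := by
  classical
  have hxz : z₀ ≠ x₀ := by
    rintro rfl
    exact hz hx₀
  obtain ⟨h, h1, h2⟩ := is_two_pretransitive_iff.1 (inferInstance : IsMultiplyPretransitive G Ω 2) hxz hw₂.symm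
  have hfix : ∀ s ∈ ({z₀} : Finset Ω), h • s = s := by
    intro s hs
    rw [Finset.mem_singleton.1 hs, h1]
  have hdisj : Disjoint B (B.image fun v => h • v) := by
    rw [Finset.disjoint_right]
    intro a ha haB
    obtain ⟨u, hu, rfl⟩ := Finset.mem_image.1 ha
    have h3 := hBk h hfix u hu haB x₀ hx₀
    rw [h2] at h3
    exact hw₁ h3
  have hsub : B ∪ (B.image fun v => h • v) ⊆ Finset.univ.erase z₀ := by
    intro a ha
    rw [Finset.mem_erase]
    refine ⟨?_, Finset.mem_univ _⟩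
    rintro rfl
    rcases Finset.mem_union.1 ha with h3 | h3
    · exact hz h3
    · obtain ⟨u, hu, hua⟩ := Finset.mem_image.1 h3
      rw [← h1] at hua
      have := MulAction.injective h hua
      exact hz (this ▸ hu)
  have h4 := Finset.card_le_card hsub
  rw [Finset.card_union_of_disjoint hdisj, Finset.card_image_of_injective _ (MulAction.injective h),
    Finset.card_erase_of_mem (Finset.mem_univ _), Finset.card_univ] at h4
  have h5 : 0 < Fintype.card Ω := Fintype.card_pos_iff.2 ⟨z₀⟩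
  omega

theorem no_block_big2 {Γ : Set Ω} (hJ : Jor G Γ) [IsMultiplyPretransitive G Ω 2]
    (h2m : 2 ≤ Γ.ncard) (hd : Γ.ncard < Γᶜ.ncard) {z₀ : Ω} {B : Finset Ω} (hz : z₀ ∉ B)
    (hB : IsBk G {z₀} B) (hcard : Γ.ncard < B.card) {w₀ : Ω} (hw₁ : w₀ ∉ B) (hw₂ : w₀ ≠ z₀) : False := by
  classical
  obtain ⟨x₀, hx₀⟩ : B.Nonempty := Finset.card_pos.1 (by omega)
  have hxz : x₀ ≠ z₀ := by
    rintro rfl
    exact hz hx₀
  set m := Γ.ncard with hm
  set d := Γᶜ.ncard with hdd
  have hn : m + d = Fintype.card Ω := by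
    rw [hm, hdd, Set.ncard_add_ncard_compl, Nat.card_eq_fintype_card]
  have h2b := two_blocks_le (t := 2) (G := G) hB hz hx₀ hw₁ hw₂
  set n := Fintype.card Ω with hnn
  have hK : ∀ g : G, g • x₀ ∈ Γ → g • z₀ ∉ Γ → ∀ a ∈ Γ, ∃ v ∈ B, g • v = a := by
    intro g h1 h2
    refine K2 hJ hB g ?_ hx₀ h1 hcard
    intro s hs
    rw [Finset.mem_singleton.1 hs]
    exact h2
  -- the first count
  have hE := pat_eq (G := G) (t := 2) Γ {x₀} {z₀} (by simpa using hxz) (by simp)
  rw [pat_one_one] at hE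
  set E : Finset G := univ.filter fun g : G => g • x₀ ∈ Γ ∧ g • z₀ ∉ Γ with hEd
  have hfib : ∀ g ∈ E, ((B.erase x₀).filter fun y => g • y ∈ Γ).card = m - 1 := by
    intro g hg
    obtain ⟨h1, h2⟩ := (Finset.mem_filter.1 hg).2
    have hset : ((B.erase x₀).filter fun y => g • y ∈ Γ).image (fun y => g • y) = (Set.toFinset Γ).erase (g • x₀) := by
      ext a
      simp only [Finset.mem_image, Finset.mem_filter, Finset.mem_erase, Set.mem_toFinset]
      constructor
      · rintro ⟨y, ⟨⟨hy1, hy2⟩, hy3⟩, rfl⟩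
        exact ⟨fun h => hy1 (MulAction.injective g h), hy3⟩
      · rintro ⟨ha1, ha2⟩
        obtain ⟨v, hv, hva⟩ := hK g h1 h2 a ha2
        refine ⟨v, ⟨⟨?_, hv⟩, hva ▸ ha2⟩, hva⟩
        rintro rfl
        exact ha1 hva.symm
    have h3 := congrArg Finset.card hset
    rw [Finset.card_image_of_injective _ (MulAction.injective g),
      Finset.card_erase_of_mem (Set.mem_toFinset.2 h1), ← Set.ncard_eq_toFinset_card'] at h3
    exact h3
  have hbip := Finset.sum_card_bipartiteAbove_eq_sum_card_bipartiteBelow (s := E) (t := B.erase x₀)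
    (fun (g : G) (y : Ω) => g • y ∈ Γ)
  unfold Finset.bipartiteAbove Finset.bipartiteBelow at hbip
  rw [Finset.sum_congr rfl hfib, Finset.sum_const, smul_eq_mul] at hbip
  -- the second count
  have hup : ∀ y ∈ B.erase x₀, (E.filter fun g => g • y ∈ Γ).card * n.descFactorial 2 ≤
      Fintype.card G * (m * (m - 1)) := by
    intro y hy
    have hne : x₀ ≠ y := (Finset.ne_of_mem_erase hy).symm
    have h5 := pat_eq (G := G) (t := 2) Γ {x₀, y} ∅ (by simp) (by simp [Finset.card_pair hne])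
    rw [pat_pair, Finset.card_pair hne, Finset.card_empty, Nat.descFactorial_zero, mul_one] at h5
    have h6 : Γ.ncard.descFactorial 2 = m * (m - 1) := by
      rw [← hm, Nat.descFactorial_succ, Nat.descFactorial_one]
      ring
    rw [h6] at h5
    rw [← h5]
    refine Nat.mul_le_mul_right _ (Finset.card_le_card ?_)
    intro g hg
    obtain ⟨h7, h8⟩ := Finset.mem_filter.1 hg
    obtain ⟨h9, h10⟩ := (Finset.mem_filter.1 h7).2
    exact Finset.mem_filter.2 ⟨Finset.mem_univ _, h9, h8⟩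
  have hsum : (∑ y ∈ B.erase x₀, (E.filter fun g => g • y ∈ Γ).card) * n.descFactorial 2 ≤
      (B.erase x₀).card * (Fintype.card G * (m * (m - 1))) := by
    rw [Finset.sum_mul, ← smul_eq_mul]
    exact Finset.sum_le_card_nsmul _ _ _ hup
  rw [← hbip] at hsum
  rw [Finset.card_erase_of_mem hx₀] at hsum
  rw [Finset.card_singleton, Finset.card_singleton, Nat.descFactorial_one, Nat.descFactorial_one, ← hm, ← hdd] at hE
  have hkey : Fintype.card G * (m * d) * (m - 1) ≤ (B.card - 1) * (Fintype.card G * (m * (m - 1))) := by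
    calc Fintype.card G * (m * d) * (m - 1) = (E.card * n.descFactorial 2) * (m - 1) := by rw [hE]
      _ = E.card * (m - 1) * n.descFactorial 2 := by ring
      _ ≤ _ := hsum
  have hpos : 0 < Fintype.card G * (m * (m - 1)) := by
    have h7 : 0 < Fintype.card G := Fintype.card_pos
    have h8 : 0 < m := by omega
    have h9 : 0 < m - 1 := by omega
    positivity
  have hdb : d ≤ B.card - 1 := by
    refine Nat.le_of_mul_le_mul_right ?_ hpos
    calc d * (Fintype.card G * (m * (m - 1))) = Fintype.card G * (m * d) * (m - 1) := by ring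
      _ ≤ _ := hkey
  omega

theorem no_block {Γ : Set Ω} (hJ : Jor G Γ) {t : ℕ} [IsMultiplyPretransitive G Ω t] (ht2 : 2 ≤ t)
    (htm : t < Γ.ncard) (hd : Γ.ncard < Γᶜ.ncard) {S B : Finset Ω} (hSc : S.card + 1 = t) (hSB : Disjoint S B)
    (hB : IsBk G S B) (hB2 : 2 ≤ B.card) {w₀ : Ω} (hw₁ : w₀ ∉ B) (hw₂ : w₀ ∉ S) : False := by
  by_cases hc : B.card ≤ Γ.ncard
  · exact no_block_small hJ ht2 htm hd hSc hSB hB hB2 hc
  by_cases ht3 : 3 ≤ t
  · exact no_block_big3 hJ ht3 htm hd hSc hSB hB hB2 (by omega) hw₁ hw₂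
  obtain rfl : t = 2 := by omega
  obtain ⟨z₀, rfl⟩ := Finset.card_eq_one.1 (by omega : S.card = 1)
  refine no_block_big2 hJ (by omega) hd ?_ hB (by omega) hw₁ (by simpa using hw₂)
  intro hz
  exact Finset.disjoint_left.1 hSB (by simp) hz

end Block

end Cfsg.Agent.H17.Marg
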