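import Cfsg.Agent.Lib.H17.Mg2

/-! # Jordan sets: primitive groups -/

set_option autoImplicit false
set_option linter.unusedSectionVars false
set_option linter.style.haveILetI false
set_option linter.unusedSimpArgs false
set_option linter.unusedVariables false
set_option linter.style.longLine false

namespace Cfsg.Agent.H17.Marg

open Finset MulAction
open scoped Nat Pointwise

universe u v

/-- Two permutations whose supports share one point have a three-cycle as commutator. -/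
theorem three_overlap {Ω : Type*} [Fintype Ω] [DecidableEq Ω] (α β : Equiv.Perm Ω) (c : Ω)
    (h : ∀ z, α z ≠ z → β z ≠ z → z = c) (hα : α c ≠ c) (hβ : β c ≠ c) :
    (α * β * α⁻¹ * β⁻¹).IsThreeCycle := by
  have hia : ∀ z, α⁻¹ (α z) = z := fun z => α.symm_apply_apply z
  have hai : ∀ z, α (α⁻¹ z) = z := fun z => α.apply_symm_apply z
  have hib : ∀ z, β⁻¹ (β z) = z := fun z => β.symm_apply_apply z
  have hbi : ∀ z, β (β⁻¹ z) = z := fun z => β.apply_symm_apply z
  have ha : ∀ z, z ≠ c → β z ≠ z → α z = z := by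
    intro z hz hb
    by_contra hc
    exact hz (h z hc hb)
  have hb : ∀ z, z ≠ c → α z ≠ z → β z = z := by
    intro z hz hb
    by_contra hc
    exact hz (h z hb hc)
  have hαm : ∀ z, α z ≠ z → α (α z) ≠ α z := fun z hz hc => hz (α.injective hc)
  have hβm : ∀ z, β z ≠ z → β (β z) ≠ β z := fun z hz hc => hz (β.injective hc)
  set c₁ := α c with hc₁
  set c₂ := β c with hc₂
  have hβ1 : β c₁ = c₁ := hb c₁ hα (hαm c hα)
  have hα2 : α c₂ = c₂ := ha c₂ hβ (hβm c hβ)
  have h12 : c₁ ≠ c₂ := by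
    intro h3
    have h4 := hβm c hβ
    rw [← hc₂, ← h3] at h4
    exact h4 hβ1
  set τ := α * β * α⁻¹ * β⁻¹ with hτ
  have hτa : ∀ z, τ z = α (β (α⁻¹ (β⁻¹ z))) := fun z => rfl
  have hbinv : ∀ z, β z = z → β⁻¹ z = z := by
    intro z hz
    rw [Equiv.Perm.inv_eq_iff_eq]
    exact hz.symm
  have hainv : ∀ z, α z = z → α⁻¹ z = z := by
    intro z hz
    rw [Equiv.Perm.inv_eq_iff_eq]
    exact hz.symm
  have hτ2 : τ c₂ = c := by
    rw [hτa, hc₂, hib]
    set e := α⁻¹ c with he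
    have h1 : α e = c := by rw [he, hai]
    have h2 : e ≠ c := by
      intro h3
      rw [h3] at h1
      exact hα h1
    have h3 : β e = e := hb e h2 (by rw [h1]; exact h2.symm)
    rw [h3, h1]
  have hτ0 : τ c = c₁ := by
    rw [hτa]
    set f := β⁻¹ c with hf
    have h1 : β f = c := by rw [hf, hbi]
    have h2 : f ≠ c := by
      intro h3
      rw [h3] at h1
      exact hβ h1
    have h3 : α f = f := ha f h2 (by rw [h1]; exact h2.symm)
    rw [hainv f h3, h1]
  have hτ1 : τ c₁ = c₂ := by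
    rw [hτa, hbinv c₁ hβ1, hc₁, hia, ← hc₂, hα2]
  have hτo : ∀ z, z ≠ c → z ≠ c₁ → z ≠ c₂ → τ z = z := by
    intro z h0 h1 h2
    rw [hτa]
    by_cases h3 : β z = z
    · rw [hbinv z h3]
      set u := α⁻¹ z with hu
      have h4 : α u = z := by rw [hu, hai]
      by_cases h5 : u = c
      · exfalso
        rw [h5] at h4
        exact h1 h4.symm
      by_cases h6 : α u = u
      · have h7 : u = z := h6.symm.trans h4
        have h8 : β u = u := by rw [h7]; exact h3
        rw [h8, h4]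
      · rw [hb u h5 h6, h4]
    · have h4 : α z = z := ha z h0 h3
      set v := β⁻¹ z with hv
      have h5 : β v = z := by rw [hv, hbi]
      have h6 : v ≠ c := by
        intro h7
        rw [h7] at h5
        exact h2 h5.symm
      have h7 : v ≠ z := by
        intro h8
        rw [h8] at h5
        exact h3 h5
      have h8 : α v = v := ha v h6 (by rw [h5]; exact h7.symm)
      rw [hainv v h8, h5, h4]
  rw [← card_support_eq_three_iff]
  have hsupp : τ.support = {c, c₁, c₂} := by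
    ext z
    rw [Equiv.Perm.mem_support]
    simp only [Finset.mem_insert, Finset.mem_singleton]
    constructor
    · intro h1
      by_contra h2
      push Not at h2
      exact h1 (hτo z h2.1 h2.2.1 h2.2.2)
    · rintro (rfl | rfl | rfl)
      · rw [hτ0]
        exact hα
      · rw [hτ1]
        exact h12.symm
      · rw [hτ2]
        exact hβ.symm ∘ Eq.symm ∘ Eq.symm
  rw [hsupp, Finset.card_insert_of_notMem (by simp [Ne.symm hα, Ne.symm hβ]), Finset.card_pair h12]

section Main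

variable {G : Type u} {Ω : Type v} [Group G] [MulAction G Ω]

/-- Extending transitivity. -/
theorem trans_succ {t : ℕ} [IsMultiplyPretransitive G Ω (t + 1)] (b : Fin (t + 1) ↪ Ω)
    (hT : IsMultiplyPretransitive (fixingSubgroup G (Set.range fun i : Fin t => b i.castSucc))
      (SubMulAction.ofFixingSubgroup G (Set.range fun i : Fin t => b i.castSucc)) 2) :
    IsMultiplyPretransitive G Ω (t + 2) := by
  classical
  set S : Set Ω := Set.range fun i : Fin t => b i.castSucc with hS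
  constructor
  intro x y
  let cs : Fin (t + 1) ↪ Fin (t + 2) := Fin.castSuccEmb
  obtain ⟨gx, hgx⟩ := exists_smul_eq G (cs.trans x) b
  obtain ⟨gy, hgy⟩ := exists_smul_eq G (cs.trans y) b
  have hx1 : ∀ i : Fin (t + 1), gx • x i.castSucc = b i := fun i => DFunLike.congr_fun hgx i
  have hy1 : ∀ i : Fin (t + 1), gy • y i.castSucc = b i := fun i => DFunLike.congr_fun hgy i
  set a := gx • x (Fin.last _) with ha
  set a' := gy • y (Fin.last _) with ha'
  have hane : ∀ i : Fin (t + 1), a ≠ b i := by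
    intro i h
    rw [← hx1 i, ha] at h
    have h1 := x.injective (MulAction.injective gx h)
    exact (Fin.castSucc_lt_last i).ne' h1
  have hane' : ∀ i : Fin (t + 1), a' ≠ b i := by
    intro i h
    rw [← hy1 i, ha'] at h
    have h1 := y.injective (MulAction.injective gy h)
    exact (Fin.castSucc_lt_last i).ne' h1
  have hnS : ∀ w, (∀ i : Fin (t + 1), w ≠ b i) → w ∉ S := by
    rintro w hw ⟨i, rfl⟩
    exact hw _ rfl
  set z₁ := b (Fin.last _) with hz₁
  have hz₁S : z₁ ∉ S := by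
    rintro ⟨i, hi⟩
    have h1 := b.injective hi
    exact (Fin.castSucc_lt_last i).ne h1
  have hne1 : (⟨z₁, hz₁S⟩ : SubMulAction.ofFixingSubgroup G S) ≠ ⟨a, hnS a hane⟩ :=
    fun h => hane _ (congrArg Subtype.val h).symm
  have hne2 : (⟨z₁, hz₁S⟩ : SubMulAction.ofFixingSubgroup G S) ≠ ⟨a', hnS a' hane'⟩ :=
    fun h => hane' _ (congrArg Subtype.val h).symm
  have h2 := is_two_pretransitive_iff.1 hT hne1 hne2
  obtain ⟨τ, hτ1, hτ2⟩ := h2
  have hτ1' : (τ : G) • z₁ = z₁ := congrArg Subtype.val hτ1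
  have hτ2' : (τ : G) • a = a' := congrArg Subtype.val hτ2
  have hfix : ∀ i : Fin (t + 1), (τ : G) • b i = b i := by
    intro i
    refine Fin.lastCases hτ1' (fun j => ?_) i
    exact τ.2 ⟨_, ⟨j, rfl⟩⟩
  refine ⟨gy⁻¹ * (τ : G) * gx, ?_⟩
  ext i
  refine Fin.lastCases ?_ (fun j => ?_) i
  · show (gy⁻¹ * (τ : G) * gx) • x (Fin.last _) = y (Fin.last _)
    rw [mul_smul, mul_smul, ← ha, hτ2', ha', inv_smul_smul]
  · show (gy⁻¹ * (τ : G) * gx) • x j.castSucc = y j.castSucc
    rw [mul_smul, mul_smul, hx1, hfix, ← hy1, inv_smul_smul]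

theorem jor_of_iso {Γ : Set Ω}
    (hJ : IsPretransitive (fixingSubgroup G Γᶜ) (SubMulAction.ofFixingSubgroup G Γᶜ)) : Jor G Γ := by
  intro a ha b hb
  have h1 : a ∉ Γᶜ := by simpa using ha
  have h2 : b ∉ Γᶜ := by simpa using hb
  obtain ⟨h, hh⟩ := exists_smul_eq (fixingSubgroup G Γᶜ)
    (⟨a, h1⟩ : SubMulAction.ofFixingSubgroup G Γᶜ) ⟨b, h2⟩
  refine ⟨h, ?_, congrArg Subtype.val hh⟩
  intro u hu
  exact h.2 ⟨u, hu⟩

theorem iso_of_jor {Γ : Set Ω} (hJ : Jor G Γ) :
    IsPretransitive (fixingSubgroup G Γᶜ) (SubMulAction.ofFixingSubgroup G Γᶜ) := by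
  constructor
  rintro ⟨a, ha⟩ ⟨b, hb⟩
  have h1 : a ∈ Γ := by simpa [SubMulAction.mem_ofFixingSubgroup_iff] using ha
  have h2 : b ∈ Γ := by simpa [SubMulAction.mem_ofFixingSubgroup_iff] using hb
  obtain ⟨h, h3, h4⟩ := hJ a h1 b h2
  refine ⟨⟨h, ?_⟩, Subtype.ext h4⟩
  rintro ⟨u, hu⟩
  exact h3 u hu

variable [Fintype G] [Fintype Ω] [DecidableEq Ω]

theorem prim_fix {Γ : Set Ω} (hJ : Jor G Γ) {t : ℕ} [IsMultiplyPretransitive G Ω t] (ht2 : 2 ≤ t)
    (htm : t < Γ.ncard) (hd : Γ.ncard < Γᶜ.ncard) (S : Finset Ω) (hSc : S.card + 1 = t) :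
    IsPreprimitive (fixingSubgroup G (S : Set Ω)) (SubMulAction.ofFixingSubgroup G (S : Set Ω)) := by
  classical
  have hS1 : (S : Set Ω).ncard + 1 = t := by
    rw [Set.ncard_coe_finset]
    exact hSc
  have h1 := SubMulAction.ofFixingSubgroup.isMultiplyPretransitive G (S : Set Ω) (m := 1) (n := t) hS1
  haveI h2 : IsPretransitive (fixingSubgroup G (S : Set Ω)) (SubMulAction.ofFixingSubgroup G (S : Set Ω)) :=
    is_one_pretransitive_iff.1 h1
  refine { toIsPretransitive := h2, isTrivialBlock_of_isBlock := ?_ }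
  intro B' hB'
  by_contra hnt
  unfold IsTrivialBlock at hnt
  push Not at hnt
  obtain ⟨hns, hnu⟩ := hnt
  obtain ⟨w', hw'⟩ := Set.ne_univ_iff_exists_notMem _ |>.1 hnu
  set B : Finset Ω := (B'.toFinite.toFinset).image Subtype.val with hB
  have hmemB : ∀ y, y ∈ B ↔ ∃ u ∈ B', (u : Ω) = y := by
    intro y
    simp [hB]
  have hBk : IsBk G S B := by
    intro h hfix u hu hhu v hv
    obtain ⟨u', hu', rfl⟩ := (hmemB u).1 hu
    obtain ⟨v', hv', rfl⟩ := (hmemB v).1 hv
    obtain ⟨u'', hu'', hu2⟩ := (hmemB _).1 hhu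
    have hh : h ∈ fixingSubgroup G (S : Set Ω) := by
      rintro ⟨s, hs⟩
      exact hfix s hs
    set τ : fixingSubgroup G (S : Set Ω) := ⟨h, hh⟩ with hτ
    have h3 : τ • u' ∈ B' := by
      have : τ • u' = u'' := Subtype.ext hu2.symm
      rw [this]
      exact hu''
    have h4 := hB'.smul_eq_of_mem hu' h3
    have h5 : τ • v' ∈ τ • B' := Set.smul_mem_smul_set hv'
    rw [h4] at h5
    exact (hmemB _).2 ⟨_, h5, rfl⟩
  have hB2 : 2 ≤ B.card := by
    obtain ⟨a, ha, b, hb, hab⟩ := hns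
    have : 1 < B.card := Finset.one_lt_card.2 ⟨a, (hmemB _).2 ⟨a, ha, rfl⟩, b, (hmemB _).2 ⟨b, hb, rfl⟩,
      fun h => hab (Subtype.ext h)⟩
    omega
  have hdis : Disjoint S B := by
    rw [Finset.disjoint_left]
    intro a ha hb
    obtain ⟨u, hu, rfl⟩ := (hmemB a).1 hb
    exact u.2 ha
  have hw1 : (w' : Ω) ∉ B := by
    intro h
    obtain ⟨u, hu, hu2⟩ := (hmemB _).1 h
    rw [Subtype.ext hu2] at hu
    exact hw' hu
  have hw2 : (w' : Ω) ∉ S := fun h => w'.2 h
  exact no_block hJ ht2 htm hd hSc hdis hBk hB2 hw1 hw2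

theorem two_fix {Γ : Set Ω} (hJ : Jor G Γ) {t : ℕ} [IsMultiplyPretransitive G Ω t] (ht2 : 2 ≤ t)
    (htm : t < Γ.ncard) (hd : Γ.ncard < Γᶜ.ncard) (S : Finset Ω) (hSc : S.card + 1 = t)
    (hSd : ∀ s ∈ S, s ∉ Γ) :
    IsMultiplyPretransitive (fixingSubgroup G (S : Set Ω)) (SubMulAction.ofFixingSubgroup G (S : Set Ω)) 2 := by
  classical
  have hprim := prim_fix hJ ht2 htm hd S hSc
  set s : Set (SubMulAction.ofFixingSubgroup G (S : Set Ω)) := {u | (u : Ω) ∉ Γ} with hs
  -- the complement of `s` is a copy of `Γ`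
  have hsc : (Subtype.val '' sᶜ) = Γ := by
    ext a
    constructor
    · rintro ⟨u, hu, rfl⟩
      by_contra h
      exact hu h
    · intro ha
      refine ⟨⟨a, fun h => hSd a h ha⟩, ?_, rfl⟩
      simpa [hs] using ha
  have hsc2 : sᶜ.ncard = Γ.ncard := by
    rw [← hsc, Set.ncard_image_of_injective _ Subtype.val_injective]
  obtain ⟨δ, hδ1, hδ2⟩ : ∃ δ, δ ∉ Γ ∧ δ ∉ S := by
    have h1 : S.card < (Set.toFinset Γᶜ).card := by
      rw [← Set.ncard_eq_toFinset_card']
      omega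
    obtain ⟨δ, h2, h3⟩ := Finset.exists_mem_notMem_of_card_lt_card h1
    exact ⟨δ, by simpa using h2, h3⟩
  have hspos : 0 < s.ncard := by
    rw [Set.ncard_pos]
    exact ⟨⟨δ, hδ2⟩, hδ1⟩
  have hsum : s.ncard + sᶜ.ncard = Nat.card (SubMulAction.ofFixingSubgroup G (S : Set Ω)) :=
    Set.ncard_add_ncard_compl s
  refine hprim.is_two_pretransitive (s := s) (n := s.ncard - 1) (by omega) (by omega) ?_
  constructor
  rintro ⟨⟨a, ha0⟩, ha⟩ ⟨⟨b, hb0⟩, hb⟩
  have ha1 : a ∈ Γ := by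
    by_contra h
    exact ha h
  have hb1 : b ∈ Γ := by
    by_contra h
    exact hb h
  obtain ⟨h, h3, h4⟩ := hJ a ha1 b hb1
  have hh : h ∈ fixingSubgroup G (S : Set Ω) := by
    rintro ⟨u, hu⟩
    exact h3 u (hSd u hu)
  refine ⟨⟨⟨h, hh⟩, ?_⟩, Subtype.ext (Subtype.ext h4)⟩
  rintro ⟨⟨u, hu0⟩, hu⟩
  exact Subtype.ext (h3 u hu)

theorem all_trans (hprim : IsPreprimitive G Ω) {Γ : Set Ω} (hJ : Jor G Γ) (h2m : 2 ≤ Γ.ncard)
    (hd : Γ.ncard < Γᶜ.ncard) : ∀ t, 2 ≤ t → t ≤ Γ.ncard → IsMultiplyPretransitive G Ω t := by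
  classical
  intro t ht
  induction t, ht using Nat.le_induction with
  | base =>
    intro _
    have hc : Nat.card Ω = Γ.ncard + Γᶜ.ncard := (Set.ncard_add_ncard_compl Γ).symm
    exact hprim.is_two_pretransitive (s := Γᶜ) (n := Γᶜ.ncard - 1) (by omega) (by omega) (iso_of_jor hJ)
  | succ t ht ih =>
    intro htm
    have hI := ih (by omega)
    obtain ⟨t₀, rfl⟩ : ∃ t₀, t = t₀ + 1 := ⟨t - 1, by omega⟩
    haveI := hI
    -- a tuple in the complement
    have hcard : Fintype.card (Fin (t₀ + 1)) ≤ Fintype.card ↥Γᶜ := by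
      rw [Fintype.card_fin, ← Nat.card_eq_fintype_card, Nat.card_coe_set_eq]
      omega
    obtain ⟨e⟩ := Function.Embedding.nonempty_of_card_le hcard
    let b : Fin (t₀ + 1) ↪ Ω := e.trans (Function.Embedding.subtype _)
    have hbm : ∀ i, b i ∉ Γ := fun i => (e i).2
    set S : Finset Ω := Finset.univ.image fun i : Fin t₀ => b i.castSucc with hS
    have hSc : S.card + 1 = t₀ + 1 := by
      rw [hS, Finset.card_image_of_injective, Finset.card_univ, Fintype.card_fin]
      intro i j h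
      exact Fin.castSucc_injective _ (b.injective h)
    have hSd : ∀ s ∈ S, s ∉ Γ := by
      intro s hs
      obtain ⟨i, -, rfl⟩ := Finset.mem_image.1 hs
      exact hbm _
    have hT := two_fix hJ ht (by omega) hd S hSc hSd
    have hSeq : (S : Set Ω) = Set.range fun i : Fin t₀ => b i.castSucc := by
      rw [hS]
      simp
    rw [hSeq] at hT
    exact trans_succ b hT

theorem exists_one_point (hprim : IsPreprimitive G Ω) {Γ : Set Ω} (hJ : Jor G Γ) (h2m : 2 ≤ Γ.ncard)
    (hd : Γ.ncard < Γᶜ.ncard) : ∃ (g : G), ∃ c ∈ Γ, ∀ y ∈ Γ, g • y ∈ Γ ↔ y = c := by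
  classical
  haveI := all_trans hprim hJ h2m hd _ h2m le_rfl
  obtain ⟨c, hc⟩ : (Set.toFinset Γ).Nonempty := by
    rw [← Finset.card_pos, ← Set.ncard_eq_toFinset_card']
    omega
  set O := (Set.toFinset Γ).erase c with hO
  have hOc : O.card = Γ.ncard - 1 := by
    rw [hO, Finset.card_erase_of_mem hc, ← Set.ncard_eq_toFinset_card']
  have hpat := pat_eq (G := G) (t := Γ.ncard) Γ {c} O (by simp [hO]) (by rw [Finset.card_singleton, hOc]; omega)
  have hpos : 0 < Fintype.card G * (Γ.ncard.descFactorial ({c} : Finset Ω).card * Γᶜ.ncard.descFactorial O.card) := by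
    have h1 : 0 < Fintype.card G := Fintype.card_pos
    have h2 : 0 < Γ.ncard.descFactorial ({c} : Finset Ω).card := Nat.descFactorial_pos.2 (by simp; omega)
    have h3 : 0 < Γᶜ.ncard.descFactorial O.card := Nat.descFactorial_pos.2 (by omega)
    positivity
  rw [← hpat] at hpos
  have hne : pat G Γ {c} O ≠ 0 := by
    intro h
    rw [h, zero_mul] at hpos
    omega
  by_contra hcon
  apply hne
  refine pat_zero fun g h1 h2 => hcon ⟨g, c, Set.mem_toFinset.1 hc, ?_⟩
  intro y hy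
  constructor
  · intro h3
    by_contra h4
    exact h2 y (Finset.mem_erase.2 ⟨h4, Set.mem_toFinset.2 hy⟩) h3
  · rintro rfl
    exact h1 _ (by simp)

/-- The conclusion for a primitive group. -/
theorem alt_of_prim (hprim : IsPreprimitive G Ω) {Γ : Set Ω} (hJ : Jor G Γ) (h2m : 2 ≤ Γ.ncard)
    (hd : Γ.ncard < Γᶜ.ncard) (σ : Equiv.Perm Ω) (hσ : Equiv.Perm.sign σ = 1) :
    ∃ x : G, (MulAction.toPerm x : Equiv.Perm Ω) = σ := by
  classical
  obtain ⟨g, c, hc, hg⟩ := exists_one_point hprim hJ h2m hd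
  obtain ⟨c', hc', hcc⟩ : ∃ c' ∈ Γ, c' ≠ c := by
    have : 1 < (Set.toFinset Γ).card := by
      rw [← Set.ncard_eq_toFinset_card']
      omega
    obtain ⟨a, ha, b, hb, hab⟩ := Finset.one_lt_card.1 this
    by_cases h : a = c
    · exact ⟨b, Set.mem_toFinset.1 hb, fun h2 => hab (h.trans h2.symm)⟩
    · exact ⟨a, Set.mem_toFinset.1 ha, h⟩
  have hgc : g • c ∈ Γ := (hg c hc).2 rfl
  obtain ⟨c'', hc'', hcc2⟩ : ∃ c'' ∈ Γ, c'' ≠ g • c := by
    have : 1 < (Set.toFinset Γ).card := by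
      rw [← Set.ncard_eq_toFinset_card']
      omega
    obtain ⟨a, ha, b, hb, hab⟩ := Finset.one_lt_card.1 this
    by_cases h : a = g • c
    · exact ⟨b, Set.mem_toFinset.1 hb, fun h2 => hab (h.trans h2.symm)⟩
    · exact ⟨a, Set.mem_toFinset.1 ha, h⟩
  obtain ⟨a, ha1, ha2⟩ := hJ c hc c' hc'
  obtain ⟨h, hh1, hh2⟩ := hJ _ hgc c'' hc''
  set b := g⁻¹ * h * g with hb
  have hb1 : ∀ z, g • z ∉ Γ → b • z = z := by
    intro z hz
    rw [hb, mul_smul, mul_smul, hh1 _ hz, inv_smul_smul]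
  have hb2 : b • c ≠ c := by
    rw [hb, mul_smul, mul_smul, hh2]
    intro h3
    apply hcc2
    rw [← h3, smul_inv_smul]
  let α : Equiv.Perm Ω := MulAction.toPerm a
  let β : Equiv.Perm Ω := MulAction.toPerm b
  have hthree : (α * β * α⁻¹ * β⁻¹).IsThreeCycle := by
    refine three_overlap α β c ?_ ?_ ?_
    · intro z h1 h2
      have h3 : z ∈ Γ := by
        by_contra h4
        exact h1 (ha1 z h4)
      have h4 : g • z ∈ Γ := by
        by_contra h5
        exact h2 (hb1 z h5)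
      exact (hg z h3).1 h4
    · show a • c ≠ c
      rw [ha2]
      exact hcc
    · exact hb2
  -- the image of `G`
  let ph : G →* Equiv.Perm Ω := MulAction.toPermHom G Ω
  let P : Subgroup (Equiv.Perm Ω) := ph.range
  let f : Ω →ₑ[fun x : G => (⟨ph x, ⟨x, rfl⟩⟩ : P)] Ω := ⟨id, fun x y => rfl⟩
  have hPprim : IsPreprimitive P Ω := IsPreprimitive.of_surjective (f := f) Function.surjective_id
  have hmem : α * β * α⁻¹ * β⁻¹ ∈ P := ⟨a * b * a⁻¹ * b⁻¹, by
    show ph (a * b * a⁻¹ * b⁻¹) = _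
    rw [map_mul, map_mul, map_mul, map_inv, map_inv]
    rfl⟩
  have hle := Equiv.Perm.alternatingGroup_le_of_isPreprimitive_of_isThreeCycle_mem hPprim hthree hmem
  obtain ⟨x, hx⟩ := hle (Equiv.Perm.mem_alternatingGroup.2 hσ)
  exact ⟨x, hx⟩

end Main

end Cfsg.Agent.H17.Marg
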