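import Mathlib

/-!
Minimal normal subgroups of finite groups are direct powers of simple groups.
-/

set_option autoImplicit false
set_option linter.style.haveILetI false

namespace Cfsg.Agent.H17

open Subgroup

variable {G : Type*} [Group G]

lemma le_normalizer_of_conj' {A H : Subgroup G} (h : ∀ a ∈ A, ∀ x ∈ H, a * x * a⁻¹ ∈ H) :
    A ≤ normalizer (H : Set G) := by
  intro a ha
  rw [Subgroup.mem_normalizer_iff]
  intro x
  constructor
  · exact h a ha x
  · intro hx
    have := h a⁻¹ (A.inv_mem ha) _ hx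
    simpa [mul_assoc] using this

lemma conj_mem' {A H : Subgroup G} (h : A ≤ normalizer (H : Set G)) {a x : G} (ha : a ∈ A)
    (hx : x ∈ H) : a * x * a⁻¹ ∈ H :=
  (Subgroup.mem_normalizer_iff.1 (h ha) x).1 hx

lemma commute_of_normalize {A B : Subgroup G} (hAB : A ≤ normalizer (B : Set G))
    (hBA : B ≤ normalizer (A : Set G)) (hd : A ⊓ B = ⊥) {a b : G} (ha : a ∈ A) (hb : b ∈ B) :
    a * b = b * a := by
  have h1 : a * b * a⁻¹ * b⁻¹ ∈ B := B.mul_mem (conj_mem' hAB ha hb) (B.inv_mem hb)
  have h2 : a * b * a⁻¹ * b⁻¹ ∈ A := by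
    have h3 : a * b * a⁻¹ * b⁻¹ = a * (b * a⁻¹ * b⁻¹) := by group
    rw [h3]
    exact A.mul_mem ha (conj_mem' hBA hb (A.inv_mem ha))
  have h3 : a * b * a⁻¹ * b⁻¹ ∈ A ⊓ B := ⟨h2, h1⟩
  rw [hd, Subgroup.mem_bot] at h3
  have h4 : a * b * a⁻¹ = b := mul_inv_eq_one.1 h3
  calc a * b = a * b * a⁻¹ * a := by group
    _ = b * a := by rw [h4]

/-- A direct product of two commuting subgroups with trivial intersection. -/
noncomputable def prodEquivSup (A B : Subgroup G) (hc : ∀ a ∈ A, ∀ b ∈ B, a * b = b * a)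
    (hd : A ⊓ B = ⊥) : (A × B) ≃* ↥(A ⊔ B) :=
  MulEquiv.ofBijective (show (A × B) →* ↥(A ⊔ B) from
    { toFun := fun p => ⟨(p.1 : G) * p.2, Subgroup.mul_mem_sup p.1.2 p.2.2⟩
      map_one' := by
        apply Subtype.ext
        simp
      map_mul' := by
        intro p q
        apply Subtype.ext
        show ((p.1 : G) * q.1) * ((p.2 : G) * q.2) = (p.1 * p.2) * (q.1 * q.2)
        have h := hc q.1 q.1.2 p.2 p.2.2
        calc ((p.1 : G) * q.1) * ((p.2 : G) * q.2) = p.1 * (q.1 * p.2) * q.2 := by group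
          _ = p.1 * (p.2 * q.1) * q.2 := by rw [h]
          _ = _ := by group })
    (by
      constructor
      · rw [injective_iff_map_eq_one]
        rintro ⟨a, b⟩ h
        have h1 : (a : G) * b = 1 := congrArg Subtype.val h
        have h2 : (a : G) = (b : G)⁻¹ := eq_inv_of_mul_eq_one_left h1
        have h3 : (a : G) ∈ A ⊓ B := ⟨a.2, by rw [h2]; exact B.inv_mem b.2⟩
        rw [hd, Subgroup.mem_bot] at h3
        have h4 : (b : G) = 1 := by
          rw [h3, one_mul] at h1
          exact h1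
        exact Prod.ext (Subtype.ext h3) (Subtype.ext h4)
      · rintro ⟨x, hx⟩
        have hA : A ≤ normalizer (B : Set G) := le_normalizer_of_conj' (fun a ha x hx => by
          rw [hc a ha x hx]
          simpa using hx)
        have hx' : x ∈ ((A ⊔ B : Subgroup G) : Set G) := hx
        rw [Subgroup.coe_mul_of_left_le_normalizer_right _ _ hA] at hx'
        obtain ⟨a, ha, b, hb, rfl⟩ := hx'
        exact ⟨(⟨a, ha⟩, ⟨b, hb⟩), rfl⟩)

/-- Adding one factor. -/
def piSuccEquiv (T : Type*) [Group T] (j : ℕ) : ((Fin j → T) × T) ≃* (Fin (j + 1) → T) where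
  toFun p := Fin.cons p.2 p.1
  invFun f := (Fin.tail f, f 0)
  left_inv p := by simp
  right_inv f := by simp
  map_mul' p q := by
    funext i
    refine Fin.cases ?_ (fun i => ?_) i <;> simp

/-- Doubling. -/
def piAddEquiv (T : Type*) [Group T] (m n : ℕ) : ((Fin m → T) × (Fin n → T)) ≃* (Fin (m + n) → T) where
  toFun p := fun i => Sum.elim p.1 p.2 (finSumFinEquiv.symm i)
  invFun f := (fun i => f (finSumFinEquiv (Sum.inl i)), fun i => f (finSumFinEquiv (Sum.inr i)))
  left_inv p := by
    apply Prod.ext <;> funext i <;> simp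
  right_inv f := by
    funext i
    rcases h : finSumFinEquiv.symm i with a | a <;>
    · have : i = finSumFinEquiv _ := (Equiv.symm_apply_eq _).1 h
      simp [this]
  map_mul' p q := by
    funext i
    show Sum.elim (p.1 * q.1) (p.2 * q.2) (finSumFinEquiv.symm i) =
      Sum.elim p.1 p.2 (finSumFinEquiv.symm i) * Sum.elim q.1 q.2 (finSumFinEquiv.symm i)
    rcases finSumFinEquiv.symm i with a | a <;> rfl

section minNormal

variable [Finite G]

/-- The minimal element of the family of subgroups normalized by V. -/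
structure IsMinV (V S : Subgroup G) : Prop where
  le : S ≤ V
  ne : S ≠ ⊥
  norm : V ≤ normalizer (S : Set G)
  min : ∀ M : Subgroup G, M ≤ S → M ≠ ⊥ → V ≤ normalizer (M : Set G) → M = S

lemma exists_isMinV {V : Subgroup G} (hne : V ≠ ⊥) : ∃ S, IsMinV V S := by
  let 𝒮 : Set (Subgroup G) := {S | S ≤ V ∧ S ≠ ⊥ ∧ V ≤ normalizer (S : Set G)}
  have h𝒮 : 𝒮.Nonempty := ⟨V, le_rfl, hne, Subgroup.le_normalizer⟩
  obtain ⟨S, hS⟩ := (Set.toFinite 𝒮).exists_minimal h𝒮
  exact ⟨S, hS.1.1, hS.1.2.1, hS.1.2.2, fun M hM hM1 hMV =>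
    le_antisymm hM (hS.2 ⟨hM.trans hS.1.1, hM1, hMV⟩ hM)⟩

/-- conjugate -/
abbrev cj (g : G) (S : Subgroup G) : Subgroup G := S.map (MulAut.conj g).toMonoidHom

lemma mem_cj {g x : G} {S : Subgroup G} : x ∈ cj g S ↔ g⁻¹ * x * g ∈ S := by
  constructor
  · rintro ⟨y, hy, rfl⟩
    have : g⁻¹ * (MulAut.conj g).toMonoidHom y * g = y := by
      simp [MulAut.conj_apply]
      group
    rwa [this]
  · intro h
    refine ⟨_, h, ?_⟩
    simp [MulAut.conj_apply]
    group

lemma isMinV_cj {V S : Subgroup G} (hV : V.Normal) (h : IsMinV V S) (g : G) : IsMinV V (cj g S) := by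
  have hnorm : ∀ {M : Subgroup G}, V ≤ normalizer (M : Set G) → V ≤ normalizer (cj g M : Set G) := by
    intro M hM
    apply le_normalizer_of_conj'
    intro v hv x hx
    rw [mem_cj] at hx ⊢
    have h1 : g⁻¹ * v * g ∈ V := by
      have := hV.conj_mem v hv g⁻¹
      simpa using this
    have h2 := conj_mem' hM h1 hx
    have h3 : g⁻¹ * (v * x * v⁻¹) * g = g⁻¹ * v * g * (g⁻¹ * x * g) * (g⁻¹ * v * g)⁻¹ := by group
    rwa [h3]
  refine ⟨?_, ?_, hnorm h.norm, ?_⟩
  · intro x hx
    rw [mem_cj] at hx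
    have := hV.conj_mem _ (h.le hx) g
    have h3 : g * (g⁻¹ * x * g) * g⁻¹ = x := by group
    rwa [h3] at this
  · intro h0
    apply h.ne
    rw [eq_bot_iff]
    intro x hx
    have : g * x * g⁻¹ ∈ cj g S := by
      rw [mem_cj]
      have h3 : g⁻¹ * (g * x * g⁻¹) * g = x := by group
      rwa [h3]
    rw [h0, Subgroup.mem_bot] at this
    have h4 : x = g⁻¹ * (g * x * g⁻¹) * g := by group
    rw [Subgroup.mem_bot, h4, this]
    group
  · intro M hM hM1 hMV
    -- pull back
    have h1 : cj g⁻¹ M = S := by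
      apply h.min
      · intro x hx
        rw [mem_cj] at hx
        have := hM hx
        rw [mem_cj] at this
        have h3 : g⁻¹ * (g⁻¹⁻¹ * x * g⁻¹) * g = x := by group
        rwa [h3] at this
      · intro h0
        apply hM1
        rw [eq_bot_iff]
        intro x hx
        have : g⁻¹ * x * g ∈ cj g⁻¹ M := by
          rw [mem_cj]
          have h3 : g⁻¹⁻¹ * (g⁻¹ * x * g) * g⁻¹ = x := by group
          rwa [h3]
        rw [h0, Subgroup.mem_bot] at this
        have h4 : x = g * (g⁻¹ * x * g) * g⁻¹ := by group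
        rw [Subgroup.mem_bot, h4, this]
        group
      · apply le_normalizer_of_conj'
        intro v hv x hx
        rw [mem_cj] at hx ⊢
        have h1 : g * v * g⁻¹ ∈ V := hV.conj_mem v hv g
        have h2 := conj_mem' hMV h1 hx
        have h3 : g⁻¹⁻¹ * (v * x * v⁻¹) * g⁻¹ =
            g * v * g⁻¹ * (g⁻¹⁻¹ * x * g⁻¹) * (g * v * g⁻¹)⁻¹ := by group
        rwa [h3]
    apply le_antisymm hM
    intro x hx
    rw [mem_cj] at hx
    rw [← h1] at hx
    rw [mem_cj] at hx
    have h3 : g⁻¹⁻¹ * (g⁻¹ * x * g) * g⁻¹ = x := by group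
    rwa [h3] at hx

lemma isMinV_disjoint {V C D : Subgroup G} (hC : IsMinV V C) (hD : IsMinV V D) (hne : C ≠ D) :
    C ⊓ D = ⊥ := by
  by_contra h
  have h1 : V ≤ normalizer ((C ⊓ D : Subgroup G) : Set G) := by
    apply le_normalizer_of_conj'
    intro a ha x hx
    exact ⟨conj_mem' hC.norm ha hx.1, conj_mem' hD.norm ha hx.2⟩
  have h2 := hC.min _ inf_le_left h h1
  have h3 := hD.min _ inf_le_right h h1
  exact hne (h2.symm.trans h3)

/-- A minimal normal subgroup is a power of a simple group. -/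
theorem minNormal_equiv_pi (V : Subgroup G) (hV : V.Normal) (hne : V ≠ ⊥)
    (hmin : ∀ M : Subgroup G, M.Normal → M ≤ V → M = ⊥ ∨ M = V) :
    ∃ (S : Subgroup G) (m : ℕ), 1 ≤ m ∧ IsSimpleGroup S ∧ Nonempty (V ≃* (Fin m → S)) := by
  classical
  obtain ⟨S, hS⟩ := exists_isMinV hne
  have hcl : Subgroup.normalClosure (S : Set G) = V := by
    have h1 : Subgroup.normalClosure (S : Set G) ≤ V :=
      Subgroup.normalClosure_le_normal (fun x hx => hS.le hx)
    rcases hmin _ Subgroup.normalClosure_normal h1 with h | h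
    · exfalso
      apply hS.ne
      rw [eq_bot_iff]
      rw [← h]
      exact Subgroup.le_normalClosure
    · exact h
  -- generators
  have hgen : ∀ x ∈ Group.conjugatesOfSet (S : Set G), ∃ g : G, x ∈ cj g S := by
    intro x hx
    rw [Group.mem_conjugatesOfSet_iff] at hx
    obtain ⟨a, ha, hax⟩ := hx
    obtain ⟨g, hg⟩ := isConj_iff.1 hax
    refine ⟨g, ?_⟩
    rw [mem_cj, ← hg]
    have h3 : g⁻¹ * (g * a * g⁻¹) * g = a := by group
    rwa [h3]
  have hsimple : IsSimpleGroup S := by
    haveI : Nontrivial S := (Subgroup.nontrivial_iff_ne_bot S).2 hS.ne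
    refine ⟨?_⟩
    intro M hM
    let M' : Subgroup G := M.map S.subtype
    have hM'S : M' ≤ S := by
      rintro _ ⟨y, _, rfl⟩
      exact y.2
    have hM'mem : ∀ y : S, (y : G) ∈ M' ↔ y ∈ M := by
      intro y
      constructor
      · rintro ⟨z, hz, hzy⟩
        have : z = y := Subtype.ext hzy
        rwa [← this]
      · intro h
        exact ⟨y, h, rfl⟩
    have hV' : V ≤ normalizer (M' : Set G) := by
      rw [← hcl, Subgroup.normalClosure, Subgroup.closure_le]
      intro x hx
      obtain ⟨g, hxg⟩ := hgen x hx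
      show x ∈ normalizer (M' : Set G)
      apply le_normalizer_of_conj' (A := Subgroup.zpowers x) _ (Subgroup.mem_zpowers x)
      intro a ha y hy
      obtain ⟨k, rfl⟩ := Subgroup.mem_zpowers_iff.1 ha
      by_cases hgS : cj g S = S
      · have hxS : x ∈ S := by rwa [hgS] at hxg
        have hzS : x ^ k ∈ S := S.zpow_mem hxS k
        have hyS := hM'S hy
        have h1 := hM.conj_mem ⟨y, hyS⟩ ((hM'mem _).1 hy) ⟨x ^ k, hzS⟩
        exact (hM'mem _).2 h1
      · have hd := isMinV_disjoint (isMinV_cj hV hS g) hS hgS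
        have hcomm := commute_of_normalize ((isMinV_cj hV hS g).le.trans hS.norm)
          (hS.le.trans (isMinV_cj hV hS g).norm) hd hxg (hM'S hy)
        have hcz : Commute (x ^ k) y := Commute.zpow_left hcomm k
        have : x ^ k * y * (x ^ k)⁻¹ = y := by
          rw [hcz.eq]
          group
        rwa [this]
    by_cases hb : M' = ⊥
    · left
      rw [eq_bot_iff]
      intro y hy
      have := (hM'mem y).2 hy
      rw [hb, Subgroup.mem_bot] at this
      rw [Subgroup.mem_bot]
      exact Subtype.ext this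
    · right
      have h2 := hS.min M' hM'S hb hV'
      rw [eq_top_iff]
      intro y _
      apply (hM'mem y).1
      rw [h2]
      exact y.2
  -- maximal subgroup of the form
  let 𝒲 : Set (Subgroup G) := {W | W ≤ V ∧ V ≤ normalizer (W : Set G) ∧
    ∃ j : ℕ, Nonempty (W ≃* (Fin j → S))}
  have h𝒲 : 𝒲.Nonempty := by
    refine ⟨⊥, bot_le, ?_, 0, ⟨?_⟩⟩
    · apply le_normalizer_of_conj'
      intro a _ x hx
      rw [Subgroup.mem_bot] at hx ⊢
      rw [hx]
      group
    · exact MulEquiv.ofUnique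
  obtain ⟨W, ⟨hWV, hWn, j, ⟨ej⟩⟩, hWmax⟩ := (Set.toFinite 𝒲).exists_maximal h𝒲
  have hW : W = V := by
    by_contra hWne
    have hex : ∃ g : G, ¬ cj g S ≤ W := by
      by_contra hall
      push Not at hall
      apply hWne
      apply le_antisymm hWV
      rw [← hcl, Subgroup.normalClosure, Subgroup.closure_le]
      intro x hx
      obtain ⟨g, hxg⟩ := hgen x hx
      exact hall g hxg
    obtain ⟨g, hg⟩ := hex
    have hC := isMinV_cj hV hS g
    set C := cj g S with hCdef
    have hd : C ⊓ W = ⊥ := by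
      by_contra h
      have h1 : V ≤ normalizer ((C ⊓ W : Subgroup G) : Set G) := by
        apply le_normalizer_of_conj'
        intro a ha x hx
        exact ⟨conj_mem' hC.norm ha hx.1, conj_mem' hWn ha hx.2⟩
      have h2 := hC.min _ inf_le_left h h1
      apply hg
      rw [← h2]
      exact inf_le_right
    have hd' : W ⊓ C = ⊥ := by rwa [inf_comm]
    have hcm : ∀ a ∈ W, ∀ b ∈ C, a * b = b * a := fun a ha b hb =>
      commute_of_normalize (hWV.trans hC.norm) (hC.le.trans hWn) hd' ha hb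
    have hnew : W ⊔ C ∈ 𝒲 := by
      refine ⟨sup_le hWV hC.le, ?_, j + 1, ⟨?_⟩⟩
      · apply le_normalizer_of_conj'
        intro a ha x hx
        have h1 : W ⊔ C ≤ (W ⊔ C).comap (MulAut.conj a).toMonoidHom :=
          sup_le (fun y hy => (le_sup_left : W ≤ W ⊔ C) (conj_mem' hWn ha hy))
            (fun y hy => (le_sup_right : C ≤ W ⊔ C) (conj_mem' hC.norm ha hy))
        exact h1 hx
      · have e1 := (prodEquivSup W C hcm hd').symm
        have e2 : C ≃* S := ((MulAut.conj g).subgroupMap S).symm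
        exact e1.trans ((MulEquiv.prodCongr ej e2).trans (piSuccEquiv S j))
    have := hWmax hnew le_sup_left
    apply hg
    exact le_sup_right.trans this
  subst hW
  refine ⟨S, j, ?_, hsimple, ⟨ej⟩⟩
  by_contra hj
  have hj0 : j = 0 := by omega
  subst hj0
  apply hne
  rw [eq_bot_iff]
  intro x hx
  have : (⟨x, hx⟩ : W) = 1 := ej.injective (Subsingleton.elim _ _)
  exact congrArg Subtype.val this

end minNormal

end Cfsg.Agent.H17
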