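import Mathlib

/-! # Permutations of `Fin 4 × ZMod 5` normalising the shift -/

set_option autoImplicit false
set_option linter.unusedSectionVars false
set_option linter.style.haveILetI false
set_option linter.unusedSimpArgs false
set_option linter.unusedVariables false

namespace Cfsg.Agent.H17.N21

open Equiv Equiv.Perm

instance : Fact (Nat.Prime 5) := ⟨by norm_num⟩

/-- The model set. -/
abbrev Y := Fin 4 × ZMod 5

theorem sign_addRight (c : ZMod 5) : sign (Equiv.addRight c : Perm (ZMod 5)) = 1 := by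
  revert c; decide +kernel

theorem units_pow_five (u : ℤˣ) : u ^ 5 = u := by
  rcases Int.units_eq_one_or u with rfl | rfl <;> decide

theorem units_pow_four (u : ℤˣ) : u ^ 4 = 1 := by
  rcases Int.units_eq_one_or u with rfl | rfl <;> decide

/-- Affine form of a map that normalises the shift. -/
theorem affine_form (σ : Y → Y) (m : ZMod 5)
    (h : ∀ i j, σ (i, j + 1) = ((σ (i, j)).1, (σ (i, j)).2 + m)) (i : Fin 4) (j : ZMod 5) :
    σ (i, j) = ((σ (i, 0)).1, m * j + (σ (i, 0)).2) := by
  have key : ∀ n : ℕ, σ (i, (n : ZMod 5)) = ((σ (i, 0)).1, m * n + (σ (i, 0)).2) := by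
    intro n
    induction n with
    | zero => simp
    | succ n ih =>
      have := h i n
      rw [ih] at this
      push_cast
      rw [this]
      ext <;> simp
      ring
  have h2 := key j.val
  rwa [ZMod.natCast_zmod_val] at h2

/-- The sign of a permutation of the model normalising the shift is the sign of the induced
permutation of `Fin 4`. -/
theorem model_sign (σ : Perm Y) (m : ZMod 5) (hm : m ≠ 0)
    (h : ∀ i j, σ (i, j + 1) = ((σ (i, j)).1, (σ (i, j)).2 + m)) :
    ∃ τ : Perm (Fin 4), (∀ i j, (σ (i, j)).1 = τ i) ∧ sign σ = sign τ := by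
  classical
  have hform := affine_form σ m h
  -- the base map
  let t : Fin 4 → Fin 4 := fun i => (σ (i, 0)).1
  have ht1 : ∀ i j, (σ (i, j)).1 = t i := fun i j => by rw [hform i j]
  have hsurj : Function.Surjective t := by
    intro i'
    obtain ⟨⟨i, j⟩, hij⟩ := σ.surjective (i', 0)
    refine ⟨i, ?_⟩
    have := ht1 i j
    rw [hij] at this
    exact this.symm
  have hinj : Function.Injective t := Finite.injective_iff_surjective.mpr hsurj
  let τ : Perm (Fin 4) := Equiv.ofBijective t ⟨hinj, hsurj⟩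
  refine ⟨τ, fun i j => ht1 i j, ?_⟩
  let u : (ZMod 5)ˣ := Units.mk0 m hm
  let f : Fin 4 → Perm (ZMod 5) := fun i =>
    (Equiv.addRight ((σ (i, 0)).2) : Perm (ZMod 5)) * Units.mulLeft u
  have hσ : σ = (prodCongrLeft (fun _ : ZMod 5 => τ)) * (prodCongrRight f) := by
    ext ⟨i, j⟩ : 1
    rw [hform i j]
    simp [Perm.mul_apply, f, u, Units.mulLeft]
    rfl
  rw [hσ, Perm.sign_mul, sign_prodCongrLeft, sign_prodCongrRight]
  have h1 : ∀ i, sign (f i) = sign (Units.mulLeft u : Perm (ZMod 5)) := by
    intro i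
    simp only [f, Perm.sign_mul, sign_addRight, one_mul]
  simp only [h1, Finset.prod_const, Finset.card_univ, Fintype.card_fin, ZMod.card]
  rw [units_pow_four, units_pow_five, mul_one]

/-- Even 2-elements of `Sym(4)` with a fixed point are trivial. -/
theorem perm4_aux : ∀ τ : Perm (Fin 4), ∀ i : Fin 4, sign τ = 1 → τ i = i → τ ^ 4 = 1 → τ = 1 := by
  decide +kernel

theorem perm4_pow12 : ∀ τ : Perm (Fin 4), τ ^ 12 = 1 := by
  decide +kernel

theorem perm4_even (τ : Perm (Fin 4)) (i : Fin 4) (hs : sign τ = 1) (hi : τ i = i) (k : ℕ)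
    (hk : τ ^ 2 ^ k = 1) : τ = 1 := by
  apply perm4_aux τ i hs hi
  have h1 : orderOf τ ∣ 2 ^ k := orderOf_dvd_of_pow_eq_one hk
  have h2 : orderOf τ ∣ 12 := orderOf_dvd_of_pow_eq_one (perm4_pow12 τ)
  obtain ⟨l, hl, hl2⟩ := (Nat.dvd_prime_pow Nat.prime_two).1 h1
  have h3 : l ≤ 2 := by
    by_contra hc
    push Not at hc
    have : 2 ^ 3 ∣ 12 := by
      have h4 : 2 ^ 3 ∣ 2 ^ l := pow_dvd_pow 2 hc
      rw [← hl2] at h4
      exact h4.trans h2
    omega
  have h4 : orderOf τ ∣ 4 := by
    rw [hl2]
    exact pow_dvd_pow 2 h3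
  exact orderOf_dvd_iff_pow_eq_one.1 h4

/-- A fibrewise shift has order dividing five. -/
theorem fibre_shift_pow (σ : Perm Y) (c : Fin 4 → ZMod 5) (h : ∀ i j, σ (i, j) = (i, j + c i)) :
    σ ^ 5 = 1 := by
  have key : ∀ (n : ℕ) (i : Fin 4) (j : ZMod 5), (σ ^ n) (i, j) = (i, j + n * c i) := by
    intro n
    induction n with
    | zero => intro i j; simp
    | succ n ih =>
      intro i j
      rw [pow_succ, Perm.mul_apply, h, ih]
      push_cast
      ext <;> simp
      ring
  ext ⟨i, j⟩ : 1
  rw [key]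
  have : ((5 : ℕ) : ZMod 5) = 0 := by decide
  rw [this]
  simp

/-- Free action of order 5: labelling. -/
theorem exists_labeling {Z : Type*} [Finite Z] (f : Perm Z) (hf : f ^ 5 = 1)
    (hfree : ∀ z, f z ≠ z) (hcard : Nat.card Z = 20) :
    ∃ E : Y ≃ Z, ∀ i j, E (i, j + 1) = f (E (i, j)) := by
  classical
  have : Fintype Z := Fintype.ofFinite Z
  -- powers indexed by ZMod 5
  let g : ZMod 5 → Perm Z := fun j => f ^ j.val
  have g_add : ∀ a b : ZMod 5, g (a + b) = g a * g b := by
    intro a b
    simp only [g]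
    rw [← pow_add, ZMod.val_add]
    have h5 : orderOf f ∣ 5 := orderOf_dvd_of_pow_eq_one hf
    rw [← pow_mod_orderOf f (a.val + b.val), ← pow_mod_orderOf f ((a.val + b.val) % 5),
      Nat.mod_mod_of_dvd _ h5]
  have g_natCast : ∀ k : ℕ, f ^ k = g (k : ZMod 5) := by
    intro k
    simp only [g]
    rw [ZMod.val_natCast]
    have h5 : orderOf f ∣ 5 := orderOf_dvd_of_pow_eq_one hf
    rw [← pow_mod_orderOf f k, ← pow_mod_orderOf f (k % 5), Nat.mod_mod_of_dvd _ h5]
  have g_zero : g 0 = 1 := by simp [g]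
  have g_one : g 1 = f := by
    have := g_natCast 1
    simpa using this.symm
  -- freeness
  have hfree' : ∀ (j : ZMod 5) (z : Z), g j z = z → j = 0 := by
    intro j z hj
    by_contra hne
    have : ∃ t : ZMod 5, t * j = 1 := ⟨j⁻¹, inv_mul_cancel₀ hne⟩
    obtain ⟨t, ht⟩ := this
    have hfix : ∀ n : ℕ, (g j ^ n) z = z := by
      intro n
      induction n with
      | zero => simp
      | succ n ih => rw [pow_succ, Perm.mul_apply, hj, ih]
    have h2 : ∀ n : ℕ, g j ^ n = g ((n : ZMod 5) * j) := by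
      intro n
      induction n with
      | zero => simp [g_zero]
      | succ n ih =>
        rw [pow_succ, ih, ← g_add]
        congr 1
        push_cast
        ring
    have h3 := hfix t.val
    rw [h2, ZMod.natCast_zmod_val, ht, g_one] at h3
    exact hfree z h3
  -- quotient
  let r : Setoid Z :=
    { r := fun a b => ∃ j : ZMod 5, g j a = b
      iseqv :=
        { refl := fun a => ⟨0, by simp [g_zero]⟩
          symm := by
            rintro a b ⟨j, rfl⟩
            refine ⟨-j, ?_⟩
            rw [← Perm.mul_apply, ← g_add]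
            simp [g_zero]
          trans := by
            rintro a b c ⟨j, rfl⟩ ⟨k, rfl⟩
            refine ⟨k + j, ?_⟩
            rw [g_add, Perm.mul_apply] } }
  let Q := Quotient r
  let Φ : Q × ZMod 5 → Z := fun q => g q.2 (Quotient.out q.1)
  have hΦinj : Function.Injective Φ := by
    rintro ⟨q, j⟩ ⟨q', j'⟩ h
    simp only [Φ] at h
    have hq : q = q' := by
      have h1 : (Quotient.mk r (Quotient.out q)) = Quotient.mk r (g j (Quotient.out q)) :=
        Quotient.sound ⟨j, rfl⟩
      have h2 : (Quotient.mk r (Quotient.out q')) = Quotient.mk r (g j' (Quotient.out q')) :=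
        Quotient.sound ⟨j', rfl⟩
      rw [Quotient.out_eq] at h1 h2
      rw [h1, h2, h]
    subst hq
    have h3 : g (j - j') (g j' (Quotient.out q)) = g j' (Quotient.out q) := by
      rw [← Perm.mul_apply, ← g_add, sub_add_cancel, h]
    have h4 := hfree' _ _ h3
    have : j = j' := sub_eq_zero.1 h4
    rw [this]
  have hΦsurj : Function.Surjective Φ := by
    intro z
    have h1 : (Quotient.mk r (Quotient.out (Quotient.mk r z))) = Quotient.mk r z :=
      Quotient.out_eq _
    obtain ⟨j, hj⟩ := Quotient.exact h1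
    exact ⟨(Quotient.mk r z, j), hj⟩
  let e := Equiv.ofBijective Φ ⟨hΦinj, hΦsurj⟩
  have hQ : Nat.card Q = 4 := by
    have h1 : Nat.card (Q × ZMod 5) = 20 := by rw [Nat.card_congr e, hcard]
    rw [Nat.card_prod] at h1
    have h2 : Nat.card (ZMod 5) = 5 := by
      rw [Nat.card_eq_fintype_card, ZMod.card]
    rw [h2] at h1
    omega
  have hQfin : Finite Q := by
    have : Nat.card Q ≠ 0 := by omega
    exact Nat.finite_of_card_ne_zero this
  have hQe : Fin 4 ≃ Q := by
    have : Fintype Q := Fintype.ofFinite Q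
    refine Fintype.equivOfCardEq ?_
    rw [← Nat.card_eq_fintype_card (α := Q), hQ]
    simp
  refine ⟨(Equiv.prodCongr hQe (Equiv.refl _)).trans e, ?_⟩
  intro i j
  change g (j + 1) (Quotient.out (hQe i)) = f (g j (Quotient.out (hQe i)))
  rw [add_comm, g_add, g_one, Perm.mul_apply]

end Cfsg.Agent.H17.N21
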