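import Cfsg.Agent.Lib.H17.N21a

/-! # Labelling of a degree 21 action by an element of order 5 with a unique fixed point -/

set_option autoImplicit false
set_option linter.unusedSectionVars false
set_option linter.style.haveILetI false
set_option linter.unusedSimpArgs false
set_option linter.unusedVariables false

namespace Cfsg.Agent.H17.N21

open Equiv Equiv.Perm MulAction Subgroup

variable {Γ X : Type*} [Group Γ] [MulAction Γ X]

/-- Labelling data. -/
structure Lab (x : Γ) (a : X) where
  E : Y ≃ {c : X // c ≠ a}
  hE : ∀ i j, ((E (i, j + 1)) : X) = x • (E (i, j) : X)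

variable {x : Γ} {a : X}

theorem exists_lab [Finite X] (hX : Nat.card X = 21) (hx5 : x ^ 5 = 1) (hax : x • a = a)
    (hfix : ∀ c : X, x • c = c → c = a) : Nonempty (Lab x a) := by
  classical
  let f : Perm {c : X // c ≠ a} :=
    { toFun := fun c => ⟨x • (c : X), fun h => c.2 (by
        have : x • (c : X) = x • a := by rw [h, hax]
        exact MulAction.injective x this)⟩
      invFun := fun c => ⟨x⁻¹ • (c : X), fun h => c.2 (by
        have : x • x⁻¹ • (c : X) = x • a := by rw [h]
        rwa [smul_inv_smul, hax] at this)⟩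
      left_inv := fun c => Subtype.ext (by simp)
      right_inv := fun c => Subtype.ext (by simp) }
  have hfapp : ∀ c, ((f c : {c : X // c ≠ a}) : X) = x • (c : X) := fun c => rfl
  have hpow : ∀ (n : ℕ) c, (((f ^ n) c : {c : X // c ≠ a}) : X) = x ^ n • (c : X) := by
    intro n
    induction n with
    | zero => intro c; simp
    | succ n ih =>
      intro c
      rw [pow_succ, Perm.mul_apply, ih, hfapp, pow_succ, mul_smul]
  have hf5 : f ^ 5 = 1 := by
    ext c
    rw [hpow, hx5]
    simp
  have hfree : ∀ z, f z ≠ z := by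
    intro z h
    exact z.2 (hfix _ (congrArg Subtype.val h))
  have hcard : Nat.card {c : X // c ≠ a} = 20 := by
    have : Fintype X := Fintype.ofFinite X
    rw [Nat.card_eq_fintype_card, Fintype.card_subtype_compl]
    have h1 : Fintype.card X = 21 := by rwa [← Nat.card_eq_fintype_card]
    simp [h1]
  obtain ⟨E, hE⟩ := exists_labeling f hf5 hfree hcard
  exact ⟨⟨E, fun i j => by rw [hE, hfapp]⟩⟩

variable (L : Lab x a)

theorem Lab.E_add (i : Fin 4) (j : ZMod 5) (k : ℕ) :
    ((L.E (i, j + k)) : X) = x ^ k • (L.E (i, j) : X) := by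
  induction k with
  | zero => simp
  | succ k ih =>
    have : j + ((k + 1 : ℕ) : ZMod 5) = (j + k) + 1 := by push_cast; ring
    rw [this, L.hE, ih, pow_succ', mul_smul]

/-- The permutation of the model attached to a stabiliser element. -/
def Lab.sigFun (u : stabilizer Γ a) : Perm Y :=
  L.E.symm.permCongr
    (Perm.subtypePerm (MulAction.toPerm (u : Γ)) (fun c => by
      have hu : (u : Γ) • a = a := u.2
      constructor
      · intro h hc
        apply h
        change (u : Γ) • c = a
        rw [hc, hu]
      · intro h hc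
        apply h
        have : (u : Γ) • c = (u : Γ) • a := by
          rw [hu]; exact hc
        exact MulAction.injective (u : Γ) this))

theorem Lab.E_sigFun (u : stabilizer Γ a) (y : Y) :
    ((L.E (L.sigFun u y)) : X) = (u : Γ) • (L.E y : X) := by
  simp [Lab.sigFun, Equiv.permCongr_apply]

/-- The permutation of the model attached to a stabiliser element, as a homomorphism. -/
def Lab.sig : stabilizer Γ a →* Perm Y :=
  MonoidHom.mk' L.sigFun (by
    intro u v
    ext y : 1
    apply L.E.injective
    apply Subtype.ext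
    rw [Lab.E_sigFun, Perm.mul_apply, Lab.E_sigFun, Lab.E_sigFun]
    simp [mul_smul])

theorem Lab.E_sig (u : stabilizer Γ a) (y : Y) :
    ((L.E (L.sig u y)) : X) = (u : Γ) • (L.E y : X) :=
  L.E_sigFun u y

theorem Lab.sign_sig [Fintype X] [DecidableEq X] (u : stabilizer Γ a) :
    sign (L.sig u) = sign (MulAction.toPerm (u : Γ) : Perm X) := by
  have h1 : L.sig u = L.sigFun u := rfl
  rw [h1, Lab.sigFun, sign_permCongr]
  have hu : (u : Γ) • a = a := u.2
  apply sign_subtypePerm
  intro c hc h
  apply hc
  rw [h]
  exact hu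

/-- Semi-equivariance. -/
theorem Lab.sig_step (u : stabilizer Γ a) (m : ZMod 5) (hx5 : x ^ 5 = 1)
    (hm : (u : Γ) * x * (u : Γ)⁻¹ = x ^ m.val) (i : Fin 4) (j : ZMod 5) :
    L.sig u (i, j + 1) = ((L.sig u (i, j)).1, (L.sig u (i, j)).2 + m) := by
  apply L.E.injective
  apply Subtype.ext
  have h1 : ((L.E ((L.sig u (i, j)).1, (L.sig u (i, j)).2 + m)) : X) =
      x ^ m.val • (L.E (L.sig u (i, j)) : X) := by
    have := L.E_add (L.sig u (i, j)).1 (L.sig u (i, j)).2 m.val
    rw [ZMod.natCast_zmod_val] at this
    exact this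
  rw [h1, L.E_sig, L.E_sig, L.hE, ← mul_smul, ← mul_smul, ← hm]
  congr 1
  group

end Cfsg.Agent.H17.N21
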