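import Cfsg.Agent.Lib.H17.N21b

/-! # Configurations of degree 21 -/

set_option autoImplicit false
set_option linter.unusedSectionVars false
set_option linter.style.haveILetI false
set_option linter.unusedSimpArgs false
set_option linter.unusedVariables false

namespace Cfsg.Agent.H17.N21

open Equiv Equiv.Perm MulAction Subgroup

/-- The configuration: a family of subgroups of order 5 labelled by the points. -/
structure Cfg (Γ X : Type*) [Group Γ] [MulAction Γ X] where
  P : X → Subgroup Γ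
  card5 : ∀ b, Nat.card (P b) = 5
  conj : ∀ (g : Γ) (b : X) (h : Γ), h ∈ P b → g * h * g⁻¹ ∈ P (g • b)
  self_fix : ∀ b (h : Γ), h ∈ P b → h • b = b
  fix : ∀ b c, (∀ h ∈ P b, h • c = c) → c = b
  no25 : ¬ 25 ∣ Nat.card Γ

variable {Γ X : Type*} [Group Γ] [MulAction Γ X]

theorem Cfg.exists_gen [Finite Γ] (C : Cfg Γ X) (a : X) :
    ∃ x : Γ, orderOf x = 5 ∧ C.P a = zpowers x := by
  have h5 := C.card5 a
  have : IsCyclic (C.P a) := isCyclic_of_prime_card (p := 5) h5
  obtain ⟨g, hg⟩ := IsCyclic.exists_generator (α := C.P a)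
  refine ⟨(g : Γ), ?_, ?_⟩
  · have h1 : orderOf g = Nat.card (C.P a) := orderOf_eq_card_of_forall_mem_zpowers hg
    rw [h5] at h1
    rwa [Subgroup.orderOf_coe]
  · ext y
    constructor
    · intro hy
      have := hg ⟨y, hy⟩
      obtain ⟨k, hk⟩ := this
      exact ⟨k, by simpa using congrArg Subtype.val hk⟩
    · rintro ⟨k, rfl⟩
      exact zpow_mem g.2 k

theorem Cfg.fix_gen (C : Cfg Γ X) {a : X} {x : Γ} (hP : C.P a = zpowers x) (c : X)
    (hc : x • c = c) : c = a := by
  apply C.fix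
  intro h hh
  rw [hP] at hh
  obtain ⟨k, rfl⟩ := hh
  exact (MulAction.mem_stabilizer_iff.1 (zpow_mem (MulAction.mem_stabilizer_iff.2 hc) k) :)

theorem Cfg.gen_fix (C : Cfg Γ X) {a : X} {x : Γ} (hP : C.P a = zpowers x) : x • a = a :=
  C.self_fix a x (by rw [hP]; exact mem_zpowers x)

theorem Cfg.conj_gen (C : Cfg Γ X) {a : X} {x : Γ} (hP : C.P a = zpowers x) (u : Γ)
    (hu : u • a = a) : u * x * u⁻¹ ∈ zpowers x := by
  have := C.conj u a x (by rw [hP]; exact mem_zpowers x)
  rwa [hu, hP] at this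

/-- The multiplier homomorphism. -/
theorem exists_mult_hom {x : Γ} (hx : orderOf x = 5) (a : X)
    (hn : ∀ u : stabilizer Γ a, (u : Γ) * x * (u : Γ)⁻¹ ∈ zpowers x) :
    ∃ m : stabilizer Γ a →* (ZMod 5)ˣ,
      ∀ u : stabilizer Γ a, (u : Γ) * x * (u : Γ)⁻¹ = x ^ (((m u : (ZMod 5)ˣ) : ZMod 5)).val := by
  classical
  have hfin : IsOfFinOrder x := by
    rw [← orderOf_pos_iff, hx]; norm_num
  have h1 : ∀ u : stabilizer Γ a, ∃ j : ZMod 5, (u : Γ) * x * (u : Γ)⁻¹ = x ^ j.val := by
    intro u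
    have h2 := hn u
    rw [← hfin.mem_powers_iff_mem_zpowers] at h2
    obtain ⟨n, hn2⟩ := h2
    have hn3 : x ^ n = (u : Γ) * x * (u : Γ)⁻¹ := hn2
    refine ⟨(n : ZMod 5), ?_⟩
    rw [← hn3, ZMod.val_natCast, ← pow_mod_orderOf x n, hx]
  choose j hj using h1
  have huniq : ∀ a b : ZMod 5, x ^ a.val = x ^ b.val → a = b := by
    intro a b h
    rw [pow_inj_mod, hx] at h
    have ha := ZMod.val_lt a
    have hb := ZMod.val_lt b
    rw [Nat.mod_eq_of_lt ha, Nat.mod_eq_of_lt hb] at h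
    exact ZMod.val_injective 5 h
  have hpowmul : ∀ a b : ZMod 5, (x ^ a.val) ^ b.val = x ^ (a * b).val := by
    intro a b
    rw [← pow_mul, ZMod.val_mul, ← pow_mod_orderOf x (a.val * b.val), hx]
  let f : stabilizer Γ a →* ZMod 5 :=
    { toFun := j
      map_one' := by
        apply huniq
        rw [← hj]
        have : (1 : ZMod 5).val = 1 := by decide
        rw [this]
        simp
      map_mul' := by
        intro u v
        apply huniq
        rw [← hj, ← hpowmul, ← hj u, conj_pow, ← hj v]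
        simp only [Subgroup.coe_mul, mul_inv_rev]
        group }
  refine ⟨f.toHomUnits, fun u => ?_⟩
  have : (((f.toHomUnits u : (ZMod 5)ˣ) : ZMod 5)) = j u := by
    simp [f]
  rw [this]
  exact hj u

/-- Counting modulo 5 for a self-map whose fifth power is trivial. -/
theorem card_fix_mod {α : Type*} [Finite α] (f : α → α) (hf : ∀ s, f (f (f (f (f s)))) = s) :
    Nat.card α % 5 = Nat.card {s // f s = s} % 5 := by
  classical
  have : Fintype α := Fintype.ofFinite α
  let F : Function.End α := f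
  have hF : F ^ 5 ^ 1 = 1 := by
    funext s
    exact hf s
  have h := Equiv.Perm.card_fixedPoints_modEq (p := 5) (n := 1) hF
  rw [Nat.card_eq_fintype_card]
  have h2 : Nat.card {s // f s = s} = Fintype.card (Function.fixedPoints F) := by
    rw [Nat.card_eq_fintype_card]
    exact Fintype.card_congr (Equiv.refl _)
  rw [h2]
  exact h

theorem ncard_mod_five {x : Γ} [Finite X] (hx5 : x ^ 5 = 1) {S : Set X}
    (hS : ∀ s ∈ S, x • s ∈ S) {a : X} (ha : a ∈ S) (hax : x • a = a)
    (hfix : ∀ c : X, x • c = c → c = a) : S.ncard % 5 = 1 := by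
  classical
  let f : S → S := fun s => ⟨x • (s : X), hS _ s.2⟩
  have hf : ∀ s, f (f (f (f (f s)))) = s := by
    intro s
    apply Subtype.ext
    simp only [f]
    have : x • x • x • x • x • (s : X) = x ^ 5 • (s : X) := by
      simp [pow_succ, mul_smul]
    rw [this, hx5, one_smul]
  have h := card_fix_mod f hf
  have h1 : Nat.card {s // f s = s} = 1 := by
    rw [Nat.card_eq_one_iff_unique]
    refine ⟨⟨?_⟩, ⟨⟨⟨a, ha⟩, Subtype.ext hax⟩⟩⟩
    rintro ⟨s, hs⟩ ⟨t, ht⟩
    apply Subtype.ext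
    apply Subtype.ext
    have h3 : (s : X) = a := hfix _ (congrArg Subtype.val hs)
    have h4 : (t : X) = a := hfix _ (congrArg Subtype.val ht)
    rw [h3, h4]
  rw [h1] at h
  rw [Set.ncard, ]
  exact h

theorem Cfg.nonempty_of_card (hX : Nat.card X = 21) : Nonempty X := by
  by_contra h
  rw [not_nonempty_iff] at h
  have : Nat.card X = 0 := by simp
  omega

theorem Cfg.transitive_of_normal [Finite Γ] [Finite X] [FaithfulSMul Γ X] [IsPretransitive Γ X]
    (C : Cfg Γ X) (hX : Nat.card X = 21) (A : Subgroup Γ) [A.Normal] (hA : A ≠ ⊥) :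
    IsPretransitive A X := by
  obtain ⟨a⟩ := Cfg.nonempty_of_card hX
  obtain ⟨x, hx, hP⟩ := C.exists_gen a
  have hx5 : x ^ 5 = 1 := by rw [← hx]; exact pow_orderOf_eq_one x
  let B : Set X := orbit A a
  have hblock : IsBlock Γ B := IsBlock.orbit_of_normal a
  have haB : a ∈ B := mem_orbit_self a
  have hdvd : B.ncard ∣ 21 := by
    rw [← hX]
    exact hblock.ncard_dvd_card ⟨a, haB⟩
  have hS : ∀ s ∈ B, x • s ∈ B := by
    rintro s ⟨h, rfl⟩
    refine ⟨⟨x * h * x⁻¹, Subgroup.Normal.conj_mem inferInstance _ h.2 _⟩, ?_⟩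
    have hax := C.gen_fix hP
    change (x * h * x⁻¹) • a = x • (h : Γ) • a
    rw [mul_smul, mul_smul, inv_smul_eq_iff.2 hax.symm]
  have hmod := ncard_mod_five hx5 hS haB (C.gen_fix hP) (C.fix_gen hP)
  have hcases : ∀ n ≤ 21, n ∣ 21 → n % 5 = 1 → n = 1 ∨ n = 21 := by decide
  rcases hcases _ (Nat.le_of_dvd (by norm_num) hdvd) hdvd hmod with h1 | h21
  · exfalso
    apply hA
    rw [eq_bot_iff]
    intro h hh
    rw [Subgroup.mem_bot]
    obtain ⟨a', ha'⟩ := Set.ncard_eq_one.1 h1
    have hfixA : ∀ k : Γ, k ∈ A → k • a = a := by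
      intro k hk
      have h3 : k • a ∈ B := ⟨⟨k, hk⟩, rfl⟩
      rw [ha'] at h3 haB
      rw [Set.mem_singleton_iff] at h3 haB
      rw [h3, haB]
    apply FaithfulSMul.eq_of_smul_eq_smul (α := X)
    intro c
    obtain ⟨g, rfl⟩ := MulAction.exists_smul_eq Γ a c
    rw [one_smul]
    have h4 := hfixA (g⁻¹ * h * g) (by
      have := Subgroup.Normal.conj_mem (inferInstance : A.Normal) h hh g⁻¹
      simpa using this)
    have : h • g • a = g • (g⁻¹ * h * g) • a := by
      simp [mul_smul]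
    rw [this, h4]
  · have hB : B = Set.univ := by
      apply Set.eq_of_subset_of_ncard_le (Set.subset_univ _)
      rw [Set.ncard_univ, hX, h21]
    refine ⟨fun c d => ?_⟩
    have hc : c ∈ B := by rw [hB]; trivial
    have hd : d ∈ B := by rw [hB]; trivial
    obtain ⟨h1, rfl⟩ := hc
    obtain ⟨h2, rfl⟩ := hd
    refine ⟨h2 * h1⁻¹, ?_⟩
    simp [mul_smul]

variable {x : Γ} {a : X}

/-- The induced permutations of `Fin 4` form a homomorphism. -/
theorem Lab.exists_tau_hom (L : Lab x a) (hx5 : x ^ 5 = 1) {S : Type*} [Group S]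
    (up : S →* stabilizer Γ a) (mm : S → ZMod 5) (hm0 : ∀ t, mm t ≠ 0)
    (hc : ∀ t, (up t : Γ) * x * (up t : Γ)⁻¹ = x ^ (mm t).val) :
    ∃ ψ : S →* Perm (Fin 4), (∀ t i j, (L.sig (up t) (i, j)).1 = ψ t i) ∧
      ∀ t, sign (L.sig (up t)) = sign (ψ t) := by
  classical
  have h1 : ∀ t, ∃ τ : Perm (Fin 4), (∀ i j, (L.sig (up t) (i, j)).1 = τ i) ∧
      sign (L.sig (up t)) = sign τ := fun t =>
    model_sign _ (mm t) (hm0 t) (fun i j => L.sig_step (up t) (mm t) hx5 (hc t) i j)
  choose τ hτ1 hτ2 using h1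
  let ψ : S →* Perm (Fin 4) := MonoidHom.mk' τ (by
    intro t s
    ext i : 1
    rw [Perm.mul_apply, ← hτ1 (t * s) i 0, map_mul, map_mul, Perm.mul_apply]
    have h3 := hτ1 s i 0
    have h4 : (L.sig (up s)) (i, 0) = (τ s i, ((L.sig (up s)) (i, 0)).2) := by
      ext
      · rw [h3]
      · rfl
    rw [h4, hτ1 t])
  exact ⟨ψ, hτ1, hτ2⟩

/-- An element commuting with `x` and preserving the fibres has order dividing five. -/
theorem Lab.pow_five_eq_one [FaithfulSMul Γ X] (L : Lab x a) (hx5 : x ^ 5 = 1)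
    (u : stabilizer Γ a) (hu : (u : Γ) * x * (u : Γ)⁻¹ = x)
    (hτ : ∀ i j, (L.sig u (i, j)).1 = i) : (u : Γ) ^ 5 = 1 := by
  have h1 : (1 : ZMod 5).val = 1 := by decide
  have hstep := L.sig_step u 1 hx5 (by rw [h1, pow_one]; exact hu)
  have hform := affine_form (L.sig u) 1 hstep
  have hshift : ∀ i j, L.sig u (i, j) = (i, j + (L.sig u (i, 0)).2) := by
    intro i j
    rw [hform i j, hτ i 0, one_mul]
  have h5 := fibre_shift_pow (L.sig u) _ hshift
  have h6 : L.sig (u ^ 5) = 1 := by rw [map_pow, h5]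
  apply FaithfulSMul.eq_of_smul_eq_smul (α := X)
  intro c
  rw [one_smul]
  by_cases hc : c = a
  · subst hc
    exact (u ^ 5).2
  · have h7 := L.E_sig (u ^ 5) (L.E.symm ⟨c, hc⟩)
    rw [h6] at h7
    simp only [Perm.one_apply, Equiv.apply_symm_apply] at h7
    exact h7.symm

theorem eq_one_of_pow_coprime {g : Γ} {m n : ℕ} (hm : g ^ m = 1) (hn : g ^ n = 1)
    (h : Nat.Coprime m n) : g = 1 := by
  have h1 : orderOf g ∣ m := orderOf_dvd_of_pow_eq_one hm
  have h2 : orderOf g ∣ n := orderOf_dvd_of_pow_eq_one hn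
  have h3 : orderOf g = 1 := Nat.eq_one_of_dvd_coprimes h h1 h2
  exact orderOf_eq_one_iff.1 h3

open scoped Pointwise in
/-- Every nontrivial normal subgroup has order divisible by five. -/
theorem Cfg.five_dvd_of_normal [Finite Γ] [Finite X] [FaithfulSMul Γ X] [IsPretransitive Γ X]
    (C : Cfg Γ X) (hX : Nat.card X = 21) (A : Subgroup Γ) [hAn : A.Normal] (hA : A ≠ ⊥) :
    5 ∣ Nat.card A := by
  by_contra h5
  have hcop : Nat.Coprime 5 (Nat.card A) :=
    (Nat.Prime.coprime_iff_not_dvd (by norm_num)).2 h5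
  haveI trans := C.transitive_of_normal hX A hA
  obtain ⟨a⟩ := Cfg.nonempty_of_card hX
  obtain ⟨x, hx, hP⟩ := C.exists_gen a
  have hx5 : x ^ 5 = 1 := by rw [← hx]; exact pow_orderOf_eq_one x
  obtain ⟨L⟩ := exists_lab hX hx5 (C.gen_fix hP) (C.fix_gen hP)
  -- the powers of elements of A
  have hApow : ∀ z : Γ, z ∈ A → z ^ Nat.card A = 1 := by
    intro z hz
    have := pow_card_eq_one' (x := (⟨z, hz⟩ : A))
    exact congrArg Subtype.val this
  -- stabiliser elements in A commute with x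
  have hcomm : ∀ t : Γ, t ∈ A → t • a = a → t * x * t⁻¹ = x := by
    intro t ht hta
    have h1 : t * x * t⁻¹ * x⁻¹ ∈ A := by
      have h2 : x * t⁻¹ * x⁻¹ ∈ A := hAn.conj_mem _ (A.inv_mem ht) x
      have h3 := A.mul_mem ht h2
      simpa [mul_assoc] using h3
    have h2 : t * x * t⁻¹ * x⁻¹ ∈ zpowers x :=
      (zpowers x).mul_mem (C.conj_gen hP t hta) ((zpowers x).inv_mem (mem_zpowers x))
    have h3 : (t * x * t⁻¹ * x⁻¹) ^ 5 = 1 := by
      obtain ⟨k, hk⟩ := h2
      rw [← hk, ← zpow_natCast, ← zpow_mul, mul_comm, zpow_mul, zpow_natCast, hx5, one_zpow]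
    have h4 := eq_one_of_pow_coprime h3 (hApow _ h1) hcop
    exact mul_inv_eq_one.1 h4
  -- the stabiliser in A
  let S := stabilizer A a
  have hSindex : S.index = 21 := by
    rw [← hX]
    exact index_stabilizer_of_transitive A a
  have hcardA : Nat.card S * 21 = Nat.card A := by
    rw [← hSindex]
    exact S.card_mul_index
  let up : S →* stabilizer Γ a :=
    { toFun := fun t => ⟨((t : A) : Γ), t.2⟩
      map_one' := rfl
      map_mul' := fun _ _ => rfl }
  have h10 : (1 : ZMod 5).val = 1 := by decide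
  obtain ⟨ψ, hψ1, hψ2⟩ := L.exists_tau_hom hx5 up (fun _ => (1 : ZMod 5)) (fun _ => one_ne_zero)
    (fun t => by
      rw [h10, pow_one]
      exact hcomm _ (t : A).2 t.2)
  have hψinj : Function.Injective ψ := by
    rw [injective_iff_map_eq_one]
    intro t ht
    have h1 : (L.sig (up t) : Perm Y) = L.sig (up t) := rfl
    have hτ : ∀ i j, (L.sig (up t) (i, j)).1 = i := by
      intro i j
      rw [hψ1, ht]
      rfl
    have h2 := L.pow_five_eq_one hx5 (up t) (hcomm _ (t : A).2 t.2) hτ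
    have h3 : (((t : A) : Γ)) = 1 := eq_one_of_pow_coprime h2 (hApow _ (t : A).2) hcop
    apply Subtype.ext
    apply Subtype.ext
    exact h3
  have hSdvd : Nat.card S ∣ 24 := by
    have h1 := Subgroup.card_dvd_of_injective ψ hψinj
    have h2 : Nat.card (Perm (Fin 4)) = 24 := by
      rw [Nat.card_eq_fintype_card, Fintype.card_perm]
      rfl
    rwa [h2] at h1
  -- Sylow 7
  haveI : Fact (Nat.Prime 7) := ⟨by norm_num⟩
  let φ : MulAut A := MulAut.conjNormal x
  have hφ : ∀ z : A, ((φ z : A) : Γ) = x * z * x⁻¹ := fun z => MulAut.conjNormal_apply x z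
  have hφ5 : φ ^ 5 = 1 := by
    simp only [φ]
    rw [← map_pow, hx5, map_one]
  let f : Sylow 7 A → Sylow 7 A := fun Q => φ • Q
  have hf : ∀ Q, f (f (f (f (f Q)))) = Q := by
    intro Q
    simp only [f]
    have : φ • φ • φ • φ • φ • Q = φ ^ 5 • Q := by
      simp [pow_succ, mul_smul]
    rw [this, hφ5, one_smul]
  have hcardSyl := card_fix_mod f hf
  have h5Syl : ¬ 5 ∣ Nat.card (Sylow 7 A) := by
    intro h
    apply h5
    obtain ⟨Q⟩ : Nonempty (Sylow 7 A) := inferInstance
    exact h.trans ((Sylow.card_dvd_index Q).trans (Subgroup.index_dvd_card _))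
  obtain ⟨Q, hQ⟩ : ∃ Q, f Q = Q := by
    by_contra hne
    push Not at hne
    have : Nat.card {s // f s = s} = 0 := by
      have : IsEmpty {s // f s = s} := ⟨fun s => hne s.1 s.2⟩
      simp
    rw [this] at hcardSyl
    apply h5Syl
    exact Nat.dvd_of_mod_eq_zero hcardSyl
  have hQinv : ∀ q : A, q ∈ (Q : Subgroup A) → φ q ∈ (Q : Subgroup A) := by
    intro q hq
    have h1 : φ • q ∈ φ • (Q : Subgroup A) := Subgroup.smul_mem_pointwise_smul q φ _ hq
    have h2 : φ • (Q : Subgroup A) = (Q : Subgroup A) := by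
      have := congrArg (fun R : Sylow 7 A => (R : Subgroup A)) hQ
      exact this
    rw [h2] at h1
    exact h1
  -- card Q = 7
  have hAcard : Nat.card A ∣ 504 := by
    rw [← hcardA]
    exact Nat.mul_dvd_mul hSdvd (dvd_refl 21) |>.trans (by norm_num)
  have hQ7 : Nat.card (Q : Subgroup A) = 7 := by
    obtain ⟨n, hn⟩ := IsPGroup.iff_card.1 Q.2
    have h1 : Nat.card (Q : Subgroup A) * (Q : Subgroup A).index = Nat.card A :=
      Subgroup.card_mul_index _
    have h2 : 7 ∣ Nat.card A := by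
      rw [← hcardA]
      exact Dvd.dvd.mul_left (by norm_num) _
    have h3 : ¬ 7 ∣ (Q : Subgroup A).index := Q.not_dvd_index
    have h4 : 7 ∣ Nat.card (Q : Subgroup A) := by
      rw [← h1] at h2
      exact ((Nat.Prime.dvd_mul (by norm_num)).1 h2).resolve_right h3
    have h5' : Nat.card (Q : Subgroup A) ∣ 504 := (Subgroup.card_subgroup_dvd_card _).trans hAcard
    rw [hn] at h4 h5' ⊢
    have hn1 : n ≠ 0 := by
      rintro rfl
      simp at h4
    have hn2 : n < 2 := by
      by_contra hc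
      push Not at hc
      have : 7 ^ 2 ∣ 504 := (pow_dvd_pow 7 hc).trans h5'
      omega
    interval_cases n
    · exact absurd rfl hn1
    · rfl
  -- x has a nontrivial fixed point on Q
  let g : ↥(Q : Subgroup A) → ↥(Q : Subgroup A) := fun q => ⟨φ q, hQinv q q.2⟩
  have hg : ∀ q, g (g (g (g (g q)))) = q := by
    intro q
    apply Subtype.ext
    change φ (φ (φ (φ (φ (q : A))))) = q
    have h1 : φ (φ (φ (φ (φ (q : A))))) = (φ ^ 5) (q : A) := by
      simp [pow_succ]
    rw [h1, hφ5]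
    rfl
  have hcardg := card_fix_mod g hg
  rw [hQ7] at hcardg
  obtain ⟨q, hq1, hq2⟩ : ∃ q, g q = q ∧ q ≠ 1 := by
    by_contra hne
    push Not at hne
    have : Nat.card {s // g s = s} = 1 := by
      rw [Nat.card_eq_one_iff_unique]
      refine ⟨⟨?_⟩, ⟨⟨1, ?_⟩⟩⟩
      · rintro ⟨s, hs⟩ ⟨t, ht⟩
        apply Subtype.ext
        exact (hne s hs).trans (hne t ht).symm
      · apply Subtype.ext
        change φ (1 : A) = 1
        exact map_one φ
    rw [this] at hcardg
    omega
  have hq3 : ((q : A) : Γ) * x = x * ((q : A) : Γ) := by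
    have h1 : φ (q : A) = q := congrArg Subtype.val hq1
    have h2 := hφ (q : A)
    rw [h1] at h2
    calc ((q : A) : Γ) * x = (x * ((q : A) : Γ) * x⁻¹) * x := by rw [← h2]
      _ = x * ((q : A) : Γ) := by group
  have hq4 : ((q : A) : Γ) • a = a := by
    apply C.fix_gen hP
    rw [← mul_smul, ← hq3, mul_smul, C.gen_fix hP]
  have hq7 : (((q : A) : Γ)) ^ 7 = 1 := by
    have := pow_card_eq_one' (x := q)
    rw [hQ7] at this
    exact congrArg (fun z : (Q : Subgroup A) => ((z : A) : Γ)) this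
  have hq24 : (((q : A) : Γ)) ^ 24 = 1 := by
    have hqS : (q : A) ∈ S := hq4
    have := pow_card_eq_one' (x := (⟨(q : A), hqS⟩ : S))
    have h2 : (((q : A) : Γ)) ^ Nat.card S = 1 :=
      congrArg (fun z : S => ((z : A) : Γ)) this
    obtain ⟨d, hd⟩ := hSdvd
    rw [hd, pow_mul, h2, one_pow]
  apply hq2
  have h1 := eq_one_of_pow_coprime hq7 hq24 (by norm_num)
  apply Subtype.ext
  apply Subtype.ext
  exact h1

end Cfsg.Agent.H17.N21
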