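import Cfsg.Agent.Lib.H17.Lab2
import Cfsg.Agent.Lib.H17.N21c

/-! # Twenty-two Sylow 3-subgroups: configurations, basic facts -/

set_option autoImplicit false
set_option linter.unusedSectionVars false
set_option linter.style.haveILetI false
set_option linter.unusedSimpArgs false
set_option linter.unusedVariables false

namespace Cfsg.Agent.H17.N22

open Equiv Equiv.Perm MulAction Subgroup

instance fact_prime_eleven : Fact (Nat.Prime 11) := ⟨by norm_num⟩

/-- The configuration: a family of Sylow 3-subgroups labelled by the points. -/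
structure Cfg3 (Γ X : Type*) [Group Γ] [MulAction Γ X] where
  P : X → Subgroup Γ
  pgrp : ∀ b, IsPGroup 3 (P b)
  conj : ∀ (g : Γ) (b : X) (h : Γ), h ∈ P b → g * h * g⁻¹ ∈ P (g • b)
  self_fix : ∀ b (h : Γ), h ∈ P b → h • b = b
  fix : ∀ b c, (∀ h ∈ P b, h • c = c) → c = b
  syl : ∀ b, ¬ 3 ∣ (P b).index

variable {Γ X : Type*} [Group Γ] [MulAction Γ X]

theorem Cfg3.mem_smul_iff (C : Cfg3 Γ X) (g : Γ) (b : X) (h : Γ) :
    h ∈ C.P (g • b) ↔ g⁻¹ * h * g ∈ C.P b := by
  constructor
  · intro hh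
    have := C.conj g⁻¹ _ h hh
    simpa using this
  · intro hh
    have := C.conj g _ _ hh
    have h2 : g * (g⁻¹ * h * g) * g⁻¹ = h := by group
    rwa [h2] at this

/-- A 3-element fixing a point belongs to the subgroup of the point. -/
theorem Cfg3.mem_of_pow_fix [Finite Γ] (C : Cfg3 Γ X) {z : Γ} {k : ℕ} (hz : z ^ 3 ^ k = 1) {c : X}
    (hc : z • c = c) : z ∈ C.P c := by
  let S : Sylow 3 Γ := (C.pgrp c).toSylow (C.syl c)
  have hS : (S : Subgroup Γ) = C.P c := rfl
  have h1 : z ∈ Subgroup.normalizer ((S : Subgroup Γ) : Set Γ) := by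
    rw [Subgroup.mem_normalizer_iff]
    intro l
    rw [hS]
    have hc' : z⁻¹ • c = c := by
      rw [inv_smul_eq_iff, hc]
    constructor
    · intro hl
      have := C.conj z c l hl
      rwa [hc] at this
    · intro hl
      have := C.conj z⁻¹ c _ hl
      rw [hc'] at this
      have h2 : z⁻¹ * (z * l * z⁻¹) * z⁻¹⁻¹ = l := by group
      rwa [h2] at this
  have hK : IsPGroup 3 (zpowers z) := by
    intro y
    obtain ⟨y, n, rfl⟩ := y
    refine ⟨k, ?_⟩
    apply Subtype.ext
    simp only [Subgroup.coe_pow, OneMemClass.coe_one]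
    change (z ^ n) ^ 3 ^ k = 1
    rw [← zpow_natCast, ← zpow_mul, mul_comm, zpow_mul, zpow_natCast, hz, one_zpow]
  have h2 : z ∈ zpowers z ⊓ Subgroup.normalizer (S : Set Γ) :=
    ⟨mem_zpowers z, h1⟩
  rw [IsPGroup.inf_normalizer_sylow hK S] at h2
  exact h2.2

theorem Cfg3.pow_of_mem [Finite Γ] (C : Cfg3 Γ X) {a : X} {h : Γ} (hh : h ∈ C.P a) :
    ∃ k, h ^ 3 ^ k = 1 := by
  obtain ⟨k, hk⟩ := C.pgrp a ⟨h, hh⟩
  exact ⟨k, congrArg Subtype.val hk⟩

theorem Cfg3.mem_of_fix [Finite Γ] (C : Cfg3 Γ X) {a c : X} {h : Γ} (hh : h ∈ C.P a)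
    (hc : h • c = c) : h ∈ C.P c := by
  obtain ⟨k, hk⟩ := C.pow_of_mem hh
  exact C.mem_of_pow_fix hk hc

theorem Cfg3.card_eq [Finite Γ] (C : Cfg3 Γ X) (a c : X) :
    Nat.card (C.P a) = Nat.card (C.P c) := by
  have h := Sylow.card_eq_multiplicity ((C.pgrp a).toSylow (C.syl a))
  have h' := Sylow.card_eq_multiplicity ((C.pgrp c).toSylow (C.syl c))
  exact h.trans h'.symm

/-- Counting fixed points of a map of prime order. -/
theorem fix_count {α : Type*} [Finite α] {p : ℕ} [Fact p.Prime] (f : α → α) (hf : f^[p] = id) :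
    Nat.card α ≡ Nat.card {s // f s = s} [MOD p] := by
  classical
  have : Fintype α := Fintype.ofFinite α
  let F : Function.End α := f
  have hF : F ^ p ^ 1 = 1 := by
    rw [pow_one]
    have h1 : ((F ^ p : Function.End α) : α → α) = f^[p] :=
      hom_coe_pow (fun g : Function.End α ↦ g) rfl (fun g h ↦ rfl) F p
    rw [h1, hf]
    rfl
  have h := Equiv.Perm.card_fixedPoints_modEq (p := p) (n := 1) hF
  rw [Nat.card_eq_fintype_card]
  have h2 : Nat.card {s // f s = s} = Fintype.card (Function.fixedPoints F) := by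
    rw [Nat.card_eq_fintype_card]
    exact Fintype.card_congr (Equiv.refl _)
  rw [h2]
  exact h

theorem smul_iterate (g : Γ) (x : X) (n : ℕ) : (fun y : X => g • y)^[n] x = g ^ n • x := by
  induction n generalizing x with
  | zero => simp
  | succ n ih =>
    rw [Function.iterate_succ_apply, ih, pow_succ, mul_smul]

/-- Fixed points of an element of prime order on an invariant set. -/
theorem ncard_fix_modEq [Finite X] {g : Γ} {p : ℕ} [Fact p.Prime] (hg : g ^ p = 1) {S : Set X}
    (hS : ∀ s ∈ S, g • s ∈ S) : S.ncard ≡ {s ∈ S | g • s = s}.ncard [MOD p] := by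
  let f : S → S := fun s => ⟨g • (s : X), hS _ s.2⟩
  have hit : ∀ (n : ℕ) (s : S), ((f^[n] s : S) : X) = g ^ n • (s : X) := by
    intro n
    induction n with
    | zero => intro s; simp
    | succ n ih =>
      intro s
      rw [Function.iterate_succ_apply, ih, pow_succ, mul_smul]
  have hf : f^[p] = id := by
    funext s
    apply Subtype.ext
    rw [hit, hg, one_smul]
    rfl
  have h := fix_count f hf
  rw [Nat.card_coe_set_eq] at h
  convert h using 1
  rw [← Nat.card_coe_set_eq]
  apply Nat.card_congr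
  exact
    { toFun := fun s => ⟨⟨s.1, s.2.1⟩, Subtype.ext s.2.2⟩
      invFun := fun s => ⟨s.1.1, s.1.2, congrArg Subtype.val s.2⟩
      left_inv := fun s => rfl
      right_inv := fun s => rfl }

/-- A `p`-group acting on an invariant set. -/
theorem ncard_pgroup_modEq [Finite X] {p : ℕ} [Fact p.Prime] {H : Subgroup Γ} (hH : IsPGroup p H)
    {S : Set X} (hS : ∀ h ∈ H, ∀ s ∈ S, h • s ∈ S) :
    S.ncard ≡ {s ∈ S | ∀ h ∈ H, h • s = s}.ncard [MOD p] := by
  let S' : SubMulAction H X :=
    { carrier := S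
      smul_mem' := fun h s hs => hS h h.2 s hs }
  have h := hH.card_modEq_card_fixedPoints S'
  have h1 : Nat.card S' = S.ncard := Nat.card_coe_set_eq S
  have h2 : Nat.card (fixedPoints H S') = {s ∈ S | ∀ h ∈ H, h • s = s}.ncard := by
    rw [← Nat.card_coe_set_eq]
    apply Nat.card_congr
    exact
      { toFun := fun s => ⟨s.1.1, s.1.2, fun h hh => congrArg Subtype.val (s.2 ⟨h, hh⟩)⟩
        invFun := fun s => ⟨⟨s.1, s.2.1⟩, fun h => Subtype.ext (s.2.2 h h.2)⟩
        left_inv := fun s => rfl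
        right_inv := fun s => rfl }
  rwa [h1, h2] at h

theorem Cfg3.ncard_mod_one [Finite Γ] [Finite X] (C : Cfg3 Γ X) {a : X} {S : Set X}
    (hS : ∀ h ∈ C.P a, ∀ s ∈ S, h • s ∈ S) (ha : a ∈ S) : S.ncard % 3 = 1 := by
  have h := ncard_pgroup_modEq (C.pgrp a) hS
  have h1 : {s ∈ S | ∀ h ∈ C.P a, h • s = s} = {a} := by
    ext s
    constructor
    · rintro ⟨-, hs⟩
      exact C.fix a s hs
    · rintro rfl
      exact ⟨ha, C.self_fix s⟩
  rw [h1, Set.ncard_singleton] at h
  exact h

theorem Cfg3.ncard_mod_zero [Finite Γ] [Finite X] (C : Cfg3 Γ X) {a : X} {S : Set X}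
    (hS : ∀ h ∈ C.P a, ∀ s ∈ S, h • s ∈ S) (ha : a ∉ S) : S.ncard % 3 = 0 := by
  have h := ncard_pgroup_modEq (C.pgrp a) hS
  have h1 : {s ∈ S | ∀ h ∈ C.P a, h • s = s} = ∅ := by
    ext s
    constructor
    · rintro ⟨hs1, hs⟩
      have := C.fix a s hs
      subst this
      exact absurd hs1 ha
    · simp
  rw [h1, Set.ncard_empty] at h
  exact h

theorem Cfg3.nonempty_of_card (hX : Nat.card X = 22) : Nonempty X := by
  by_contra h
  rw [not_nonempty_iff] at h
  have : Nat.card X = 0 := by simp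
  omega

section main

variable [Finite Γ] [Finite X] [FaithfulSMul Γ X] [IsPretransitive Γ X]

/-- An invariant function on the points is either constant or injective. -/
theorem Cfg3.block {α : Type*} (C : Cfg3 Γ X) (hX : Nat.card X = 22) (N : X → α)
    (hN : ∀ (g : Γ) (b c : X), N b = N c → N (g • b) = N (g • c))
    {a c : X} (hac : a ≠ c) (h : N a = N c) (b d : X) : N b = N d := by
  let B : Set X := {d | N d = N a}
  have hB : IsBlock Γ B := by
    rw [isBlock_iff_smul_eq_of_mem]
    intro g y hy hgy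
    have hy' : N y = N a := hy
    have hgy' : N (g • y) = N a := hgy
    ext w
    rw [Set.mem_smul_set_iff_inv_smul_mem]
    constructor
    · intro hw
      have h1 : N (g⁻¹ • w) = N y := (show N (g⁻¹ • w) = N a from hw).trans hy'.symm
      have h2 := hN g _ _ h1
      rw [smul_inv_smul] at h2
      exact h2.trans hgy'
    · intro hw
      have h1 : N w = N (g • y) := (show N w = N a from hw).trans hgy'.symm
      have h2 := hN g⁻¹ _ _ h1
      rw [inv_smul_smul] at h2
      exact h2.trans hy'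
  have haB : a ∈ B := rfl
  have hcB : c ∈ B := h.symm
  have hdvd : B.ncard ∣ 22 := by
    rw [← hX]
    exact hB.ncard_dvd_card ⟨a, haB⟩
  have hS : ∀ h ∈ C.P a, ∀ s ∈ B, h • s ∈ B := by
    intro h hh s hs
    have h1 : N (h • s) = N (h • a) := hN h _ _ hs
    rw [C.self_fix a h hh] at h1
    exact h1
  have hmod := C.ncard_mod_one hS haB
  have h2 : 1 < B.ncard := by
    rw [Set.one_lt_ncard (Set.toFinite B)]
    exact ⟨a, haB, c, hcB, hac⟩
  have hcases : ∀ n ≤ 22, n ∣ 22 → n % 3 = 1 → n = 1 ∨ n = 22 := by decide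
  rcases hcases _ (Nat.le_of_dvd (by norm_num) hdvd) hdvd hmod with h1 | h22
  · omega
  · have hBu : B = Set.univ := by
      apply Set.eq_of_subset_of_ncard_le (Set.subset_univ _)
      rw [Set.ncard_univ, hX, h22]
    have hb : b ∈ B := by rw [hBu]; trivial
    have hd : d ∈ B := by rw [hBu]; trivial
    exact (show N b = N a from hb).trans (show N d = N a from hd).symm


open scoped Pointwise in
/-- Normal subgroups are transitive or trivial. -/
theorem Cfg3.transitive_of_normal (C : Cfg3 Γ X) (hX : Nat.card X = 22) (A : Subgroup Γ) [A.Normal]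
    (hA : A ≠ ⊥) : IsPretransitive A X := by
  let N : X → Set X := fun c => orbit A c
  have hN : ∀ (g : Γ) (b c : X), N b = N c → N (g • b) = N (g • c) := by
    intro g b c h
    have h1 : N (g • b) = g • N b := (smul_orbit_eq_orbit_smul A b g).symm
    have h2 : N (g • c) = g • N c := (smul_orbit_eq_orbit_smul A c g).symm
    rw [h1, h2, h]
  by_cases hex : ∃ a c : X, a ≠ c ∧ N a = N c
  · obtain ⟨a, c, hac, h⟩ := hex
    have hconst := C.block hX N hN hac h
    refine ⟨fun b d => ?_⟩
    have h1 : d ∈ N b := by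
      rw [hconst b d]
      exact mem_orbit_self d
    obtain ⟨k, hk⟩ := h1
    exact ⟨k, hk⟩
  · exfalso
    push Not at hex
    apply hA
    rw [eq_bot_iff]
    intro h hh
    rw [Subgroup.mem_bot]
    apply FaithfulSMul.eq_of_smul_eq_smul (α := X)
    intro c
    rw [one_smul]
    by_contra hne
    apply hex (h • c) c hne
    exact orbit_eq_iff.2 ⟨⟨h, hh⟩, rfl⟩

/-- Every element of order dividing three fixes a point. -/
theorem Cfg3.exists_fix_three (hX : Nat.card X = 22) {z : Γ} (hz : z ^ 3 = 1) : ∃ d : X, z • d = d := by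
  by_contra hne
  push Not at hne
  have h := ncard_fix_modEq (X := X) hz (S := Set.univ) (fun s _ => Set.mem_univ _)
  have h1 : {s ∈ (Set.univ : Set X) | z • s = s} = ∅ := by
    ext s
    simp [hne s]
  rw [h1, Set.ncard_empty, Set.ncard_univ, hX] at h
  exact absurd h (by decide)

theorem Cfg3.orbit_mul (C : Cfg3 Γ X) (a c : X) :
    (orbit (C.P a) c).ncard * Nat.card ↥(C.P a ⊓ C.P c) = Nat.card (C.P a) := by
  have h1 : stabilizer (C.P a) c = (C.P c).subgroupOf (C.P a) := by
    ext p
    rw [mem_stabilizer_iff, Subgroup.mem_subgroupOf]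
    constructor
    · intro h
      exact C.mem_of_fix p.2 h
    · intro h
      exact C.self_fix c _ h
  have h2 : (orbit (C.P a) c).ncard = ((C.P c).subgroupOf (C.P a)).index := by
    rw [← h1, index_stabilizer]
  have h3 := Subgroup.card_mul_index ((C.P c).subgroupOf (C.P a))
  rw [← h2] at h3
  rw [← h3, mul_comm]
  congr 1
  exact Nat.card_congr
    ⟨fun y => ⟨⟨y.1, y.2.1⟩, y.2.2⟩, fun x => ⟨x.1.1, x.1.2, x.2⟩, fun _ => rfl, fun _ => rfl⟩

theorem Cfg3.orbit_cases (C : Cfg3 Γ X) (hX : Nat.card X = 22) (a : X) {c : X} (hc : c ≠ a) :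
    (orbit (C.P a) c).ncard = 3 ∨ (orbit (C.P a) c).ncard = 9 := by
  obtain ⟨n, hn⟩ := (C.pgrp a).card_orbit c
  rw [Nat.card_coe_set_eq] at hn
  have hnot : a ∉ orbit (C.P a) c := by
    rintro ⟨p, hp⟩
    apply hc
    have h1 : (p : Γ) • c = a := hp
    have h2 : (p : Γ)⁻¹ • a = a := by
      rw [inv_smul_eq_iff, C.self_fix a _ p.2]
    calc c = (p : Γ)⁻¹ • ((p : Γ) • c) := (inv_smul_smul _ _).symm
      _ = (p : Γ)⁻¹ • a := by rw [h1]
      _ = a := h2
  have hle : (orbit (C.P a) c).ncard + 1 ≤ 22 := by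
    rw [← Set.ncard_insert_of_notMem hnot, ← hX]
    exact Set.ncard_le_card _
  have hn0 : n ≠ 0 := by
    rintro rfl
    rw [pow_zero, Set.ncard_eq_one] at hn
    obtain ⟨y, hy⟩ := hn
    apply hc
    apply C.fix
    intro h hh
    have h1 : h • c ∈ orbit (C.P a) c := ⟨⟨h, hh⟩, rfl⟩
    have h2 : c ∈ orbit (C.P a) c := mem_orbit_self c
    rw [hy] at h1 h2
    rw [Set.mem_singleton_iff] at h1 h2
    rw [h1, h2]
  have hn3 : n < 3 := by
    by_contra hc3
    push Not at hc3
    have : 3 ^ 3 ≤ 3 ^ n := Nat.pow_le_pow_right (by norm_num) hc3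
    omega
  interval_cases n
  · exact absurd rfl hn0
  · left; simpa using hn
  · right; simpa using hn

theorem Cfg3.orbit_le (C : Cfg3 Γ X) (hX : Nat.card X = 22) (a c : X) :
    (orbit (C.P a) c).ncard ≤ 9 := by
  by_cases hc : c = a
  · subst hc
    have h1 : orbit (C.P c) c = {c} := by
      ext s
      constructor
      · rintro ⟨p, rfl⟩
        exact C.self_fix c _ p.2
      · rintro rfl
        exact mem_orbit_self s
    rw [h1, Set.ncard_singleton]
    norm_num
  · rcases C.orbit_cases hX a hc with h | h <;> omega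

/-- No element of order eleven fixes a point. -/
theorem Cfg3.no_eleven_fix (C : Cfg3 Γ X) (hX : Nat.card X = 22) {w : Γ} (h11 : w ^ 11 = 1) {a : X}
    (ha : w • a = a) : w = 1 := by
  let F : Set X := {c | w • c = c}
  have hF : ∀ h ∈ C.P a, ∀ s ∈ F, h • s ∈ F := by
    intro h hh c hc
    have hc' : w • c = c := hc
    have hO : ∀ s ∈ orbit (C.P a) c, w • s ∈ orbit (C.P a) c := by
      rintro s ⟨k, rfl⟩
      have h1 : w * (k : Γ) * w⁻¹ ∈ C.P a := by
        have := C.conj w a k k.2
        rwa [ha] at this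
      refine ⟨⟨_, h1⟩, ?_⟩
      change (w * (k : Γ) * w⁻¹) • c = w • (k : Γ) • c
      rw [mul_smul, mul_smul, inv_smul_eq_iff.2 hc'.symm]
    have h1 := ncard_fix_modEq h11 hO
    have h2 := C.orbit_le hX a c
    have hsub : {s ∈ orbit (C.P a) c | w • s = s} ⊆ orbit (C.P a) c := fun s hs => hs.1
    have h3 := Set.ncard_le_ncard hsub (Set.toFinite _)
    have h4 : (orbit (C.P a) c).ncard = {s ∈ orbit (C.P a) c | w • s = s}.ncard :=
      Nat.ModEq.eq_of_lt_of_lt h1 (by omega) (by omega)
    have h5 := Set.eq_of_subset_of_ncard_le hsub h4.le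
    have h6 : h • c ∈ orbit (C.P a) c := ⟨⟨h, hh⟩, rfl⟩
    rw [← h5] at h6
    exact h6.2
  have h1 := C.ncard_mod_one hF ha
  have h2 := ncard_fix_modEq (X := X) h11 (S := Set.univ) (fun s _ => Set.mem_univ _)
  have h3 : {s ∈ (Set.univ : Set X) | w • s = s} = F := by
    ext s
    simp [F]
  rw [h3, Set.ncard_univ, hX] at h2
  have h4 : F.ncard ≤ 22 := by
    rw [← hX]
    exact Set.ncard_le_card _
  have h5 : F.ncard = 22 := by
    have h6 : F.ncard % 11 = 0 := h2.symm
    omega
  have hFu : F = Set.univ := by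
    apply Set.eq_of_subset_of_ncard_le (Set.subset_univ _)
    rw [Set.ncard_univ, hX, h5]
  apply FaithfulSMul.eq_of_smul_eq_smul (α := X)
  intro c
  have hc : c ∈ F := by rw [hFu]; trivial
  rw [one_smul]
  exact hc

theorem Cfg3.no_eleven_pow_fix (C : Cfg3 Γ X) (hX : Nat.card X = 22) {w : Γ} {k : ℕ}
    (h11 : w ^ 11 ^ k = 1) {a : X} (ha : w • a = a) : w = 1 := by
  induction k generalizing w with
  | zero => simpa using h11
  | succ k ih =>
    have h1 : (w ^ 11) ^ 11 ^ k = 1 := by
      rw [← pow_mul, ← pow_succ']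
      exact h11
    have h2 : w ^ 11 • a = a := by
      rw [← Nat.succ_pred_eq_of_pos (by norm_num : 0 < 11)]
      simp [pow_succ, mul_smul, ha]
    have h3 := ih h1 h2
    exact C.no_eleven_fix hX h3 ha


open scoped Pointwise in
/-- Every nontrivial normal subgroup has order divisible by three. -/
theorem Cfg3.three_dvd_of_normal (C : Cfg3 Γ X) (hX : Nat.card X = 22) (A : Subgroup Γ) [hAn : A.Normal]
    (hA : A ≠ ⊥) : 3 ∣ Nat.card A := by
  by_contra h3
  haveI trans := C.transitive_of_normal hX A hA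
  obtain ⟨a⟩ := Cfg3.nonempty_of_card hX
  have h22 : 22 ∣ Nat.card A := by
    have h1 : (stabilizer A a).index = 22 := by
      rw [← hX]
      exact index_stabilizer_of_transitive A a
    rw [← h1]
    exact Subgroup.index_dvd_card _
  letI actS : MulAction Γ (Sylow 11 A) :=
    MulAction.compHom _ (MulAut.conjNormal : Γ →* MulAut A)
  letI actA : MulAction Γ A :=
    MulAction.compHom _ (MulAut.conjNormal : Γ →* MulAut A)
  have hsmul : ∀ (h : Γ) (s : A), ((h • s : A) : Γ) = h * s * h⁻¹ := fun h s =>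
    MulAut.conjNormal_apply h s
  have hn : ¬ 3 ∣ Nat.card (Sylow 11 A) := by
    intro h
    apply h3
    obtain ⟨Q⟩ : Nonempty (Sylow 11 A) := inferInstance
    exact h.trans ((Sylow.card_dvd_index Q).trans (Subgroup.index_dvd_card _))
  obtain ⟨Q, hQ⟩ := (C.pgrp a).nonempty_fixed_point_of_prime_not_dvd_card (Sylow 11 A) hn
  have hQ' : ∀ h ∈ C.P a, ∀ s ∈ (Q : Set A), h • s ∈ (Q : Set A) := by
    intro h hh s hs
    have h1 : (MulAut.conjNormal h : MulAut A) • s ∈
        (MulAut.conjNormal h : MulAut A) • (Q : Subgroup A) :=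
      Subgroup.smul_mem_pointwise_smul s _ _ hs
    have h2 : (MulAut.conjNormal h : MulAut A) • (Q : Subgroup A) = (Q : Subgroup A) := by
      have := congrArg (fun R : Sylow 11 A => (R : Subgroup A)) (hQ ⟨h, hh⟩)
      exact this
    rw [h2] at h1
    exact h1
  -- the order of Q
  have hpow : ∀ q : (Q : Subgroup A), ∃ k, ((q : A) : Γ) ^ 11 ^ k = 1 := by
    intro q
    obtain ⟨k, hk⟩ := Q.2 q
    exact ⟨k, congrArg (fun z : (Q : Subgroup A) => ((z : A) : Γ)) hk⟩
  have hinj : Function.Injective (fun q : (Q : Subgroup A) => ((q : A) : Γ) • a) := by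
    intro q r hqr
    have h1 : ((q⁻¹ * r : (Q : Subgroup A)) : A).1 • a = a := by
      have h2 : ((q : A) : Γ) • a = ((r : A) : Γ) • a := hqr
      simp only [Subgroup.coe_mul, InvMemClass.coe_inv, mul_smul]
      rw [inv_smul_eq_iff, h2]
    obtain ⟨k, hk⟩ := hpow (q⁻¹ * r)
    have h3 := C.no_eleven_pow_fix hX hk h1
    have h4 : q⁻¹ * r = 1 := by
      apply Subtype.ext
      apply Subtype.ext
      exact h3
    exact (inv_mul_eq_one.1 h4)
  have hle : Nat.card (Q : Subgroup A) ≤ 22 := by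
    rw [← hX]
    exact Nat.card_le_card_of_injective _ hinj
  have hQ11 : Nat.card (Q : Subgroup A) = 11 := by
    obtain ⟨n, hn⟩ := IsPGroup.iff_card.1 Q.2
    have h1 : Nat.card (Q : Subgroup A) * (Q : Subgroup A).index = Nat.card A :=
      Subgroup.card_mul_index _
    have h2 : 11 ∣ Nat.card A := (by norm_num : 11 ∣ 22).trans h22
    have h4 : 11 ∣ Nat.card (Q : Subgroup A) := by
      rw [← h1] at h2
      exact ((Nat.Prime.dvd_mul (by norm_num)).1 h2).resolve_right Q.not_dvd_index
    rw [hn] at h4 hle ⊢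
    have hn1 : n ≠ 0 := by
      rintro rfl
      simp at h4
    have hn2 : n < 2 := by
      by_contra hc
      push Not at hc
      have : 11 ^ 2 ≤ 11 ^ n := Nat.pow_le_pow_right (by norm_num) hc
      omega
    interval_cases n
    · exact absurd rfl hn1
    · rfl
  have hcount := ncard_pgroup_modEq (C.pgrp a) hQ'
  have hQset : ((Q : Subgroup A) : Set A).ncard = 11 := by
    rw [← Nat.card_coe_set_eq]
    exact hQ11
  change ((Q : Subgroup A) : Set A).ncard ≡ _ [MOD 3] at hcount
  rw [hQset] at hcount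
  obtain ⟨s, hs1, hs2, hs3⟩ : ∃ s : A, s ∈ (Q : Subgroup A) ∧ (∀ h ∈ C.P a, h • s = s) ∧ s ≠ 1 := by
    by_contra hne
    push Not at hne
    have h1 : {s ∈ (Q : Set A) | ∀ h ∈ C.P a, h • s = s} = {1} := by
      ext s
      constructor
      · rintro ⟨h2, h3⟩
        exact hne s h2 h3
      · rintro rfl
        refine ⟨(Q : Subgroup A).one_mem, fun h hh => ?_⟩
        apply Subtype.ext
        rw [hsmul]
        simp
    rw [h1, Set.ncard_singleton] at hcount
    exact absurd hcount (by decide)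
  have hcomm : ∀ h ∈ C.P a, h * (s : Γ) = s * h := by
    intro h hh
    have h1 := hs2 h hh
    have h2 := hsmul h s
    rw [h1] at h2
    calc h * (s : Γ) = (h * s * h⁻¹) * h := by group
      _ = s * h := by rw [← h2]
  have hsa : (s : Γ) • a = a := by
    apply C.fix
    intro h hh
    rw [← mul_smul, hcomm h hh, mul_smul, C.self_fix a h hh]
  have hs11 : (s : Γ) ^ 11 = 1 := by
    have := pow_card_eq_one' (x := (⟨s, hs1⟩ : (Q : Subgroup A)))
    rw [hQ11] at this
    exact congrArg (fun z : (Q : Subgroup A) => ((z : A) : Γ)) this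
  exact hs3 (Subtype.ext (C.no_eleven_fix hX hs11 hsa))

end main

end Cfsg.Agent.H17.N22
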