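import Cfsg.Agent.Lib.H17.OTG1
import Cfsg.Agent.Lib.H17.OTG2
import Cfsg.Agent.Lib.H17.OTG3
import Cfsg.Agent.Lib.H17.OTG6
import Cfsg.Agent.Lib.H17.OTG7
import Cfsg.Agent.Lib.H17.OTG8
import Cfsg.Agent.Lib.H17.OTG16
import Cfsg.Agent.Lib.H17.OTG17
import Cfsg.Agent.Lib.H17.OTG19
import Cfsg.Agent.Lib.H17.OTG28
import Cfsg.Agent.Lib.H17.OTG31
import Cfsg.Agent.Lib.H17.OTG33
import Cfsg.Agent.Lib.H17.OTG43
import Cfsg.Agent.Lib.H17.OTG62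
import Cfsg.Agent.Lib.H17.OTG67
import Cfsg.Agent.Lib.H17.OTG100
import Cfsg.Agent.Lib.H17.OTG141
import Cfsg.Agent.Lib.H17.OTG142
import Cfsg.Agent.Lib.H17.OTG178
import Cfsg.Agent.Lib.H17.OTG257
import Cfsg.Agent.Lib.H17.OTG270
import Cfsg.Agent.Lib.H17.OTG278
import Cfsg.Agent.Lib.H17.OTG287
import Cfsg.Agent.Lib.H17.OTG389
import Cfsg.Agent.Lib.H17.OTG470
import Cfsg.Agent.Lib.H17.OTG509
import Cfsg.Agent.Lib.H17.OTG579
import Cfsg.Agent.Lib.H17.OTG853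
import Cfsg.Agent.Lib.H17.OTG923
import Cfsg.Agent.Lib.H17.OTGY

set_option linter.style.longLine false
set_option maxRecDepth 100000
set_option maxHeartbeats 0
set_option synthInstance.maxSize 100000
set_option synthInstance.maxHeartbeats 0

namespace Cfsg.Agent.H17.OT

abbrev GG : Type := (Fin 4 → ↥(XX G3.gs0)) × ((Fin 1 → ↥(XX G6.gs0)) × ((Fin 1 → ↥(XX G7.gs0)) × ((Fin 2 → ↥(XX G17.gs0)) × ((Fin 1 → ↥(XX G19.gs0)) × ((Fin 3 → ↥(XX G31.gs0)) × ((Fin 2 → ↥(XX G33.gs0)) × ((Fin 2 → ↥(XX G43.gs0)) × ((Fin 3 → ↥(XX G62.gs0)) × ((Fin 2 → ↥(XX G67.gs0)) × ((Fin 2 → ↥(XX G141.gs0)) × ((Fin 2 → ↥(XX G142.gs0)) × ((Fin 2 → ↥(XX G178.gs0)) × ((Fin 3 → ↥(XX G257.gs0)) × ((Fin 2 → ↥(XX G278.gs0)) × ((Fin 1 → ↥(XX G389.gs0)) × ((Fin 3 → ↥(XX G579.gs0))))))))))))))))))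
abbrev HH : Type := (Fin 3 → ↥(XX GY.gs0)) × ((Fin 4 → ↥(XX G1.gs0)) × ((Fin 3 → ↥(XX G2.gs0)) × ((Fin 1 → ↥(XX G8.gs0)) × ((Fin 2 → ↥(XX G16.gs0)) × ((Fin 4 → ↥(XX G28.gs0)) × ((Fin 4 → ↥(XX G100.gs0)) × ((Fin 2 → ↥(XX G270.gs0)) × ((Fin 2 → ↥(XX G287.gs0)) × ((Fin 2 → ↥(XX G470.gs0)) × ((Fin 1 → ↥(XX G509.gs0)) × ((Fin 3 → ↥(XX G853.gs0)) × ((Fin 3 → ↥(XX G923.gs0))))))))))))))

noncomputable def lhsV (d : ℕ) : ℕ := tab G3.v d ^ 4 * (tab G6.v d ^ 1 * (tab G7.v d ^ 1 * (tab G17.v d ^ 2 * (tab G19.v d ^ 1 * (tab G31.v d ^ 3 * (tab G33.v d ^ 2 * (tab G43.v d ^ 2 * (tab G62.v d ^ 3 * (tab G67.v d ^ 2 * (tab G141.v d ^ 2 * (tab G142.v d ^ 2 * (tab G178.v d ^ 2 * (tab G257.v d ^ 3 * (tab G278.v d ^ 2 * (tab G389.v d ^ 1 * (tab G579.v d ^ 3))))))))))))))))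
noncomputable def rhsV (d : ℕ) : ℕ := tab GY.v d ^ 3 * (tab G1.v d ^ 4 * (tab G2.v d ^ 3 * (tab G8.v d ^ 1 * (tab G16.v d ^ 2 * (tab G28.v d ^ 4 * (tab G100.v d ^ 4 * (tab G270.v d ^ 2 * (tab G287.v d ^ 2 * (tab G470.v d ^ 2 * (tab G509.v d ^ 1 * (tab G853.v d ^ 3 * (tab G923.v d ^ 3))))))))))))

theorem vals : ∀ d ∈ divs84, lhsV d = rhsV d := by decide +kernel

theorem nsolGG (n : ℕ) : Nsol GG n = lhsV (Nat.gcd n 84) := by
  simp only [GG, Nsol_prodG, Nsol_piG, G1.nsol, G2.nsol, G3.nsol, G6.nsol, G7.nsol, G8.nsol, G16.nsol, G17.nsol, G19.nsol, G28.nsol, G31.nsol, G33.nsol, G43.nsol, G62.nsol, G67.nsol, G100.nsol, G141.nsol, G142.nsol, G178.nsol, G257.nsol, G270.nsol, G278.nsol, G287.nsol, G389.nsol, G470.nsol, G509.nsol, G579.nsol, G853.nsol, G923.nsol, lhsV]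

theorem nsolHH (n : ℕ) : Nsol HH n = rhsV (Nat.gcd n 84) := by
  simp only [HH, Nsol_prodG, Nsol_piG, GY.nsol, G1.nsol, G2.nsol, G3.nsol, G6.nsol, G7.nsol, G8.nsol, G16.nsol, G17.nsol, G19.nsol, G28.nsol, G31.nsol, G33.nsol, G43.nsol, G62.nsol, G67.nsol, G100.nsol, G141.nsol, G142.nsol, G178.nsol, G257.nsol, G270.nsol, G278.nsol, G287.nsol, G389.nsol, G470.nsol, G509.nsol, G579.nsol, G853.nsol, G923.nsol, rhsV]

theorem solvGG : Group.IsSolvable GG := by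
  haveI : Group.IsSolvable (XX G3.gs0) := G3.solv0
  haveI : Group.IsSolvable (Fin 4 → ↥(XX G3.gs0)) := isSolvable_pi_fin _ 4
  haveI : Group.IsSolvable (XX G6.gs0) := G6.solv0
  haveI : Group.IsSolvable (Fin 1 → ↥(XX G6.gs0)) := isSolvable_pi_fin _ 1
  haveI : Group.IsSolvable (XX G7.gs0) := G7.solv0
  haveI : Group.IsSolvable (Fin 1 → ↥(XX G7.gs0)) := isSolvable_pi_fin _ 1
  haveI : Group.IsSolvable (XX G17.gs0) := G17.solv0
  haveI : Group.IsSolvable (Fin 2 → ↥(XX G17.gs0)) := isSolvable_pi_fin _ 2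
  haveI : Group.IsSolvable (XX G19.gs0) := G19.solv0
  haveI : Group.IsSolvable (Fin 1 → ↥(XX G19.gs0)) := isSolvable_pi_fin _ 1
  haveI : Group.IsSolvable (XX G31.gs0) := G31.solv0
  haveI : Group.IsSolvable (Fin 3 → ↥(XX G31.gs0)) := isSolvable_pi_fin _ 3
  haveI : Group.IsSolvable (XX G33.gs0) := G33.solv0
  haveI : Group.IsSolvable (Fin 2 → ↥(XX G33.gs0)) := isSolvable_pi_fin _ 2
  haveI : Group.IsSolvable (XX G43.gs0) := G43.solv0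
  haveI : Group.IsSolvable (Fin 2 → ↥(XX G43.gs0)) := isSolvable_pi_fin _ 2
  haveI : Group.IsSolvable (XX G62.gs0) := G62.solv0
  haveI : Group.IsSolvable (Fin 3 → ↥(XX G62.gs0)) := isSolvable_pi_fin _ 3
  haveI : Group.IsSolvable (XX G67.gs0) := G67.solv0
  haveI : Group.IsSolvable (Fin 2 → ↥(XX G67.gs0)) := isSolvable_pi_fin _ 2
  haveI : Group.IsSolvable (XX G141.gs0) := G141.solv0
  haveI : Group.IsSolvable (Fin 2 → ↥(XX G141.gs0)) := isSolvable_pi_fin _ 2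
  haveI : Group.IsSolvable (XX G142.gs0) := G142.solv0
  haveI : Group.IsSolvable (Fin 2 → ↥(XX G142.gs0)) := isSolvable_pi_fin _ 2
  haveI : Group.IsSolvable (XX G178.gs0) := G178.solv0
  haveI : Group.IsSolvable (Fin 2 → ↥(XX G178.gs0)) := isSolvable_pi_fin _ 2
  haveI : Group.IsSolvable (XX G257.gs0) := G257.solv0
  haveI : Group.IsSolvable (Fin 3 → ↥(XX G257.gs0)) := isSolvable_pi_fin _ 3
  haveI : Group.IsSolvable (XX G278.gs0) := G278.solv0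
  haveI : Group.IsSolvable (Fin 2 → ↥(XX G278.gs0)) := isSolvable_pi_fin _ 2
  haveI : Group.IsSolvable (XX G389.gs0) := G389.solv0
  haveI : Group.IsSolvable (Fin 1 → ↥(XX G389.gs0)) := isSolvable_pi_fin _ 1
  haveI : Group.IsSolvable (XX G579.gs0) := G579.solv0
  haveI : Group.IsSolvable (Fin 3 → ↥(XX G579.gs0)) := isSolvable_pi_fin _ 3
  infer_instance

theorem not_solvHH : ¬ Group.IsSolvable HH := by
  intro h
  apply GY.not_solv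
  let f : HH →* ↥(XX GY.gs0) :=
    (Pi.evalMonoidHom (fun _ : Fin 3 => ↥(XX GY.gs0)) 0).comp (MonoidHom.fst _ _)
  refine Group.isSolvable_of_surjective (f := f) ?_
  intro y
  exact ⟨(fun _ => y, 1), rfl⟩

theorem order_type_main (n : ℕ) :
    Nat.card {g : GG // orderOf g = n} = Nat.card {h : HH // orderOf h = n} := by
  refine card_order_eq_of_Nsol_eq GG HH ?_ n
  intro m
  rw [nsolGG, nsolHH]
  exact vals _ (gcd_mem_divs84 m)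

end Cfsg.Agent.H17.OT
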