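import Mathlib
import Cfsg.Agent.Lib.H13.CharP
import Cfsg.Agent.Lib.H05.Comp3
import Cfsg.Agent.Lib.H01.Fitting
import Cfsg.Agent.Lib.H01.Coprime

/-!
# The Thompson--Wielandt configuration

`M₁ ≠ M₂` maximal subgroups with trivial core, `A`, `B` the cores of `M₁ ⊓ M₂` in `M₁`, `M₂`,
and `X`, `Y` the cores of `A ⊓ B` in `M₁`, `M₂`.
-/

set_option autoImplicit false
set_option linter.style.longLine false
set_option linter.unusedSectionVars false

namespace Cfsg.Agent.H17.TW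

open Cfsg Cfsg.Agent.H13 Cfsg.Agent.H05 Subgroup
open scoped commutatorElement

variable {G : Type*} [Group G] [Finite G]

/-- The configuration. -/
structure Setup (M₁ M₂ A B X Y : Subgroup G) : Prop where
  max₁ : IsCoatom M₁
  max₂ : IsCoatom M₂
  core₁ : M₁.normalCore = ⊥
  core₂ : M₂.normalCore = ⊥
  ne : M₁ ≠ M₂
  A_le : A ≤ M₁ ⊓ M₂
  A_nrm : M₁ ≤ normalizer (A : Set G)
  A_max : ∀ T : Subgroup G, T ≤ M₁ ⊓ M₂ → M₁ ≤ normalizer (T : Set G) → T ≤ A
  B_le : B ≤ M₁ ⊓ M₂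
  B_nrm : M₂ ≤ normalizer (B : Set G)
  B_max : ∀ T : Subgroup G, T ≤ M₁ ⊓ M₂ → M₂ ≤ normalizer (T : Set G) → T ≤ B
  X_le : X ≤ A ⊓ B
  X_nrm : M₁ ≤ normalizer (X : Set G)
  X_max : ∀ T : Subgroup G, T ≤ A ⊓ B → M₁ ≤ normalizer (T : Set G) → T ≤ X
  Y_le : Y ≤ A ⊓ B
  Y_nrm : M₂ ≤ normalizer (Y : Set G)
  Y_max : ∀ T : Subgroup G, T ≤ A ⊓ B → M₂ ≤ normalizer (T : Set G) → T ≤ Y

variable {M₁ M₂ A B X Y : Subgroup G}

theorem Setup.symm (h : Setup M₁ M₂ A B X Y) : Setup M₂ M₁ B A Y X where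
  max₁ := h.max₂
  max₂ := h.max₁
  core₁ := h.core₂
  core₂ := h.core₁
  ne := h.ne.symm
  A_le := by rw [inf_comm]; exact h.B_le
  A_nrm := h.B_nrm
  A_max := fun T hT hN => h.B_max T (by rwa [inf_comm]) hN
  B_le := by rw [inf_comm]; exact h.A_le
  B_nrm := h.A_nrm
  B_max := fun T hT hN => h.A_max T (by rwa [inf_comm]) hN
  X_le := by rw [inf_comm]; exact h.Y_le
  X_nrm := h.Y_nrm
  X_max := fun T hT hN => h.Y_max T (by rwa [inf_comm]) hN
  Y_le := by rw [inf_comm]; exact h.X_le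
  Y_nrm := h.X_nrm
  Y_max := fun T hT hN => h.X_max T (by rwa [inf_comm]) hN

/-! ### Elementary normalizer facts -/

theorem le_normalizer_of_conj {M T : Subgroup G} (h : ∀ m ∈ M, ∀ x ∈ T, m * x * m⁻¹ ∈ T) :
    M ≤ normalizer (T : Set G) := by
  intro m hm
  rw [mem_normalizer_iff]
  intro x
  constructor
  · exact h m hm x
  · intro hx
    have := h m⁻¹ (inv_mem hm) _ hx
    simpa [mul_assoc] using this

theorem conj_mem {M T : Subgroup G} (h : M ≤ normalizer (T : Set G)) {m x : G} (hm : m ∈ M) (hx : x ∈ T) :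
    m * x * m⁻¹ ∈ T := H01.conj_mem_of_mem_normalizer (h hm) hx

theorem conj_inv_mem {M T : Subgroup G} (h : M ≤ normalizer (T : Set G)) {m x : G} (hm : m ∈ M) (hx : x ∈ T) :
    m⁻¹ * x * m ∈ T := H01.conj_inv_mem_of_mem_normalizer (h hm) hx

/-- A nontrivial subgroup of a core-free maximal subgroup `M` normalized by `M` has normalizer `M`. -/
theorem normalizer_eq {M T : Subgroup G} (hmax : IsCoatom M) (hcore : M.normalCore = ⊥)
    (hTM : T ≤ M) (hT : M ≤ normalizer (T : Set G)) (hne : T ≠ ⊥) : normalizer (T : Set G) = M := by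
  rcases hmax.le_iff.mp hT with h | h
  · exfalso
    apply hne
    have hn : T.Normal := normalizer_eq_top_iff.mp h
    rw [eq_bot_iff, ← hcore]
    exact normal_le_normalCore.mpr hTM
  · exact h

theorem centralizer_le {M T : Subgroup G} (hmax : IsCoatom M) (hcore : M.normalCore = ⊥)
    (hTM : T ≤ M) (hT : M ≤ normalizer (T : Set G)) (hne : T ≠ ⊥) :
    centralizer (T : Set G) ≤ M := by
  rw [← normalizer_eq hmax hcore hTM hT hne]
  apply le_normalizer_of_conj
  intro m hm x hx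
  have := (mem_centralizer_iff.mp hm) x hx
  rw [← this]
  simpa [mul_assoc] using hx

/-- A subgroup of `M₁ ⊓ M₂` normalized by both maximal subgroups is trivial. -/
theorem eq_bot_of_both (h : Setup M₁ M₂ A B X Y) {T : Subgroup G} (hT : T ≤ M₁ ⊓ M₂)
    (h1 : M₁ ≤ normalizer (T : Set G)) (h2 : M₂ ≤ normalizer (T : Set G)) : T = ⊥ := by
  by_contra hne
  have e1 := normalizer_eq h.max₁ h.core₁ (hT.trans inf_le_left) h1 hne
  have e2 := normalizer_eq h.max₂ h.core₂ (hT.trans inf_le_right) h2 hne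
  exact h.ne (e1.symm.trans e2)

/-- Element form of the maximality of `B`. -/
theorem le_B (h : Setup M₁ M₂ A B X Y) {S : Subgroup G} (hS : S ≤ M₂)
    (hc : ∀ m ∈ M₂, ∀ x ∈ S, m * x * m⁻¹ ∈ M₁) : S ≤ B := by
  let T : Subgroup G :=
    { carrier := {x | x ∈ M₂ ∧ ∀ m ∈ M₂, m * x * m⁻¹ ∈ M₁}
      mul_mem' := by
        rintro a b ⟨ha, ha'⟩ ⟨hb, hb'⟩
        refine ⟨M₂.mul_mem ha hb, fun m hm => ?_⟩
        have : m * (a * b) * m⁻¹ = (m * a * m⁻¹) * (m * b * m⁻¹) := by group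
        rw [this]
        exact M₁.mul_mem (ha' m hm) (hb' m hm)
      one_mem' := ⟨M₂.one_mem, fun m _ => by simp [M₁.one_mem]⟩
      inv_mem' := by
        rintro a ⟨ha, ha'⟩
        refine ⟨M₂.inv_mem ha, fun m hm => ?_⟩
        have : m * a⁻¹ * m⁻¹ = (m * a * m⁻¹)⁻¹ := by group
        rw [this]
        exact M₁.inv_mem (ha' m hm) }
  have hT1 : T ≤ M₁ ⊓ M₂ := by
    rintro x ⟨hx, hx'⟩
    have := hx' 1 M₂.one_mem
    simp only [one_mul, inv_one, mul_one] at this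
    exact ⟨this, hx⟩
  have hT2 : M₂ ≤ normalizer (T : Set G) := by
    apply le_normalizer_of_conj
    rintro m hm x ⟨hx, hx'⟩
    refine ⟨M₂.mul_mem (M₂.mul_mem hm hx) (M₂.inv_mem hm), fun m' hm' => ?_⟩
    have : m' * (m * x * m⁻¹) * m'⁻¹ = (m' * m) * x * (m' * m)⁻¹ := by group
    rw [this]
    exact hx' _ (M₂.mul_mem hm' hm)
  have hST : S ≤ T := fun x hx => ⟨hS hx, fun m hm => hc m hm x hx⟩
  exact hST.trans (h.B_max T hT1 hT2)

/-- Lemma L1: a subgroup of `M₂` commuting with a normal subgroup of `M₂` containing a nontrivial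
normal subgroup of `M₁` lies in `B`. -/
theorem le_B_of_comm (h : Setup M₁ M₂ A B X Y) {R U T : Subgroup G} (hR : R ≤ M₂)
    (hU : M₂ ≤ normalizer (U : Set G)) (hc : ∀ r ∈ R, ∀ u ∈ U, r * u = u * r)
    (hTU : T ≤ U) (hne : T ≠ ⊥) (hTM : T ≤ M₁) (hTn : M₁ ≤ normalizer (T : Set G)) : R ≤ B := by
  apply le_B h hR
  intro m hm x hx
  apply centralizer_le h.max₁ h.core₁ hTM hTn hne
  rw [mem_centralizer_iff]
  intro t ht
  have hu : m⁻¹ * t * m ∈ U := conj_inv_mem hU hm (hTU ht)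
  have := hc x hx _ hu
  calc t * (m * x * m⁻¹) = m * ((m⁻¹ * t * m) * x) * m⁻¹ := by group
    _ = m * (x * (m⁻¹ * t * m)) * m⁻¹ := by rw [this]
    _ = (m * x * m⁻¹) * t := by group

section
variable (h : Setup M₁ M₂ A B X Y)
include h

theorem X_le_A : X ≤ A := h.X_le.trans inf_le_left
theorem X_le_B : X ≤ B := h.X_le.trans inf_le_right
theorem Y_le_A : Y ≤ A := h.Y_le.trans inf_le_left
theorem Y_le_B : Y ≤ B := h.Y_le.trans inf_le_right
theorem A_le_M₁ : A ≤ M₁ := h.A_le.trans inf_le_left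
theorem A_le_M₂ : A ≤ M₂ := h.A_le.trans inf_le_right
theorem B_le_M₁ : B ≤ M₁ := h.B_le.trans inf_le_left
theorem B_le_M₂ : B ≤ M₂ := h.B_le.trans inf_le_right
theorem X_le_M₁ : X ≤ M₁ := (X_le_A h).trans (A_le_M₁ h)
theorem Y_le_M₂ : Y ≤ M₂ := (Y_le_B h).trans (B_le_M₂ h)
theorem X_le_M₂ : X ≤ M₂ := (X_le_B h).trans (B_le_M₂ h)
theorem Y_le_M₁ : Y ≤ M₁ := (Y_le_A h).trans (A_le_M₁ h)

/-- `A ⊓ B` is a normal subgroup of `A`. -/
theorem A_nrm_inf : A ≤ normalizer ((A ⊓ B : Subgroup G) : Set G) := by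
  apply le_normalizer_of_conj
  rintro m hm x ⟨hxA, hxB⟩
  exact ⟨A.mul_mem (A.mul_mem hm hxA) (A.inv_mem hm), conj_mem h.B_nrm (A_le_M₂ h hm) hxB⟩

/-- Self-centralizing: `C_{M₂}(B) ≤ B`. -/
theorem cent_B (hX : X ≠ ⊥) : M₂ ⊓ centralizer (B : Set G) ≤ B := by
  apply h.B_max
  · rintro x ⟨hx, hxc⟩
    refine ⟨?_, hx⟩
    apply centralizer_le h.max₁ h.core₁ (X_le_M₁ h) h.X_nrm hX
    exact Subgroup.centralizer_le (X_le_B h) hxc
  · apply le_normalizer_of_conj
    rintro m hm x ⟨hx, hxc⟩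
    refine ⟨M₂.mul_mem (M₂.mul_mem hm hx) (M₂.inv_mem hm), ?_⟩
    show _ ∈ centralizer (B : Set G)
    rw [mem_centralizer_iff]
    intro b hb
    have hb' : m⁻¹ * b * m ∈ B := conj_inv_mem h.B_nrm hm hb
    have := (mem_centralizer_iff.mp hxc) _ hb'
    calc b * (m * x * m⁻¹) = m * ((m⁻¹ * b * m) * x) * m⁻¹ := by group
      _ = m * (x * (m⁻¹ * b * m)) * m⁻¹ := by rw [this]
      _ = (m * x * m⁻¹) * b := by group

theorem cent_A (hY : Y ≠ ⊥) : M₁ ⊓ centralizer (A : Set G) ≤ A := cent_B h.symm hY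

end

/-! ### Components -/

/-- `K` is a component of the subgroup `H`. -/
def CompIn (K H : Subgroup G) : Prop := K ≤ H ∧ IsComponent (K.subgroupOf H)

/-- Layer as a subgroup of `G`. -/
def lay (H : Subgroup G) : Subgroup G := sSup {K | CompIn K H}

theorem CompIn.quasi {K H : Subgroup G} (hK : CompIn K H) : IsQuasisimple K :=
  qs_of_subgroupOf hK.1 hK.2.2

theorem comm_self_of_quasi {K : Subgroup G} (hK : IsQuasisimple K) : ⁅K, K⁆ = K := by
  have h1 := qs_perfect hK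
  have h0 : (⊤ : Subgroup K).map K.subtype = K := by
    rw [← MonoidHom.range_eq_map, range_subtype]
  have h2 : (commutator K).map K.subtype = ⁅K, K⁆ := by
    rw [commutator_def, Subgroup.map_commutator, h0]
  rw [← h2, h1, h0]

theorem CompIn.le_lay {K H : Subgroup G} (hK : CompIn K H) : K ≤ lay H := le_sSup hK

theorem lay_le {H : Subgroup G} : lay H ≤ H := sSup_le fun _ hK => hK.1

/-- Conjugates of components. -/
theorem CompIn.conj {K H : Subgroup G} (hK : CompIn K H) {m : G} (hm : m ∈ normalizer (H : Set G)) :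
    CompIn (K.map (MulAut.conj m).toMonoidHom) H := by
  have hle : K.map (MulAut.conj m).toMonoidHom ≤ H := by
    rintro _ ⟨x, hx, rfl⟩
    exact conj_mem (M := normalizer (H : Set G)) le_rfl hm (hK.1 hx)
  refine ⟨hle, ?_, ?_⟩
  · let f : H →* H := ((MulAut.conj m).toMonoidHom.comp H.subtype).codRestrict H
      (fun x => conj_mem (M := normalizer (H : Set G)) le_rfl hm x.2)
    have hf : Function.Surjective f := by
      intro y
      refine ⟨⟨m⁻¹ * y * m, conj_inv_mem (M := normalizer (H : Set G)) le_rfl hm y.2⟩, ?_⟩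
      apply Subtype.ext
      simp [f, MulAut.conj_apply, mul_assoc]
    have e : (K.subgroupOf H).map f = (K.map (MulAut.conj m).toMonoidHom).subgroupOf H := by
      ext y
      constructor
      · rintro ⟨x, hx, rfl⟩
        exact ⟨x, hx, rfl⟩
      · rintro ⟨x, hx, hxy⟩
        refine ⟨⟨x, hK.1 hx⟩, hx, ?_⟩
        apply Subtype.ext
        exact hxy
    rw [← e]
    exact hK.2.1.map hf
  · exact qs_subgroupOf hle (H07.isQuasisimple_of_mulEquiv (K.equivMapOfInjective _ (MulAut.conj m).injective) hK.quasi)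

omit [Finite G] in
theorem comm_elt_mem_of_mem {P Q : Subgroup G} (hPQ : P ≤ normalizer (Q : Set G)) {p q : G}
    (hp : p ∈ P) (hq : q ∈ Q) : q * p * q⁻¹ * p⁻¹ ∈ Q := by
  have : q * p * q⁻¹ * p⁻¹ = q * (p * q⁻¹ * p⁻¹) := by group
  rw [this]
  exact Q.mul_mem hq (H01.conj_mem_of_mem_normalizer (hPQ hp) (Q.inv_mem hq))

theorem lay_nrm {H M : Subgroup G} (hM : M ≤ normalizer (H : Set G)) :
    M ≤ normalizer (lay H : Set G) := by
  intro m hm
  apply mem_normalizer_of_map_conj_le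
  rw [lay, Subgroup.map_le_iff_le_comap]
  apply sSup_le
  intro K hK
  rw [← Subgroup.map_le_iff_le_comap]
  exact CompIn.le_lay (CompIn.conj hK (hM hm))

section
variable (h : Setup M₁ M₂ A B X Y) (hX : X ≠ ⊥) (hY : Y ≠ ⊥)
include h

include hX in
/-- Components of `A` lie in `A ⊓ B`. -/
theorem comp_le_inf {K : Subgroup G} (hK : CompIn K A) : K ≤ A ⊓ B := by
  have hq := hK.quasi
  have hnorm : ((A ⊓ B).subgroupOf A).Normal :=
    Subgroup.normal_subgroupOf_of_le_normalizer (A_nrm_inf h)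
  rcases comp_le_or_comm hK.2.1 hK.2.2 hnorm.isSubnormal with h1 | h1
  · intro k hk
    have : (⟨k, hK.1 hk⟩ : A) ∈ (A ⊓ B).subgroupOf A := h1 hk
    exact this
  · have hcomm : ∀ k ∈ K, ∀ l ∈ A ⊓ B, k * l = l * k := by
      intro k hk l hl
      have := comm_bot_iff.mp h1 ⟨k, hK.1 hk⟩ hk ⟨l, hl.1⟩ hl
      exact congrArg Subtype.val this
    -- `[K, B] ≤ A ⊓ B`
    have hKB : ⁅K, B⁆ ≤ A ⊓ B := by
      rw [Subgroup.commutator_le]
      intro k hk b hb
      refine ⟨?_, ?_⟩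
      · have := comm_elt_mem_of_mem (P := B) (Q := A) ((B_le_M₁ h).trans h.A_nrm) hb (hK.1 hk)
        simpa [commutatorElement_def] using this
      · rw [commutatorElement_def]
        have : k * b * k⁻¹ * b⁻¹ = (k * b * k⁻¹) * b⁻¹ := rfl
        rw [this]
        exact B.mul_mem (conj_mem h.B_nrm (A_le_M₂ h (hK.1 hk)) hb) (B.inv_mem hb)
    have h3 : ⁅⁅K, B⁆, K⁆ = ⊥ := by
      rw [eq_bot_iff, Subgroup.commutator_le]
      intro y hy k hk
      have := hcomm k hk y (hKB hy)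
      rw [Subgroup.mem_bot, commutatorElement_eq_one_iff_mul_comm]
      exact this.symm
    have h4 : ⁅⁅B, K⁆, K⁆ = ⊥ := by rwa [Subgroup.commutator_comm B K]
    have h5 : ⁅⁅K, K⁆, B⁆ = ⊥ := Subgroup.commutator_commutator_eq_bot_of_rotate h3 h4
    rw [comm_self_of_quasi hq] at h5
    have hKC : K ≤ M₂ ⊓ centralizer (B : Set G) := by
      intro k hk
      refine ⟨A_le_M₂ h (hK.1 hk), ?_⟩
      show _ ∈ centralizer (B : Set G)
      rw [mem_centralizer_iff]
      intro b hb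
      exact (comm_bot_iff.mp h5 k hk b hb).symm
    have hKB' : K ≤ B := hKC.trans (cent_B h hX)
    have hKL : K ≤ A ⊓ B := le_inf hK.1 hKB'
    exfalso
    obtain ⟨a, b, hab⟩ := qs_not_comm hq
    apply hab
    apply Subtype.ext
    exact hcomm a a.2 b (hKL b.2)

include hX in
theorem lay_A_le : lay A ≤ X := by
  apply h.X_max
  · exact sSup_le fun K hK => comp_le_inf h hX hK
  · exact lay_nrm h.A_nrm

include hX in
/-- A component of `A` is a component of `B`. -/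
theorem comp_A_B {K : Subgroup G} (hK : CompIn K A) : CompIn K B := by
  have hKX : K ≤ X := hK.le_lay.trans (lay_A_le h hX)
  have h1 : (K.subgroupOf X).IsSubnormal := sn_restrict (X_le_A h) hK.2.1
  have hXn : (X.subgroupOf B).Normal :=
    Subgroup.normal_subgroupOf_of_le_normalizer ((B_le_M₁ h).trans h.X_nrm)
  have h2 : (K.subgroupOf B).IsSubnormal := sn_extend hKX (X_le_B h) h1 hXn.isSubnormal
  exact ⟨hKX.trans (X_le_B h), h2, qs_subgroupOf (hKX.trans (X_le_B h)) hK.quasi⟩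

include hX hY in
theorem lay_A_eq_B : lay A = lay B := by
  apply le_antisymm
  · exact sSup_le fun K hK => (comp_A_B h hX hK).le_lay
  · exact sSup_le fun K hK => (comp_A_B h.symm hY hK).le_lay

include hX hY in
theorem lay_A_eq_bot : lay A = ⊥ := by
  apply eq_bot_of_both h
  · exact lay_le.trans h.A_le
  · exact lay_nrm h.A_nrm
  · rw [lay_A_eq_B h hX hY]
    exact lay_nrm h.B_nrm

end

/-! ### Primes -/

theorem compIn_of_normal {S T K : Subgroup G} (hST : S ≤ T) (hn : T ≤ normalizer (S : Set G))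
    (hK : CompIn K S) : CompIn K T :=
  ⟨hK.1.trans hST, sn_extend hK.1 hST hK.2.1 (Subgroup.normal_subgroupOf_of_le_normalizer hn).isSubnormal,
    qs_subgroupOf (hK.1.trans hST) hK.quasi⟩

theorem pCoreOf_le_pCoreOf_of_normal {p : ℕ} [Fact p.Prime] {N D : Subgroup G} (hND : N ≤ D)
    (hD : D ≤ Subgroup.normalizer (N : Set G)) : pCoreOf p N ≤ pCoreOf p D := by
  apply le_pCoreOf ((pCoreOf_le N).trans hND) (isPGroup_pCoreOf N)
  exact hD.trans (normalizer_le_normalizer_pCoreOf N)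

theorem comm_of_disjoint {R U : Subgroup G} (hdis : Disjoint R U)
    (h1 : R ≤ normalizer (U : Set G)) (h2 : U ≤ normalizer (R : Set G)) :
    ∀ x ∈ R, ∀ y ∈ U, x * y = y * x := by
  intro x hx y hy
  have h3 : x * y * x⁻¹ * y⁻¹ ∈ R := comm_elt_mem_of_mem h2 hy hx
  have h4 : y * x * y⁻¹ * x⁻¹ ∈ U := comm_elt_mem_of_mem h1 hx hy
  have h5 : x * y * x⁻¹ * y⁻¹ ∈ U := by
    have : x * y * x⁻¹ * y⁻¹ = (y * x * y⁻¹ * x⁻¹)⁻¹ := by group
    rw [this]
    exact U.inv_mem h4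
  have h6 : x * y * x⁻¹ * y⁻¹ = 1 := Subgroup.disjoint_def.mp hdis h3 h5
  have h7 : x * y = (x * y * x⁻¹ * y⁻¹) * (y * x) := by group
  rw [h7, h6, one_mul]

section
variable (h : Setup M₁ M₂ A B X Y)
include h

/-- (P1). -/
theorem O_A_le_X {r s : ℕ} [Fact r.Prime] [Fact s.Prime] (hrs : r ≠ s) (hr : pCoreOf r X ≠ ⊥) :
    pCoreOf s A ≤ X := by
  have hRA : pCoreOf s A ≤ A := pCoreOf_le A
  have hUB : pCoreOf r B ≤ B := pCoreOf_le B
  have hRn : M₁ ≤ normalizer (pCoreOf s A : Set G) := h.A_nrm.trans (normalizer_le_normalizer_pCoreOf A)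
  have hUn : M₂ ≤ normalizer (pCoreOf r B : Set G) := h.B_nrm.trans (normalizer_le_normalizer_pCoreOf B)
  have hdis : Disjoint (pCoreOf s A) (pCoreOf r B) :=
    IsPGroup.disjoint_of_ne s r hrs.symm _ _ (isPGroup_pCoreOf A) (isPGroup_pCoreOf B)
  have hcomm := comm_of_disjoint hdis ((hRA.trans (A_le_M₂ h)).trans hUn) ((hUB.trans (B_le_M₁ h)).trans hRn)
  have hT : pCoreOf r X ≤ pCoreOf r B :=
    pCoreOf_le_pCoreOf_of_normal (X_le_B h) ((B_le_M₁ h).trans h.X_nrm)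
  have hTn : M₁ ≤ normalizer (pCoreOf r X : Set G) := h.X_nrm.trans (normalizer_le_normalizer_pCoreOf X)
  have hRB : pCoreOf s A ≤ B :=
    le_B_of_comm h (hRA.trans (A_le_M₂ h)) hUn hcomm hT hr ((pCoreOf_le X).trans (X_le_M₁ h)) hTn
  exact h.X_max _ (le_inf hRA hRB) hRn

/-- Only one prime. -/
theorem one_prime {r s : ℕ} [Fact r.Prime] [Fact s.Prime] (hrs : r ≠ s) (hr : pCoreOf r X ≠ ⊥)
    (hs : pCoreOf s Y ≠ ⊥) : False := by
  have h1 : pCoreOf s A ≤ X := O_A_le_X h hrs hr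
  have h2 : pCoreOf r B ≤ Y := O_A_le_X h.symm hrs.symm hs
  have h3 : pCoreOf s Y ≤ pCoreOf s A :=
    pCoreOf_le_pCoreOf_of_normal (Y_le_A h) ((A_le_M₂ h).trans h.Y_nrm)
  have h4 : pCoreOf s A ≤ pCoreOf s X := by
    apply le_pCoreOf h1 (isPGroup_pCoreOf A)
    exact (X_le_M₁ h).trans (h.A_nrm.trans (normalizer_le_normalizer_pCoreOf A))
  have hsX : pCoreOf s X ≠ ⊥ := by
    intro he
    rw [he, le_bot_iff] at h4
    rw [h4, le_bot_iff] at h3
    exact hs h3
  have h5 : pCoreOf r A ≤ X := O_A_le_X h hrs.symm hsX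
  have h6 : pCoreOf r A ≤ pCoreOf r B := by
    apply le_pCoreOf (h5.trans (X_le_B h)) (isPGroup_pCoreOf A)
    exact (B_le_M₁ h).trans (h.A_nrm.trans (normalizer_le_normalizer_pCoreOf A))
  have h7 : pCoreOf r B ≤ pCoreOf r A := by
    apply le_pCoreOf (h2.trans (Y_le_A h)) (isPGroup_pCoreOf B)
    exact (A_le_M₂ h).trans (h.B_nrm.trans (normalizer_le_normalizer_pCoreOf B))
  have h8 : pCoreOf r A = pCoreOf r B := le_antisymm h6 h7
  have h9 : pCoreOf r A = ⊥ := by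
    apply eq_bot_of_both h
    · exact (pCoreOf_le A).trans h.A_le
    · exact h.A_nrm.trans (normalizer_le_normalizer_pCoreOf A)
    · rw [h8]
      exact h.B_nrm.trans (normalizer_le_normalizer_pCoreOf B)
  have h10 : pCoreOf r X ≤ pCoreOf r A :=
    pCoreOf_le_pCoreOf_of_normal (X_le_A h) ((A_le_M₁ h).trans h.X_nrm)
  rw [h9, le_bot_iff] at h10
  exact hr h10

end

omit [Finite G] in
theorem pCoreOf_eq_bot_iff {r : ℕ} {H : Subgroup G} : pCoreOf r H = ⊥ ↔ pCore r ↥H = ⊥ := by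
  unfold pCoreOf
  exact Subgroup.map_eq_bot_iff_of_injective _ H.subtype_injective

theorem layer_eq_bot_of {H : Subgroup G} (hno : ∀ K, CompIn K H → False) : layer ↥H = ⊥ := by
  apply le_bot_iff.mp
  apply sSup_le
  intro K hK
  exfalso
  apply hno (K.map H.subtype)
  have hle : K.map H.subtype ≤ H := by
    rintro _ ⟨x, _, rfl⟩
    exact x.2
  have e : (K.map H.subtype).subgroupOf H = K := by
    ext x
    constructor
    · rintro ⟨y, hy, hxy⟩
      have : y = x := Subtype.ext hxy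
      rwa [← this]
    · intro hx
      exact ⟨x, hx, rfl⟩
  refine ⟨hle, ?_⟩
  rw [e]
  exact hK

theorem not_comp_bot {K H : Subgroup G} (hK : CompIn K H) (hb : K ≤ ⊥) : False := by
  have hq := hK.quasi
  have := qs_nontrivial hq
  have hbot : K = ⊥ := le_bot_iff.mp hb
  subst hbot
  exact not_subsingleton (↥(⊥ : Subgroup G)) inferInstance

/-- A finite nontrivial group with trivial layer has a nontrivial `O_p`. -/
theorem exists_pCore_ne_bot {H : Type*} [Group H] [Finite H] [Nontrivial H] (hl : layer H = ⊥) :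
    ∃ p : ℕ, p.Prime ∧ pCore p H ≠ ⊥ := by
  by_contra hcon
  push Not at hcon
  have hF : fittingSubgroup H = ⊥ := by
    rw [H01.fitting_eq_iSup_pCore]
    apply le_bot_iff.mp
    apply iSup_le
    intro p
    rw [hcon p p.2]
  have hFs : generalizedFittingSubgroup H = ⊥ := by
    rw [generalizedFittingSubgroup, hl, hF, bot_sup_eq]
  have h1 := centralizer_fstar_le (G := H)
  rw [hFs] at h1
  obtain ⟨x, hx⟩ := exists_ne (1 : H)
  apply hx
  have : x ∈ centralizer (((⊥ : Subgroup H) : Set H)) := by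
    rw [mem_centralizer_iff]
    intro y hy
    have hy1 : y = 1 := by simpa using hy
    simp [hy1]
  simpa using h1 this

/-- Characteristic `p` from the vanishing of the layer and the other cores. -/
theorem isCharP_of {H : Type*} [Group H] [Finite H] {p : ℕ} [Fact p.Prime] (hl : layer H = ⊥)
    (hO : ∀ r : ℕ, r.Prime → r ≠ p → pCore r H = ⊥) : IsCharP p H := by
  rw [← fstar_eq_pCore_iff, generalizedFittingSubgroup, hl, bot_sup_eq]
  apply le_antisymm
  · rw [H01.fitting_eq_iSup_pCore]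
    apply iSup_le
    intro r
    by_cases hr : (r : ℕ) = p
    · rw [hr]
    · rw [hO r r.2 hr]
      exact bot_le
  · exact H01.pCore_le_fitting p

section
variable (h : Setup M₁ M₂ A B X Y) (hX : X ≠ ⊥) (hY : Y ≠ ⊥)
include h hX hY

theorem noComp_A {K : Subgroup G} (hK : CompIn K A) : False :=
  not_comp_bot hK (by rw [← lay_A_eq_bot h hX hY]; exact hK.le_lay)

theorem noComp_B {K : Subgroup G} (hK : CompIn K B) : False :=
  noComp_A h.symm hY hX hK

theorem layer_X_eq_bot : layer ↥X = ⊥ :=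
  layer_eq_bot_of fun _ hK =>
    noComp_A h hX hY (compIn_of_normal (X_le_A h) ((A_le_M₁ h).trans h.X_nrm) hK)

/-- Existence of the prime. -/
theorem exists_p : ∃ p : ℕ, p.Prime ∧ pCoreOf p X ≠ ⊥ ∧ pCoreOf p Y ≠ ⊥ ∧
    ∀ r : ℕ, r.Prime → r ≠ p → pCoreOf r X = ⊥ ∧ pCoreOf r Y = ⊥ ∧ pCoreOf r A = ⊥ ∧ pCoreOf r B = ⊥ := by
  haveI : Nontrivial ↥X := (nontrivial_iff_ne_bot X).mpr hX
  haveI : Nontrivial ↥Y := (nontrivial_iff_ne_bot Y).mpr hY
  obtain ⟨p, hp, hpX⟩ := exists_pCore_ne_bot (layer_X_eq_bot h hX hY)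
  obtain ⟨q, hq, hqY⟩ := exists_pCore_ne_bot (layer_X_eq_bot h.symm hY hX)
  haveI := Fact.mk hp
  haveI := Fact.mk hq
  rw [ne_eq, ← pCoreOf_eq_bot_iff] at hpX hqY
  have hpq : p = q := by
    by_contra hne
    exact one_prime h hne hpX hqY
  subst hpq
  refine ⟨p, hp, hpX, hqY, ?_⟩
  intro r hr hrp
  haveI := Fact.mk hr
  have h1 : pCoreOf r X = ⊥ := by
    by_contra hne
    exact one_prime h hrp hne hqY
  have h2 : pCoreOf r Y = ⊥ := by
    by_contra hne
    exact one_prime h.symm hrp hne hpX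
  refine ⟨h1, h2, ?_, ?_⟩
  · have h3 : pCoreOf r A ≤ X := O_A_le_X h hrp.symm hpX
    have h4 : pCoreOf r A ≤ pCoreOf r X := by
      apply le_pCoreOf h3 (isPGroup_pCoreOf A)
      exact (X_le_M₁ h).trans (h.A_nrm.trans (normalizer_le_normalizer_pCoreOf A))
    rwa [h1, le_bot_iff] at h4
  · have h3 : pCoreOf r B ≤ Y := O_A_le_X h.symm hrp.symm hqY
    have h4 : pCoreOf r B ≤ pCoreOf r Y := by
      apply le_pCoreOf h3 (isPGroup_pCoreOf B)
      exact (Y_le_M₂ h).trans (h.B_nrm.trans (normalizer_le_normalizer_pCoreOf B))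
    rwa [h2, le_bot_iff] at h4

/-- Characteristic `p` for `A`. -/
theorem isCharP_A {p : ℕ} [Fact p.Prime] (hO : ∀ r : ℕ, r.Prime → r ≠ p → pCoreOf r A = ⊥) :
    IsCharP p ↥A :=
  isCharP_of (layer_eq_bot_of fun _ hK => noComp_A h hX hY hK)
    (fun r hr hrp => pCoreOf_eq_bot_iff.mp (hO r hr hrp))

/-- Characteristic `p` for `M₁`. -/
theorem isCharP_M₁ {p : ℕ} [Fact p.Prime] (hO : ∀ r : ℕ, r.Prime → r ≠ p → pCoreOf r A = ⊥) :
    IsCharP p ↥M₁ := by
  have hcent := cent_A h hY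
  apply isCharP_of
  · apply layer_eq_bot_of
    intro K hK
    have hnorm : (A.subgroupOf M₁).Normal :=
      Subgroup.normal_subgroupOf_of_le_normalizer h.A_nrm
    have hKA : K ≤ A := by
      rcases comp_le_or_comm hK.2.1 hK.2.2 hnorm.isSubnormal with h1 | h1
      · intro k hk
        have : (⟨k, hK.1 hk⟩ : M₁) ∈ A.subgroupOf M₁ := h1 hk
        exact this
      · apply le_trans _ hcent
        intro k hk
        refine ⟨hK.1 hk, ?_⟩
        show _ ∈ centralizer (A : Set G)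
        rw [mem_centralizer_iff]
        intro a ha
        have := comm_bot_iff.mp h1 ⟨k, hK.1 hk⟩ hk ⟨a, (A_le_M₁ h) ha⟩ ha
        exact (congrArg Subtype.val this).symm
    exact noComp_A h hX hY ⟨hKA, sn_restrict (A_le_M₁ h) hK.2.1, qs_subgroupOf hKA hK.quasi⟩
  · intro r hr hrp
    haveI := Fact.mk hr
    rw [← pCoreOf_eq_bot_iff]
    have hRn : M₁ ≤ normalizer (pCoreOf r M₁ : Set G) := pCoreOf_normalized M₁
    have hRinf : pCoreOf r M₁ ⊓ A ≤ pCoreOf r A := by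
      apply le_pCoreOf inf_le_right ((isPGroup_pCoreOf M₁).to_le inf_le_left)
      apply le_normalizer_of_conj
      rintro a ha x ⟨hx1, hx2⟩
      exact ⟨conj_mem hRn (A_le_M₁ h ha) hx1, A.mul_mem (A.mul_mem ha hx2) (A.inv_mem ha)⟩
    rw [hO r hr hrp, le_bot_iff] at hRinf
    have hcomm : pCoreOf r M₁ ≤ A := by
      apply le_trans _ hcent
      intro x hx
      refine ⟨pCoreOf_le M₁ hx, ?_⟩
      show _ ∈ centralizer (A : Set G)
      rw [mem_centralizer_iff]
      intro a ha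
      have h1 : x * a * x⁻¹ * a⁻¹ ∈ A := by
        have := comm_elt_mem_of_mem (P := M₁) (Q := A) h.A_nrm (pCoreOf_le M₁ hx) ha
        have e : x * a * x⁻¹ * a⁻¹ = (a * x * a⁻¹ * x⁻¹)⁻¹ := by group
        rw [e]
        exact A.inv_mem this
      have h2 : x * a * x⁻¹ * a⁻¹ ∈ pCoreOf r M₁ :=
        comm_elt_mem_of_mem (P := M₁) (Q := pCoreOf r M₁) hRn (A_le_M₁ h ha) hx
      have h3 : x * a * x⁻¹ * a⁻¹ ∈ pCoreOf r M₁ ⊓ A := ⟨h2, h1⟩
      rw [hRinf, Subgroup.mem_bot] at h3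
      have h7 : x * a = (x * a * x⁻¹ * a⁻¹) * (a * x) := by group
      rw [h7, h3, one_mul]
    rw [← le_bot_iff, ← hRinf]
    exact le_inf le_rfl hcomm

end

/-! ### The `p`-group part -/

/-- Subgroup generated by the `p'`-elements. -/
def pGen (p : ℕ) (X : Subgroup G) : Subgroup G := closure {u | u ∈ X ∧ (orderOf u).Coprime p}

theorem pGen_le {p : ℕ} {X : Subgroup G} : pGen p X ≤ X := by
  rw [pGen, closure_le]
  exact fun u hu => hu.1

theorem pGen_nrm {p : ℕ} {M X : Subgroup G} (hM : M ≤ normalizer (X : Set G)) :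
    M ≤ normalizer (pGen p X : Set G) := by
  intro m hm
  apply mem_normalizer_of_map_conj_le
  rw [pGen, Subgroup.map_le_iff_le_comap, closure_le]
  rintro u ⟨hu, hc⟩
  refine subset_closure ⟨H01.conj_mem_of_mem_normalizer (hM hm) hu, ?_⟩
  have : orderOf (m * u * m⁻¹) = orderOf u :=
    orderOf_injective (MulAut.conj m).toMonoidHom (MulAut.conj m).injective u
  show (orderOf (m * u * m⁻¹)).Coprime p
  rw [this]
  exact hc

theorem sup_nrm {M S T : Subgroup G} (h1 : M ≤ normalizer (S : Set G)) (h2 : M ≤ normalizer (T : Set G)) :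
    M ≤ normalizer ((S ⊔ T : Subgroup G) : Set G) := by
  intro m hm
  apply mem_normalizer_of_map_conj_eq
  rw [Subgroup.map_sup, map_conj_eq_of_mem_normalizer (h1 hm), map_conj_eq_of_mem_normalizer (h2 hm)]

section
variable (h : Setup M₁ M₂ A B X Y) {p : ℕ} [Fact p.Prime]
include h

/-- The commutator subgroup `V = [O_p(X), O^p(X)]`. -/
theorem V_nrm : M₁ ≤ normalizer ((⁅pCoreOf p X, pGen p X⁆ : Subgroup G) : Set G) := fun m hm =>
  H01.mem_normalizer_commutator ((h.X_nrm.trans (normalizer_le_normalizer_pCoreOf X)) hm)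
    (pGen_nrm h.X_nrm hm)

theorem V_le : ⁅pCoreOf p X, pGen p X⁆ ≤ pCoreOf p X := by
  rw [Subgroup.commutator_le]
  intro a ha n hn
  have := comm_elt_mem_of_mem (P := X) (Q := pCoreOf p X) (pCoreOf_normalized X) (pGen_le hn) ha
  exact this

/-- Key lemma. -/
theorem Z0 (hV : ⁅pCoreOf p X, pGen p X⁆ ≠ ⊥) {W : Subgroup G} (hWp : IsPGroup p W)
    (hW1 : W ≤ normalizer (B : Set G)) (hW2 : B ≤ normalizer (W : Set G))
    (hW3 : pCoreOf p X ≤ W) : W ≤ M₁ := by
  set V : Subgroup G := ⁅pCoreOf p X, pGen p X⁆ with hVdef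
  have hVn : M₁ ≤ normalizer (V : Set G) := V_nrm h
  have hVle : V ≤ M₁ := (V_le h).trans ((pCoreOf_le X).trans (X_le_M₁ h))
  -- step a
  have stepa : ∀ u ∈ X, (orderOf u).Coprime p → ⁅W, Subgroup.zpowers u⁆ ≤ V := by
    intro u hu hcop
    set U : Subgroup G := Subgroup.zpowers u with hUdef
    have hUX : U ≤ X := (Subgroup.zpowers_le).mpr hu
    have hUB : U ≤ B := hUX.trans (X_le_B h)
    have hUW : U ≤ normalizer (W : Set G) := hUB.trans hW2
    have hcard : (Nat.card U).Coprime (Nat.card W) := by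
      obtain ⟨n, hn⟩ := hWp.exists_card_eq
      rw [hn, hUdef, Nat.card_zpowers]
      exact Nat.Coprime.pow_right n hcop
    have hsolv : Group.IsSolvable W := by
      haveI := hWp.isNilpotent
      infer_instance
    have e := H01.commutator_commutator_eq hUW hcard (Or.inr hsolv)
    have s1 : ⁅W, U⁆ ≤ W ⊓ B := by
      rw [Subgroup.commutator_le]
      intro w hw y hy
      refine ⟨?_, ?_⟩
      · have := comm_elt_mem_of_mem (P := U) (Q := W) hUW hy hw
        exact this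
      · rw [commutatorElement_def]
        exact B.mul_mem (conj_mem hW1 hw (hUB hy)) (B.inv_mem (hUB hy))
    have s2 : ⁅W ⊓ B, U⁆ ≤ W ⊓ X := by
      rw [Subgroup.commutator_le]
      rintro w ⟨hw, hwB⟩ y hy
      refine ⟨?_, ?_⟩
      · have := comm_elt_mem_of_mem (P := U) (Q := W) hUW hy hw
        exact this
      · rw [commutatorElement_def]
        exact X.mul_mem (conj_mem h.X_nrm (B_le_M₁ h hwB) (hUX hy)) (X.inv_mem (hUX hy))
    have s3 : W ⊓ X ≤ pCoreOf p X := by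
      apply le_pCoreOf inf_le_right (hWp.to_le inf_le_left)
      apply le_normalizer_of_conj
      rintro x hx y ⟨hy1, hy2⟩
      exact ⟨conj_mem hW2 (X_le_B h hx) hy1, X.mul_mem (X.mul_mem hx hy2) (X.inv_mem hx)⟩
    have s4 : ⁅pCoreOf p X, U⁆ ≤ V := by
      apply Subgroup.commutator_mono le_rfl
      rw [hUdef, Subgroup.zpowers_le]
      exact subset_closure ⟨hu, hcop⟩
    calc ⁅W, U⁆ = ⁅⁅W, U⁆, U⁆ := e.symm
      _ = ⁅⁅⁅W, U⁆, U⁆, U⁆ := by rw [e]; exact e.symm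
      _ ≤ ⁅pCoreOf p X, U⁆ := by
        apply Subgroup.commutator_mono _ le_rfl
        exact (Subgroup.commutator_mono s1 le_rfl).trans (s2.trans s3)
      _ ≤ V := s4
  -- step b
  have stepb : ∀ w ∈ W, ∀ n ∈ pGen p X, ⁅w, n⁆ ∈ V := by
    intro w hw n hn
    rw [pGen] at hn
    induction hn using Subgroup.closure_induction with
    | mem u hu =>
      exact stepa u hu.1 hu.2 (Subgroup.commutator_mem_commutator hw (Subgroup.mem_zpowers u))
    | one => simp
    | mul a b ha hb iha ihb =>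
      have e : ⁅w, a * b⁆ = ⁅w, a⁆ * (a * ⁅w, b⁆ * a⁻¹) := by
        simp only [commutatorElement_def]
        group
      rw [e]
      exact V.mul_mem iha (conj_mem hVn (X_le_M₁ h (pGen_le ha)) ihb)
    | inv a ha iha =>
      have e : ⁅w, a⁻¹⁆ = a⁻¹ * ⁅w, a⁆⁻¹ * a := by
        simp only [commutatorElement_def]
        group
      rw [e]
      exact conj_inv_mem hVn (X_le_M₁ h (pGen_le ha)) (V.inv_mem iha)
  -- step c
  have stepc : W ≤ normalizer (V : Set G) := by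
    intro w₀ hw₀
    apply mem_normalizer_of_map_conj_le
    rw [Subgroup.map_le_iff_le_comap, hVdef, Subgroup.commutator_le]
    intro a ha n hn
    show w₀ * ⁅a, n⁆ * w₀⁻¹ ∈ V
    have e : w₀ * ⁅a, n⁆ * w₀⁻¹ = ⁅w₀ * a, n⁆ * ⁅w₀, n⁆⁻¹ := by
      simp only [commutatorElement_def]
      group
    rw [e]
    exact V.mul_mem (stepb _ (W.mul_mem hw₀ (hW3 ha)) n hn) (V.inv_mem (stepb _ hw₀ n hn))
  rw [normalizer_eq h.max₁ h.core₁ hVle hVn hV] at stepc
  exact stepc

/-- `X` is a `p`-group. -/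
theorem isPGroup_X (hPX : pCoreOf p X ≠ ⊥) (hchar : IsCharP p ↥X)
    (hcard : Nat.card (pCoreOf p M₁) = Nat.card (pCoreOf p M₂)) : IsPGroup p X := by
  by_contra hnp
  obtain ⟨u, hu, hcop, hu1⟩ : ∃ u ∈ X, (orderOf u).Coprime p ∧ u ≠ 1 := by
    by_contra hcon
    push Not at hcon
    exact hnp (isPGroup_of_forall_coprime hcon)
  have hV : ⁅pCoreOf p X, pGen p X⁆ ≠ ⊥ := by
    intro hV0
    apply hu1
    apply eq_one_of_coprime_of_mem (isPGroup_pCoreOf X) _ hcop
    apply (isCharP_subgroup_iff X).mp hchar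
    refine ⟨hu, ?_⟩
    show u ∈ centralizer (pCoreOf p X : Set G)
    rw [mem_centralizer_iff]
    intro a ha
    have hmem : ⁅a, u⁆ ∈ ⁅pCoreOf p X, pGen p X⁆ :=
      Subgroup.commutator_mem_commutator ha (subset_closure ⟨hu, hcop⟩)
    rw [hV0, Subgroup.mem_bot, commutatorElement_eq_one_iff_mul_comm] at hmem
    exact hmem
  have hPB : pCoreOf p X ≤ pCoreOf p M₂ :=
    (pCoreOf_le_pCoreOf_of_normal (X_le_B h) ((B_le_M₁ h).trans h.X_nrm)).trans
      (pCoreOf_le_pCoreOf_of_normal (B_le_M₂ h) h.B_nrm)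
  have hR2n : M₂ ≤ normalizer (pCoreOf p M₂ : Set G) := pCoreOf_normalized M₂
  have hR1n : M₁ ≤ normalizer (pCoreOf p M₁ : Set G) := pCoreOf_normalized M₁
  have hR2M1 : pCoreOf p M₂ ≤ M₁ :=
    Z0 h hV (isPGroup_pCoreOf M₂) ((pCoreOf_le M₂).trans h.B_nrm) ((B_le_M₂ h).trans hR2n) hPB
  have hR2ne : pCoreOf p M₂ ≠ ⊥ := by
    intro he
    rw [he, le_bot_iff] at hPB
    exact hPX hPB
  have hDR2 : M₁ ⊓ M₂ ≤ normalizer (pCoreOf p M₂ : Set G) := inf_le_right.trans hR2n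
  -- `W`
  set W : Subgroup G := (pCoreOf p M₁ ⊓ M₂) ⊔ pCoreOf p M₂ with hWdef
  have hWp : IsPGroup p W := by
    apply IsPGroup.to_sup_of_normal_right' ((isPGroup_pCoreOf M₁).to_le inf_le_left) (isPGroup_pCoreOf M₂)
    exact inf_le_right.trans hR2n
  have hWM2 : W ≤ M₂ := sup_le inf_le_right (pCoreOf_le M₂)
  have hDW : M₁ ⊓ M₂ ≤ normalizer (W : Set G) := by
    apply sup_nrm _ hDR2
    apply le_normalizer_of_conj
    rintro d ⟨hd1, hd2⟩ y ⟨hy1, hy2⟩
    exact ⟨conj_mem hR1n hd1 hy1, M₂.mul_mem (M₂.mul_mem hd2 hy2) (M₂.inv_mem hd2)⟩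
  have hWB : W ≤ B := by
    apply le_B h hWM2
    intro m hm x hx
    have hW' : W.map (MulAut.conj m).toMonoidHom ≤ M₁ := by
      apply Z0 h hV (isPGroup_map_conj hWp)
      · rintro _ ⟨y, hy, rfl⟩
        exact h.B_nrm (M₂.mul_mem (M₂.mul_mem hm (hWM2 hy)) (M₂.inv_mem hm))
      · apply le_normalizer_of_conj
        intro b hb y hy
        rw [mem_map_conj] at hy ⊢
        have hb' : m⁻¹ * b * m ∈ B := conj_inv_mem h.B_nrm hm hb
        have := conj_mem hDW (h.B_le hb') hy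
        have e : m⁻¹ * (b * y * b⁻¹) * m = (m⁻¹ * b * m) * (m⁻¹ * y * m) * (m⁻¹ * b * m)⁻¹ := by group
        rw [e]
        exact this
      · intro y hy
        rw [mem_map_conj]
        exact (le_sup_right : pCoreOf p M₂ ≤ W) (conj_inv_mem hR2n hm (hPB hy))
    exact hW' ⟨x, hx, rfl⟩
  have hinf : pCoreOf p M₁ ⊓ M₂ ≤ pCoreOf p M₂ := by
    have h1 : W ≤ pCoreOf p B := le_pCoreOf hWB hWp (h.B_le.trans hDW)
    exact (le_sup_left.trans h1).trans (pCoreOf_le_pCoreOf_of_normal (B_le_M₂ h) h.B_nrm)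
  -- the `p`-group `P`
  set P : Subgroup G := pCoreOf p M₁ ⊔ pCoreOf p M₂ with hPdef
  have hPp : IsPGroup p P := by
    rw [hPdef, sup_comm]
    exact IsPGroup.to_sup_of_normal_right' (isPGroup_pCoreOf M₂) (isPGroup_pCoreOf M₁) (hR2M1.trans hR1n)
  have hR1R2 : pCoreOf p M₁ ≤ pCoreOf p M₂ := by
    by_contra hne
    have hlt : (pCoreOf p M₂).subgroupOf P < ⊤ := lt_top_iff_ne_top.mpr fun ht =>
      hne (le_sup_left.trans (Subgroup.subgroupOf_eq_top.mp ht))
    haveI := hPp.isNilpotent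
    have hN := normalizerCondition_of_isNilpotent (G := ↥P) _ hlt
    obtain ⟨x, hx, hxn⟩ := SetLike.exists_of_lt hN
    have hxM : (x : G) ∈ M₂ := by
      rw [← normalizer_eq h.max₂ h.core₂ (pCoreOf_le M₂) hR2n hR2ne]
      apply mem_normalizer_of_map_conj_le
      rintro _ ⟨y, hy, rfl⟩
      have hyP : y ∈ P := (le_sup_right : pCoreOf p M₂ ≤ P) hy
      have := (mem_normalizer_iff.mp hx ⟨y, hyP⟩).mp hy
      exact this
    obtain ⟨r1, hr1, r2, hr2, hxe⟩ :=
      H01.exists_mul_of_mem_sup (N := pCoreOf p M₁) (A := pCoreOf p M₂) (hR2M1.trans hR1n) x.2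
    have hr1M : r1 ∈ M₂ := by
      have e : r1 = (x : G) * r2⁻¹ := by rw [hxe]; group
      rw [e]
      exact M₂.mul_mem hxM (M₂.inv_mem (pCoreOf_le M₂ hr2))
    have hr1R : r1 ∈ pCoreOf p M₂ := hinf ⟨hr1, hr1M⟩
    apply hxn
    show (x : G) ∈ pCoreOf p M₂
    rw [hxe]
    exact Subgroup.mul_mem _ hr1R hr2
  have hR12 : pCoreOf p M₁ = pCoreOf p M₂ := Subgroup.eq_of_le_of_card_ge hR1R2 hcard.ge
  apply hR2ne
  rw [← hR12]
  apply eq_bot_of_both h
  · exact le_inf (pCoreOf_le M₁) (hR1R2.trans (pCoreOf_le M₂))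
  · exact hR1n
  · rw [hR12]
    exact hR2n

/-- Main theorem. -/
theorem main (hX : X ≠ ⊥) (hY : Y ≠ ⊥)
    (hcard : ∀ (p : ℕ) [Fact p.Prime], Nat.card (pCoreOf p M₁) = Nat.card (pCoreOf p M₂)) :
    ∃ p : ℕ, p.Prime ∧ IsPGroup p X ∧ IsPGroup p Y ∧ IsPGroup p ↥(X ⊔ Y) ∧
      generalizedFittingSubgroup ↥M₁ = pCore p ↥M₁ ∧ generalizedFittingSubgroup ↥A = pCore p ↥A ∧
      generalizedFittingSubgroup ↥M₂ = pCore p ↥M₂ ∧ generalizedFittingSubgroup ↥B = pCore p ↥B := by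
  obtain ⟨p, hp, hpX, hpY, hr⟩ := exists_p h hX hY
  haveI := Fact.mk hp
  have hA := fun r hr' hrp => (hr r hr' hrp).2.2.1
  have hB := fun r hr' hrp => (hr r hr' hrp).2.2.2
  have cA : IsCharP p ↥A := isCharP_A h hX hY hA
  have cB : IsCharP p ↥B := isCharP_A h.symm hY hX hB
  have cX : IsCharP p ↥X := isCharP_of_le_of_normalizer cA (X_le_A h) ((A_le_M₁ h).trans h.X_nrm)
  have cY : IsCharP p ↥Y := isCharP_of_le_of_normalizer cB (Y_le_B h) ((B_le_M₂ h).trans h.Y_nrm)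
  have pX : IsPGroup p X := isPGroup_X h hpX cX (hcard p)
  have pY : IsPGroup p Y := isPGroup_X h.symm hpY cY (hcard p).symm
  refine ⟨p, hp, pX, pY, ?_, ?_, ?_, ?_, ?_⟩
  · exact IsPGroup.to_sup_of_normal_right' pX pY ((X_le_M₂ h).trans h.Y_nrm)
  · exact fstar_eq_pCore_iff.mpr (isCharP_M₁ h hX hY hA)
  · exact fstar_eq_pCore_iff.mpr cA
  · exact fstar_eq_pCore_iff.mpr (isCharP_M₁ h.symm hY hX hB)
  · exact fstar_eq_pCore_iff.mpr cB

end

end Cfsg.Agent.H17.TW
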