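import Cfsg.Agent.Lib.H17.TW

/-!
# Thompson--Wielandt: cores and the index bound
-/

set_option autoImplicit false
set_option linter.style.longLine false
set_option linter.unusedSectionVars false

namespace Cfsg.Agent.H17.TW

open Cfsg Cfsg.Agent.H13 Cfsg.Agent.H05 Subgroup
open scoped commutatorElement

variable {G : Type*} [Group G] [Finite G]

/-! ### Cores inside subgroups -/

/-- The core of `S` in `M`, as a subgroup of the ambient group. -/
def coreIn (M S : Subgroup G) : Subgroup G := (S.subgroupOf M).normalCore.map M.subtype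

omit [Finite G] in
theorem coreIn_le_M (M S : Subgroup G) : coreIn M S ≤ M := by
  rintro _ ⟨x, _, rfl⟩
  exact x.2

omit [Finite G] in
theorem coreIn_le (M S : Subgroup G) : coreIn M S ≤ S := by
  rintro _ ⟨x, hx, rfl⟩
  exact normalCore_le (S.subgroupOf M) hx

theorem coreIn_nrm (M S : Subgroup G) : M ≤ normalizer (coreIn M S : Set G) := by
  apply le_normalizer_of_conj
  rintro m hm _ ⟨x, hx, rfl⟩
  refine ⟨⟨m, hm⟩ * x * ⟨m, hm⟩⁻¹, (normalCore_normal _).conj_mem _ hx _, ?_⟩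
  simp

omit [Finite G] in
theorem coreIn_max {M S T : Subgroup G} (hTS : T ≤ S) (hTM : T ≤ M) (hn : M ≤ normalizer (T : Set G)) :
    T ≤ coreIn M S := by
  haveI hN : (T.subgroupOf M).Normal := normal_subgroupOf_of_le_normalizer hn
  have h1 : T.subgroupOf M ≤ (S.subgroupOf M).normalCore :=
    normal_le_normalCore.mpr (fun x hx => hTS hx)
  intro x hx
  exact ⟨⟨x, hTM hx⟩, h1 hx, rfl⟩

/-- The configuration of second cores. -/
theorem setup_core {M₁ M₂ : Subgroup G} (h1 : IsCoatom M₁) (h2 : IsCoatom M₂) (c1 : M₁.normalCore = ⊥)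
    (c2 : M₂.normalCore = ⊥) (hne : M₁ ≠ M₂) :
    Setup M₁ M₂ (coreIn M₁ (M₁ ⊓ M₂)) (coreIn M₂ (M₁ ⊓ M₂))
      (coreIn M₁ (coreIn M₁ (M₁ ⊓ M₂) ⊓ coreIn M₂ (M₁ ⊓ M₂)))
      (coreIn M₂ (coreIn M₁ (M₁ ⊓ M₂) ⊓ coreIn M₂ (M₁ ⊓ M₂))) where
  max₁ := h1
  max₂ := h2
  core₁ := c1
  core₂ := c2
  ne := hne
  A_le := coreIn_le _ _
  A_nrm := coreIn_nrm _ _
  A_max := fun _ hT hN => coreIn_max hT (hT.trans inf_le_left) hN
  B_le := coreIn_le _ _
  B_nrm := coreIn_nrm _ _
  B_max := fun _ hT hN => coreIn_max hT (hT.trans inf_le_right) hN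
  X_le := coreIn_le _ _
  X_nrm := coreIn_nrm _ _
  X_max := fun _ hT hN => coreIn_max hT (hT.trans (inf_le_left.trans (coreIn_le_M _ _))) hN
  Y_le := coreIn_le _ _
  Y_nrm := coreIn_nrm _ _
  Y_max := fun _ hT hN => coreIn_max hT (hT.trans (inf_le_right.trans (coreIn_le_M _ _))) hN

theorem isCoatom_map_conj {M : Subgroup G} (h : IsCoatom M) (g : G) :
    IsCoatom (M.map (MulAut.conj g).toMonoidHom) := by
  have := (OrderIso.isCoatom_iff ((MulAut.conj g).mapSubgroup) M).mpr h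
  exact this

theorem normalCore_map_conj {M : Subgroup G} (h : M.normalCore = ⊥) (g : G) :
    (M.map (MulAut.conj g).toMonoidHom).normalCore = ⊥ := by
  rw [eq_bot_iff, ← h]
  apply normal_le_normalCore.mpr
  have h1 : (M.map (MulAut.conj g).toMonoidHom).normalCore ≤ M.map (MulAut.conj g).toMonoidHom :=
    normalCore_le _
  intro x hx
  have h2 := h1 ((normalCore_normal _).conj_mem x hx g)
  rw [mem_map_conj] at h2
  simpa [mul_assoc] using h2

theorem card_pCoreOf_map_conj {p : ℕ} [Fact p.Prime] (M : Subgroup G) (g : G) :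
    Nat.card (pCoreOf p M) = Nat.card (pCoreOf p (M.map (MulAut.conj g).toMonoidHom)) := by
  let e : M ≃* M.map (MulAut.conj g).toMonoidHom := (MulAut.conj g).subgroupMap M
  have h1 := map_pCore_mulEquiv (p := p) e
  have h2 : Nat.card (pCore p M) = Nat.card (pCore p ↥(M.map (MulAut.conj g).toMonoidHom)) := by
    rw [← h1]
    exact Nat.card_congr ((pCore p M).equivMapOfInjective _ e.injective).toEquiv
  calc Nat.card (pCoreOf p M) = Nat.card (pCore p M) :=
        (Nat.card_congr ((pCore p M).equivMapOfInjective _ M.subtype_injective).toEquiv).symm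
    _ = Nat.card (pCore p ↥(M.map (MulAut.conj g).toMonoidHom)) := h2
    _ = _ := Nat.card_congr ((pCore p _).equivMapOfInjective _ (Subgroup.subtype_injective _)).toEquiv

/-! ### Index bounds -/

/-- `|K : C|` divides `|K : H|!` if `C` contains the core of `H` in `K`. -/
theorem perm1 {K H C : Subgroup G} (hHK : H ≤ K) (hC : ∀ x ∈ K, (∀ y ∈ K, y * x * y⁻¹ ∈ H) → x ∈ C) :
    C.relIndex K ∣ (H.relIndex K).factorial := by
  let H' : Subgroup K := H.subgroupOf K
  let ρ : K →* Equiv.Perm (K ⧸ H') := MulAction.toPermHom K (K ⧸ H')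
  have hker : ρ.ker ≤ C.subgroupOf K := by
    intro x hx
    apply hC x.1 x.2
    intro y hy
    have h1 : (x : K) • ((⟨y, hy⟩⁻¹ : K) : K ⧸ H') = ((⟨y, hy⟩⁻¹ : K) : K ⧸ H') := by
      have := congrArg (fun f : Equiv.Perm (K ⧸ H') => f ((⟨y, hy⟩⁻¹ : K) : K ⧸ H')) (MonoidHom.mem_ker.mp hx)
      simpa [ρ] using this
    rw [MulAction.Quotient.smul_coe, smul_eq_mul, QuotientGroup.eq] at h1
    have h1' : y * ((x : G)⁻¹ * y⁻¹) ∈ H := by simpa [H', mem_subgroupOf, mul_assoc] using h1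
    simpa [mul_assoc] using H.inv_mem h1'
  have h2 : (C.subgroupOf K).index ∣ ρ.ker.index := index_dvd_of_le hker
  rw [index_ker] at h2
  have h3 : Nat.card ρ.range ∣ Nat.card (Equiv.Perm (K ⧸ H')) := card_subgroup_dvd_card _
  rw [Nat.card_perm] at h3
  exact h2.trans h3

/-- `|H : C|` divides `(|K : H| - 1)!` if `C` contains the core of `H` in `K`. -/
theorem perm2 {K H C : Subgroup G} (hHK : H ≤ K) (hC : ∀ x ∈ K, (∀ y ∈ K, y * x * y⁻¹ ∈ H) → x ∈ C) :
    C.relIndex H ∣ (H.relIndex K - 1).factorial := by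
  classical
  let H' : Subgroup K := H.subgroupOf K
  let base : K ⧸ H' := ((1 : K) : K ⧸ H')
  have hfix : ∀ h : H, (⟨h, hHK h.2⟩ : K) • base = base := by
    intro h
    rw [show base = ((1 : K) : K ⧸ H') from rfl, MulAction.Quotient.smul_coe, smul_eq_mul, QuotientGroup.eq]
    simpa [H', mem_subgroupOf] using h.2
  have hmove : ∀ (h : H) (s : K ⧸ H'), (⟨h, hHK h.2⟩ : K) • s ≠ base ↔ s ≠ base := by
    intro h s
    apply not_congr
    constructor
    · intro hs
      have := congrArg (fun t => (⟨h, hHK h.2⟩⁻¹ : K) • t) hs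
      simp only [inv_smul_smul] at this
      rw [this, inv_smul_eq_iff, hfix h]
    · intro hs
      rw [hs, hfix h]
  let f : H →* Equiv.Perm {s : K ⧸ H' // s ≠ base} :=
    MonoidHom.mk' (fun h => (MulAction.toPerm (⟨h, hHK h.2⟩ : K) : Equiv.Perm (K ⧸ H')).subtypePerm (hmove h))
      (by
        intro a b
        apply Equiv.ext
        intro s
        apply Subtype.ext
        show ((⟨((a * b : H) : G), hHK (a * b).2⟩ : K) • (s : K ⧸ H')) = (⟨a, hHK a.2⟩ : K) • (⟨b, hHK b.2⟩ : K) • (s : K ⧸ H')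
        rw [← mul_smul]
        rfl)
  have hker : f.ker ≤ C.subgroupOf H := by
    intro x hx
    apply hC x.1 (hHK x.2)
    intro y hy
    have h1 : (⟨x, hHK x.2⟩ : K) • ((⟨y, hy⟩⁻¹ : K) : K ⧸ H') = ((⟨y, hy⟩⁻¹ : K) : K ⧸ H') := by
      by_cases hb : ((⟨y, hy⟩⁻¹ : K) : K ⧸ H') = base
      · rw [hb, hfix x]
      · have := congrArg (fun g : Equiv.Perm {s : K ⧸ H' // s ≠ base} => ((g ⟨_, hb⟩ : {s : K ⧸ H' // s ≠ base}) : K ⧸ H'))
          (MonoidHom.mem_ker.mp hx)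
        exact this
    rw [MulAction.Quotient.smul_coe, smul_eq_mul, QuotientGroup.eq] at h1
    have h1' : y * ((x : G)⁻¹ * y⁻¹) ∈ H := by simpa [H', mem_subgroupOf, mul_assoc] using h1
    simpa [mul_assoc] using H.inv_mem h1'
  have h2 : (C.subgroupOf H).index ∣ f.ker.index := index_dvd_of_le hker
  rw [index_ker] at h2
  have h3 : Nat.card f.range ∣ Nat.card (Equiv.Perm {s : K ⧸ H' // s ≠ base}) := card_subgroup_dvd_card _
  rw [Nat.card_perm] at h3
  have h4 : Nat.card {s : K ⧸ H' // s ≠ base} = H.relIndex K - 1 := by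
    haveI : Fintype (K ⧸ H') := Fintype.ofFinite _
    rw [Nat.card_eq_fintype_card, Fintype.card_subtype_compl, Fintype.card_subtype_eq]
    rw [← Nat.card_eq_fintype_card]
    rfl
  rw [h4] at h3
  exact h2.trans h3

/-- Index of an intersection of normal subgroups. -/
theorem index_iInf_dvd {A ι : Type*} [Group A] [Finite A] [Fintype ι] (J : ι → Subgroup A)
    [∀ i, (J i).Normal] : (⨅ i, J i).index ∣ ∏ i, (J i).index := by
  let φ : A →* ∀ i, A ⧸ J i := MonoidHom.pi (fun i => QuotientGroup.mk' (J i))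
  have hker : φ.ker = ⨅ i, J i := by
    ext x
    simp [MonoidHom.mem_ker, φ, funext_iff, Subgroup.mem_iInf]
  rw [← hker, index_ker]
  have h1 : Nat.card φ.range ∣ Nat.card (∀ i, A ⧸ J i) := card_subgroup_dvd_card _
  rw [Nat.card_pi] at h1
  exact h1

theorem card_mul_relIndex {S T : Subgroup G} (hST : S ≤ T) : Nat.card S * S.relIndex T = Nat.card T := by
  have h1 := card_mul_index (S.subgroupOf T)
  rw [Nat.card_congr (subgroupOfEquivOfLe hST).toEquiv] at h1
  exact h1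

variable {M₁ M₂ A B X Y : Subgroup G}

theorem mem_B (h : Setup M₁ M₂ A B X Y) {x : G} (hx : x ∈ M₂) (hc : ∀ m ∈ M₂, m * x * m⁻¹ ∈ M₁) : x ∈ B := by
  have : zpowers x ≤ B := by
    apply le_B h ((zpowers_le).mpr hx)
    rintro m hm _ ⟨k, rfl⟩
    have e : m * x ^ k * m⁻¹ = (m * x * m⁻¹) ^ k := (conj_zpow).symm
    show m * x ^ k * m⁻¹ ∈ M₁
    rw [e]
    exact M₁.zpow_mem (hc m hm) k
  exact this (mem_zpowers x)

theorem relIndex_B (h : Setup M₁ M₂ A B X Y) : B.relIndex (M₁ ⊓ M₂) ∣ ((M₁ ⊓ M₂).relIndex M₂ - 1).factorial :=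
  perm2 inf_le_right (fun _ hx hy => mem_B h hx (fun m hm => (hy m hm).1))

theorem relIndex_A (h : Setup M₁ M₂ A B X Y) : A.relIndex M₁ ∣ ((M₁ ⊓ M₂).relIndex M₁).factorial :=
  perm1 inf_le_left (fun _ hx hy => mem_B h.symm hx (fun m hm => (hy m hm).2))

theorem relIndex_inf (h : Setup M₁ M₂ A B X Y) : (A ⊓ B).relIndex A ∣ B.relIndex (M₁ ⊓ M₂) := by
  haveI hN : (B.subgroupOf (M₁ ⊓ M₂)).Normal :=
    normal_subgroupOf_of_le_normalizer (inf_le_right.trans h.B_nrm)
  let g : A →* (↥(M₁ ⊓ M₂) ⧸ (B.subgroupOf (M₁ ⊓ M₂))) :=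
    (QuotientGroup.mk' _).comp (Subgroup.inclusion h.A_le)
  have hker : g.ker = (A ⊓ B).subgroupOf A := by
    ext x
    rw [MonoidHom.mem_ker]
    simp only [g, MonoidHom.comp_apply, QuotientGroup.mk'_apply, QuotientGroup.eq_one_iff, mem_subgroupOf,
      Subgroup.coe_inclusion, Subgroup.mem_inf]
    constructor
    · intro hx
      exact ⟨x.2, hx⟩
    · intro hx
      exact hx.2
  rw [Subgroup.relIndex, ← hker, index_ker]
  exact card_subgroup_dvd_card _

theorem relIndex_X (h : Setup M₁ M₂ A B X Y) {d e : ℕ} (hd₁ : (M₁ ⊓ M₂).relIndex M₁ = d)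
    (he : (A ⊓ B).relIndex A ∣ e) : X.relIndex A ∣ e ^ d := by
  classical
  let D' : Subgroup M₁ := (M₁ ⊓ M₂).subgroupOf M₁
  haveI : Fintype (M₁ ⧸ D') := Fintype.ofFinite _
  let m : (M₁ ⧸ D') → M₁ := fun i => Quotient.out i
  let J : (M₁ ⧸ D') → Subgroup A := fun i =>
    ((A ⊓ B).map (MulAut.conj (m i : G)).toMonoidHom).subgroupOf A
  have hconjA : ∀ i, (A ⊓ B).map (MulAut.conj (m i : G)).toMonoidHom ≤ A := by
    rintro i _ ⟨y, hy, rfl⟩
    exact conj_mem h.A_nrm (m i).2 hy.1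
  haveI hJn : ∀ i, (J i).Normal := by
    intro i
    apply normal_subgroupOf_of_le_normalizer
    apply le_normalizer_of_conj
    intro a ha y hy
    rw [mem_map_conj] at hy ⊢
    have ha' : (m i : G)⁻¹ * a * (m i : G) ∈ A := conj_inv_mem h.A_nrm (m i).2 ha
    have := conj_mem (A_nrm_inf h) ha' hy
    have e' : (m i : G)⁻¹ * (a * y * a⁻¹) * (m i : G) =
        ((m i : G)⁻¹ * a * (m i : G)) * ((m i : G)⁻¹ * y * (m i : G)) * ((m i : G)⁻¹ * a * (m i : G))⁻¹ := by group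
    rw [e']
    exact this
  have hidx : ∀ i, (J i).index = (A ⊓ B).relIndex A := by
    intro i
    have h1 := card_mul_relIndex (hconjA i)
    have h2 := card_mul_relIndex (inf_le_left : A ⊓ B ≤ A)
    have h3 : Nat.card ((A ⊓ B).map (MulAut.conj (m i : G)).toMonoidHom) = Nat.card (A ⊓ B : Subgroup G) :=
      (Nat.card_congr ((A ⊓ B).equivMapOfInjective _ (MulAut.conj (m i : G)).injective).toEquiv).symm
    rw [h3] at h1
    exact Nat.eq_of_mul_eq_mul_left Nat.card_pos (h1.trans h2.symm)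
  have hT : A ⊓ (⨅ t : M₁, B.map (MulAut.conj (t : G)).toMonoidHom) ≤ X := by
    apply h.X_max
    · intro y hy
      refine ⟨hy.1, ?_⟩
      have := (Subgroup.mem_iInf.mp hy.2) 1
      rw [mem_map_conj] at this
      simpa using this
    · apply le_normalizer_of_conj
      intro m₀ hm₀ y hy
      refine ⟨conj_mem h.A_nrm hm₀ hy.1, Subgroup.mem_iInf.mpr ?_⟩
      intro t
      have := (Subgroup.mem_iInf.mp hy.2) (⟨m₀, hm₀⟩⁻¹ * t)
      rw [mem_map_conj] at this ⊢
      have e' : (t : G)⁻¹ * (m₀ * y * m₀⁻¹) * (t : G) = ((⟨m₀, hm₀⟩⁻¹ * t : M₁) : G)⁻¹ * y * ((⟨m₀, hm₀⟩⁻¹ * t : M₁) : G) := by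
        simp only [Subgroup.coe_mul, Subgroup.coe_inv]
        group
      rw [e']
      exact this
  have hle : (⨅ i, J i) ≤ X.subgroupOf A := by
    intro x hx
    apply hT
    refine ⟨x.2, Subgroup.mem_iInf.mpr ?_⟩
    intro t
    obtain ⟨δ, hδ⟩ := QuotientGroup.mk_out_eq_mul D' t
    have h1 := (Subgroup.mem_iInf.mp hx) (t : M₁ ⧸ D')
    have h2 : (x : G) ∈ (A ⊓ B).map (MulAut.conj (m (t : M₁ ⧸ D') : G)).toMonoidHom := h1
    rw [mem_map_conj] at h2
    have h3 : (m (t : M₁ ⧸ D') : M₁) = t * δ := hδ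
    rw [h3] at h2
    have h4 := h2.2
    rw [mem_map_conj]
    have hδ2 : ((δ : M₁) : G) ∈ M₂ := (δ.2 : ((δ : M₁) : G) ∈ M₁ ⊓ M₂).2
    have h5 := conj_mem h.B_nrm hδ2 h4
    have e' : (t : G)⁻¹ * x * t = ((δ : M₁) : G) * (((t * δ : M₁) : G)⁻¹ * x * ((t * δ : M₁) : G)) * ((δ : M₁) : G)⁻¹ := by
      simp only [Subgroup.coe_mul]
      group
    show (t : G)⁻¹ * (x : G) * t ∈ B
    rw [e']
    exact h5
  have h1 := index_iInf_dvd J
  have h3 : ∏ i, (J i).index ∣ e ^ d := by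
    have hc : Fintype.card (M₁ ⧸ D') = d := by
      rw [← hd₁, ← Nat.card_eq_fintype_card]
      rfl
    rw [← hc, ← Finset.card_univ, ← Finset.prod_const]
    apply Finset.prod_dvd_prod_of_dvd
    intro i _
    rw [hidx i]
    exact he
  exact (index_dvd_of_le hle).trans (h1.trans h3)

/-- The index bound. -/
theorem index_bound (h : Setup M₁ M₂ A B X Y) {d : ℕ} (hd₁ : (M₁ ⊓ M₂).relIndex M₁ = d)
    (hd₂ : (M₁ ⊓ M₂).relIndex M₂ = d) : X.relIndex M₁ ∣ d.factorial * ((d - 1).factorial) ^ d := by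
  have a := relIndex_A h
  rw [hd₁] at a
  have b := relIndex_B h
  rw [hd₂] at b
  have x := relIndex_X h hd₁ ((relIndex_inf h).trans b)
  rw [← relIndex_mul_relIndex X A M₁ (X_le_A h) (A_le_M₁ h), mul_comm]
  exact mul_dvd_mul a x

/-- Packaging for the S5752 form. -/
theorem main_of_conj {M₁ M₂ : Subgroup G} (hmax : IsCoatom M₁) (g : G)
    (hconj : M₂ = M₁.map (MulAut.conj g).toMonoidHom) (hne : M₁ ≠ M₂) (hcore : M₁.normalCore = ⊥) :
    Setup M₁ M₂ (coreIn M₁ (M₁ ⊓ M₂)) (coreIn M₂ (M₁ ⊓ M₂))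
      (coreIn M₁ (coreIn M₁ (M₁ ⊓ M₂) ⊓ coreIn M₂ (M₁ ⊓ M₂)))
      (coreIn M₂ (coreIn M₁ (M₁ ⊓ M₂) ⊓ coreIn M₂ (M₁ ⊓ M₂))) := by
  have h2 : IsCoatom M₂ := by rw [hconj]; exact isCoatom_map_conj hmax g
  have c2 : M₂.normalCore = ⊥ := by rw [hconj]; exact normalCore_map_conj hcore g
  exact setup_core hmax h2 hcore c2 hne

end Cfsg.Agent.H17.TW
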