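import Mathlib
import Cfsg.Agent.S1020
import Cfsg.Agent.Lib.H17.Mob8
import Cfsg.Agent.Lib.H17.Mob9
import Cfsg.Agent.Lib.H17.Q17
import Cfsg.Agent.Lib.H20.SylowNumber

/-! Faithful actions on the 18 Sylow 17-subgroups. -/

set_option autoImplicit false
set_option maxRecDepth 100000
set_option linter.style.haveILetI false

namespace Cfsg.Agent.H17.Mob17

open OnePoint Matrix Cfsg.Agent.H17.Mob
open scoped MatrixGroups

instance fact17 : Fact (Nat.Prime 17) := ⟨by norm_num⟩

def L2 : List (ℕ × ℕ) := [(0, 0), (0, 0), (1, 0), (2, 0), (3, 0), (4, 0), (5, 0), (6, 0), (7, 0), (7, 1), (6, 1), (5, 1), (4, 1), (3, 1), (2, 1), (1, 1), (0, 1)]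
def R2 : List ℕ := [1, 16]
def reps2 : List ℕ := [1, 2, 3, 4, 5, 6, 7, 8]
theorem log2 : logC 17 16 reps2 L2 = true := by decide +kernel
theorem dfs2 : R2.all (fun c => dfsB 17 c R2 L2 (fun _ => false) reps2.length []) = true := by decide +kernel
theorem reps2_ne : ∀ r ∈ reps2, (r : ZMod 17) ≠ 0 := by decide +kernel
theorem roots2 : ∀ l : ZMod 17, l ^ 2 = 1 → l.val ∈ R2 := by decide +kernel
theorem g02 : ((16 : ℕ) : ZMod 17) ≠ 0 := by decide +kernel
theorem g0m2 : ((16 : ℕ) : ZMod 17) ^ 2 = 1 := by decide +kernel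
def L4 : List (ℕ × ℕ) := [(0, 0), (0, 0), (1, 0), (2, 0), (0, 1), (2, 3), (3, 0), (3, 1), (1, 1), (1, 3), (3, 3), (3, 2), (2, 1), (0, 3), (2, 2), (1, 2), (0, 2)]
def R4 : List ℕ := [1, 4, 13, 16]
def reps4 : List ℕ := [1, 2, 3, 6]
theorem log4 : logC 17 4 reps4 L4 = true := by decide +kernel
theorem dfs4 : R4.all (fun c => dfsB 17 c R4 L4 (fun _ => false) reps4.length []) = true := by decide +kernel
theorem reps4_ne : ∀ r ∈ reps4, (r : ZMod 17) ≠ 0 := by decide +kernel
theorem roots4 : ∀ l : ZMod 17, l ^ 4 = 1 → l.val ∈ R4 := by decide +kernel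
theorem g04 : ((4 : ℕ) : ZMod 17) ≠ 0 := by decide +kernel
theorem g0m4 : ((4 : ℕ) : ZMod 17) ^ 4 = 1 := by decide +kernel
def L16 : List (ℕ × ℕ) := [(0, 0), (0, 0), (0, 14), (0, 1), (0, 12), (0, 5), (0, 15), (0, 11), (0, 10), (0, 2), (0, 3), (0, 7), (0, 13), (0, 4), (0, 9), (0, 6), (0, 8)]
def R16 : List ℕ := [1, 2, 3, 4, 5, 6, 7, 8, 9, 10, 11, 12, 13, 14, 15, 16]
def reps16 : List ℕ := [1]
theorem log16 : logC 17 3 reps16 L16 = true := by decide +kernel
theorem dfs16 : R16.all (fun c => dfsB 17 c R16 L16 (recipB 17) reps16.length []) = true := by decide +kernel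
theorem reps16_ne : ∀ r ∈ reps16, (r : ZMod 17) ≠ 0 := by decide +kernel
theorem roots16 : ∀ l : ZMod 17, l ^ 16 = 1 → l.val ∈ R16 := by decide +kernel
theorem g016 : ((3 : ℕ) : ZMod 17) ≠ 0 := by decide +kernel
theorem g0m16 : ((3 : ℕ) : ZMod 17) ^ 16 = 1 := by decide +kernel

lemma roots_card (m : ℕ) (hm : 0 < m) (h : Nat.card {x : ZMod 17 // x ^ m = 1} = m) :
    m = 1 ∨ m = 2 ∨ m = 4 ∨ m = 8 ∨ m = 16 := by
  classical
  have h1 : m ≤ 16 := by
    rw [← h]
    have hinj : Function.Injective (fun x : {x : ZMod 17 // x ^ m = 1} =>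
        (⟨x.1, fun h0 => by
          have := x.2
          rw [h0, zero_pow hm.ne'] at this
          exact absurd this (by decide)⟩ : {y : ZMod 17 // y ≠ 0})) := by
      intro a b hab
      exact Subtype.ext (congrArg (fun y : {y : ZMod 17 // y ≠ 0} => y.1) hab)
    have h2 := Nat.card_le_card_of_injective _ hinj
    have h3 : Nat.card {y : ZMod 17 // y ≠ 0} = 16 := by
      rw [Nat.card_eq_fintype_card]
      decide +kernel
    omega
  rw [Nat.card_eq_fintype_card] at h
  have key : ∀ n : Fin 17, 0 < n.val → Fintype.card {x : ZMod 17 // x ^ n.val = 1} = n.val →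
      n.val = 1 ∨ n.val = 2 ∨ n.val = 4 ∨ n.val = 8 ∨ n.val = 16 := by decide +kernel
  exact key ⟨m, by omega⟩ hm (by convert h)

section

variable {X : Type*} [Group X] [Finite X]

lemma card_sl_range : Nat.card (slPerm (ZMod 17)).range = 2448 := by
  have e1 : (SpecialLinearGroup (Fin 2) (ZMod 17)) ⧸ (slPerm (ZMod 17)).ker ≃* ProjectiveSpecialLinearGroup (Fin 2) (ZMod 17) :=
    QuotientGroup.quotientMulEquivOfEq slPerm_ker
  have e2 := QuotientGroup.quotientKerEquivRange (slPerm (ZMod 17))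
  have h := card_psl (p := 17) (by norm_num)
  have h2 := Nat.card_congr (e2.symm.trans e1).toEquiv
  omega

lemma card_gl_range : Nat.card (glPerm (ZMod 17)).range = 4896 := by
  have e1 : (GL (Fin 2) (ZMod 17)) ⧸ (glPerm (ZMod 17)).ker ≃* (GL (Fin 2) (ZMod 17) ⧸ Subgroup.center (GL (Fin 2) (ZMod 17))) :=
    QuotientGroup.quotientMulEquivOfEq glPerm_ker
  have e2 := QuotientGroup.quotientKerEquivRange (glPerm (ZMod 17))
  have h := card_pgl (p := 17)
  have h2 := Nat.card_congr (e2.symm.trans e1).toEquiv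
  rw [h] at h2
  omega

lemma range_card {ρ : X →* Equiv.Perm (OnePoint (ZMod 17))} (hρ : Function.Injective ρ) : Nat.card ρ.range = Nat.card X :=
  (Nat.card_congr (MonoidHom.ofInjective hρ).toEquiv).symm

/-- a group of order 306 with 18 Sylow 17-subgroups does not exist -/
lemma no306 (hcard : Nat.card X = 306) (hn : Nat.card (Sylow 17 X) = 18) : False := by
  haveI : Fact (Nat.Prime 2) := ⟨Nat.prime_two⟩
  obtain ⟨t, ht⟩ := exists_prime_orderOf_dvd_card' (G := X) 2 (by rw [hcard]; norm_num)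
  have hf : (Nat.card X).factorization 2 = 1 := by
    rw [hcard]
    have e : (306 : ℕ) = 2 * 153 := by norm_num
    rw [e, Nat.factorization_mul (by norm_num) (by norm_num), Nat.Prime.factorization (by norm_num)]
    simp [Nat.factorization_eq_zero_of_not_dvd (show ¬ 2 ∣ 153 by norm_num)]
  let P : Sylow 2 X := Sylow.ofCard (Subgroup.zpowers t) (by rw [Nat.card_zpowers, ht, hf, pow_one])
  have hPe : (P : Subgroup X) = Subgroup.zpowers t := rfl
  have hN : Subgroup.normalizer (P : Set X) ≤ Subgroup.centralizer (P : Set X) := by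
    intro g hg
    rw [Subgroup.mem_centralizer_iff]
    intro y hy
    have hy' : y ∈ Subgroup.zpowers t := hy
    have h1 : g * t * g⁻¹ ∈ Subgroup.zpowers t := (Subgroup.mem_normalizer_iff.mp hg t).mp (Subgroup.mem_zpowers t)
    have h2 : g * t * g⁻¹ = t := by
      have h3 := mem_powers_iff_mem_zpowers.mpr h1
      obtain ⟨k, hk⟩ := Submonoid.mem_powers_iff _ _ |>.mp h3
      have h4 : t ^ (k % 2) = g * t * g⁻¹ := by
        rw [← hk]
        have h5 := pow_mod_orderOf t k
        rwa [ht] at h5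
      have h6 : k % 2 < 2 := Nat.mod_lt _ (by norm_num)
      interval_cases h7 : k % 2
      · exfalso
        rw [pow_zero] at h4
        have h8 : t = 1 := by
          have h9 : g * t = g := by
            have h10 : g * t * g⁻¹ * g = 1 * g := by rw [← h4]
            simpa using h10
          simpa using h9
        rw [h8, orderOf_one] at ht
        omega
      · rw [← h4, pow_one]
    obtain ⟨k, rfl⟩ := Subgroup.mem_zpowers_iff.mp hy'
    have hcomm : Commute g t := by
      show g * t = t * g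
      have := congrArg (· * g) h2
      simpa using this
    exact (hcomm.zpow_right k).symm.eq
  have hC := MonoidHom.ker_transferSylow_isComplement' P hN
  set K := (MonoidHom.transferSylow P hN).ker with hK
  have hcardK := hC.card_mul
  have hPc : Nat.card (P : Subgroup X) = 2 := by
    rw [hPe, Nat.card_zpowers, ht]
  rw [hPc, hcard] at hcardK
  have hK153 : Nat.card K = 153 := by omega
  have hKi : K.index = 2 := by
    have := K.card_mul_index
    rw [hK153, hcard] at this
    omega
  haveI hKn : K.Normal := MonoidHom.normal_ker _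
  -- a Sylow 17-subgroup of `X`
  obtain ⟨Q⟩ : Nonempty (Sylow 17 X) := inferInstance
  have hQK : (Q : Subgroup X) ≤ K := by
    have h1 : K.relIndex Q ∣ K.index := Subgroup.relIndex_dvd_index_of_normal K Q
    have h2 : K.relIndex Q ∣ Nat.card Q := Subgroup.relIndex_dvd_card K Q
    obtain ⟨n, hn⟩ := IsPGroup.iff_card.mp Q.isPGroup'
    rw [hn] at h2
    rw [hKi] at h1
    have h3 : Nat.Coprime 2 (17 ^ n) := Nat.Coprime.pow_right n (by norm_num)
    have h4 : K.relIndex Q = 1 := Nat.eq_one_of_dvd_coprimes h3 h1 h2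
    exact Subgroup.relIndex_eq_one.mp h4
  have hnK := Cfsg.Agent.H20.card_sylow_sub K Q hQK
  have hnK1 : Nat.card (Sylow 17 K) = 1 := by
    have h1 : Nat.card (Sylow 17 K) ∣ Nat.card K := by
      obtain ⟨Q'⟩ : Nonempty (Sylow 17 K) := inferInstance
      rw [Sylow.card_eq_index_normalizer Q']
      exact Subgroup.index_dvd_card _
    rw [hK153] at h1
    have h2 := card_sylow_modEq_one 17 K
    have h3 := Nat.le_of_dvd (by norm_num) h1
    rw [Nat.ModEq] at h2
    generalize Nat.card (Sylow 17 K) = k at h1 h2 h3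
    interval_cases k <;> first | rfl | omega
  rw [hnK1] at hnK
  have hle : K ≤ Subgroup.normalizer (Q : Set X) := Subgroup.relIndex_eq_one.mp hnK.symm
  have h5 := Subgroup.index_dvd_of_le hle
  rw [hKi, ← Sylow.card_eq_index_normalizer Q, hn] at h5
  omega

end

end Cfsg.Agent.H17.Mob17
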