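import Mathlib
import Cfsg.Agent.Lib.H17.X17
import Cfsg.Agent.Lib.H18.PGroup

/-! Faithful actions on the 18 Sylow 17-subgroups (continued). -/

set_option autoImplicit false
set_option maxRecDepth 100000
set_option linter.style.haveILetI false

namespace Cfsg.Agent.H17.Mob17

open OnePoint Matrix Cfsg.Agent.H17.Mob Cfsg.Agent.S1020
open scoped MatrixGroups

variable {X : Type*} [Group X] [Finite X]

theorem X_cases (hn : Nat.card (Sylow 17 X) = 18)
    (hf : Function.Injective (MulAction.toPermHom X (Sylow 17 X))) :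
    ∃ (ρ : X →* Equiv.Perm (OnePoint (ZMod 17))) (m : ℕ), Function.Injective ρ ∧ AffAct m ρ ∧
      Nat.card X = 17 * (18 * m) ∧
      ((m = 8 ∧ ρ.range = (slPerm (ZMod 17)).range) ∨ (m = 16 ∧ ρ.range = (glPerm (ZMod 17)).range)) := by
  have h18 : 18 ∣ Nat.card X := by
    obtain ⟨P⟩ : Nonempty (Sylow 17 X) := inferInstance
    rw [← hn, Sylow.card_eq_index_normalizer P]
    exact Subgroup.index_dvd_card _
  have h17 : 17 ∣ Nat.card X := by
    by_contra hcon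
    have hone : ∀ P : Sylow 17 X, (P : Subgroup X) = ⊥ := by
      intro P
      have h1 := Sylow.card_eq_multiplicity P
      rw [Nat.factorization_eq_zero_of_not_dvd hcon, pow_zero] at h1
      exact Subgroup.eq_bot_of_card_eq _ h1
    haveI : Subsingleton (Sylow 17 X) := ⟨fun a b => Sylow.ext (by rw [hone a, hone b])⟩
    have h2 : Nat.card (Sylow 17 X) = 1 := Nat.card_unique
    omega
  have h289 : ¬ 17 ^ 2 ∣ Nat.card X := by
    intro h
    have h1 : Nat.card X ∣ Nat.card (Equiv.Perm (Sylow 17 X)) := Subgroup.card_dvd_of_injective _ hf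
    rw [Nat.card_perm, hn] at h1
    have h2 := dvd_trans h h1
    norm_num [Nat.factorial] at h2
  obtain ⟨m, hm⟩ : 306 ∣ Nat.card X := by
    have e : (306 : ℕ) = 17 * 18 := by norm_num
    rw [e]
    exact Nat.Coprime.mul_dvd_of_dvd_of_dvd (by norm_num) h17 h18
  have hpos : 0 < Nat.card X := Nat.card_pos
  have hm0 : 0 < m := by
    rcases Nat.eq_zero_or_pos m with rfl | h
    · omega
    · exact h
  have hcard : Nat.card X = 17 * (18 * m) := by omega
  have hpm : ¬ 17 ∣ m := by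
    rintro ⟨k, rfl⟩
    apply h289
    exact ⟨18 * k, by rw [hcard]; ring⟩
  obtain ⟨ρ, hρ, hA, hm'⟩ := affAct_of_sylow2 (p := 17) m hm0 (by rw [hcard]) hpm (by rw [hn]) hf
  rcases roots_card m hm0 hm' with rfl | rfl | rfl | rfl | rfl
  · exact (no306 (by omega) hn).elim
  · exact (search_false hA 16 reps2 R2 L2 log2 reps2_ne roots2 g02 g0m2 dfs2).elim
  · exact (search_false hA 4 reps4 R4 L4 log4 reps4_ne roots4 g04 g0m4 dfs4).elim
  · obtain ⟨μ, h1, h2⟩ := hA.swap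
    obtain ⟨ι, D⟩ := exists_swapData (ρ := ρ) μ h1 h2
    obtain ⟨c, hcm, hc0, hc⟩ := D.equivariant hA _ g0m17 g017
    obtain ⟨κ, hκ, hκm, hκι⟩ := chk_sound 8 2 3 R17 R17 L17 log17 (by decide +kernel) chk17 ι c D.ne
      (fun x y hx hy e => D.inj hx hy e) (roots17 c hcm) g017 n017 hc (by
        intro d hd
        obtain ⟨l, hlm, hl0, hl⟩ := D.star hA d hd
        exact ⟨l, roots17 l hlm, hl0, hl⟩)
    have hle := range_le hA (by norm_num) (by norm_num) μ ι D κ hκ hκm hκι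
    refine ⟨ρ, 8, hρ, hA, hcard, Or.inl ⟨rfl, Subgroup.eq_of_le_of_card_ge hle ?_⟩⟩
    rw [card_sl_range, range_card hρ, hcard]
  · obtain ⟨μ, ι, κ, D, hκ, hκι⟩ := search_recip hA 3 reps16 R16 L16 log16 reps16_ne roots16 g016 g0m16 dfs16
    have hle := range_le_gl hA μ ι D κ hκ hκι
    refine ⟨ρ, 16, hρ, hA, hcard, Or.inr ⟨rfl, Subgroup.eq_of_le_of_card_ge hle ?_⟩⟩
    rw [card_gl_range, range_card hρ, hcard]

/-- three fixed points -/
lemma fix3 {m : ℕ} {ρ : X →* Equiv.Perm (OnePoint (ZMod 17))} (hρ : Function.Injective ρ) (hA : AffAct m ρ)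
    (g : X) (h1 : ρ g ∞ = ∞) (h2 : ρ g ((0 : ZMod 17) : OnePoint (ZMod 17)) = ((0 : ZMod 17) : OnePoint (ZMod 17)))
    (s : ZMod 17) (hs : s ≠ 0) (h3 : ρ g (s : OnePoint (ZMod 17)) = (s : OnePoint (ZMod 17))) : g = 1 := by
  obtain ⟨l, b, hl0, hlm, hl⟩ := hA.aff g h1
  have hb : b = 0 := by
    have h4 := hl 0
    rw [h2, mul_zero, zero_add] at h4
    exact (OnePoint.coe_injective h4).symm
  subst hb
  have hl1 : l = 1 := by
    have h4 := hl s
    rw [h3, add_zero] at h4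
    have h5 := OnePoint.coe_injective h4
    have h6 : (l - 1) * s = 0 := by
      rw [sub_mul, one_mul, ← h5, sub_self]
    rcases mul_eq_zero.mp h6 with h7 | h7
    · exact sub_eq_zero.mp h7
    · exact absurd h7 hs
  subst hl1
  apply hρ
  rw [map_one]
  refine Equiv.ext fun x => ?_
  induction x using OnePoint.rec with
  | infty => exact h1
  | coe s =>
    rw [hl, add_zero, one_mul]
    rfl

section D0

variable (ρ : X →* Equiv.Perm (OnePoint (ZMod 17)))

/-- the stabilizer of the pair `{∞, 0}` -/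
def D0 : Subgroup X where
  carrier := {g | (ρ g ∞ = ∞ ∧ ρ g ((0 : ZMod 17) : OnePoint (ZMod 17)) = ((0 : ZMod 17) : OnePoint (ZMod 17))) ∨
    (ρ g ∞ = ((0 : ZMod 17) : OnePoint (ZMod 17)) ∧ ρ g ((0 : ZMod 17) : OnePoint (ZMod 17)) = ∞)}
  mul_mem' := by
    rintro a b (⟨h1, h2⟩ | ⟨h1, h2⟩) (⟨h3, h4⟩ | ⟨h3, h4⟩)
    · left
      simp only [map_mul, Equiv.Perm.mul_apply, h1, h2, h3, h4, and_self]
    · right
      simp only [map_mul, Equiv.Perm.mul_apply, h1, h2, h3, h4, and_self]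
    · right
      simp only [map_mul, Equiv.Perm.mul_apply, h1, h2, h3, h4, and_self]
    · left
      simp only [map_mul, Equiv.Perm.mul_apply, h1, h2, h3, h4, and_self]
  one_mem' := Or.inl (by simp)
  inv_mem' := by
    rintro a (⟨h1, h2⟩ | ⟨h1, h2⟩)
    · left
      rw [map_inv, Equiv.Perm.inv_eq_iff_eq, Equiv.Perm.inv_eq_iff_eq]
      exact ⟨h1.symm, h2.symm⟩
    · right
      rw [map_inv, Equiv.Perm.inv_eq_iff_eq, Equiv.Perm.inv_eq_iff_eq]
      exact ⟨h2.symm, h1.symm⟩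

lemma mem_D0 (g : X) : g ∈ D0 ρ ↔ (ρ g ∞ = ∞ ∧ ρ g ((0 : ZMod 17) : OnePoint (ZMod 17)) = ((0 : ZMod 17) : OnePoint (ZMod 17))) ∨
    (ρ g ∞ = ((0 : ZMod 17) : OnePoint (ZMod 17)) ∧ ρ g ((0 : ZMod 17) : OnePoint (ZMod 17)) = ∞) := Iff.rfl

lemma sq_fix (g : X) (hg : g ∈ D0 ρ) : ρ (g ^ 2) ∞ = ∞ ∧
    ρ (g ^ 2) ((0 : ZMod 17) : OnePoint (ZMod 17)) = ((0 : ZMod 17) : OnePoint (ZMod 17)) := by
  rw [pow_two, map_mul, Equiv.Perm.mul_apply, Equiv.Perm.mul_apply]
  rcases hg with ⟨h1, h2⟩ | ⟨h1, h2⟩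
  · simp only [h1, h2, and_self]
  · simp only [h1, h2, and_self]

variable {ρ} {m : ℕ}

/-- the stabilizer is a 2-group -/
lemma D0_pgroup (hρ : Function.Injective ρ) (hA : AffAct m ρ) (k : ℕ) (hm : 2 * m = 2 ^ k) : IsPGroup 2 (D0 ρ) := by
  rintro ⟨g, hg⟩
  refine ⟨k, Subtype.ext ?_⟩
  show g ^ 2 ^ k = 1
  obtain ⟨h1, h2⟩ := sq_fix ρ g hg
  obtain ⟨l, b, hl0, hlm, hl⟩ := hA.aff _ h1
  have hb : b = 0 := by
    have h4 := hl 0
    rw [h2, mul_zero, zero_add] at h4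
    exact (OnePoint.coe_injective h4).symm
  subst hb
  have hpow : ∀ j : ℕ, ρ ((g ^ 2) ^ j) ∞ = ∞ ∧ ∀ s : ZMod 17,
      ρ ((g ^ 2) ^ j) (s : OnePoint (ZMod 17)) = ((l ^ j * s : ZMod 17) : OnePoint (ZMod 17)) := by
    intro j
    induction j with
    | zero => simp
    | succ j ih =>
      refine ⟨?_, fun s => ?_⟩
      · rw [pow_succ, map_mul, Equiv.Perm.mul_apply, h1, ih.1]
      · rw [pow_succ, map_mul, Equiv.Perm.mul_apply, hl, ih.2, add_zero, pow_succ, mul_assoc]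
  rw [← hm, pow_mul]
  apply hρ
  rw [map_one]
  refine Equiv.ext fun x => ?_
  induction x using OnePoint.rec with
  | infty => exact (hpow m).1
  | coe s =>
    rw [(hpow m).2, hlm, one_mul]
    rfl

/-- the stabilizer is self-normalizing -/
lemma D0_self_norm (hρ : Function.Injective ρ) (hA : AffAct m ρ) (hm : (2 : ZMod 17) ^ m = 1) (x : X)
    (hx : x ∈ Subgroup.normalizer ((D0 ρ : Subgroup X) : Set X)) : x ∈ D0 ρ := by
  obtain ⟨M, hM0, hM⟩ := hA.scal 2 hm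
  have hMD : M ∈ D0 ρ := Or.inl ⟨hM0, by rw [hM, mul_zero]⟩
  have hy : x * M * x⁻¹ ∈ D0 ρ := (Subgroup.mem_normalizer_iff.mp hx M).mp hMD
  obtain ⟨h1, h2⟩ := sq_fix ρ _ hy
  have hM2 : (x * M * x⁻¹) ^ 2 ≠ 1 := by
    intro h
    have h3 : M ^ 2 = 1 := by
      have e : (x * M * x⁻¹) ^ 2 = x * M ^ 2 * x⁻¹ := conj_pow
      rw [e] at h
      have h4 : M ^ 2 = x⁻¹ * (x * M ^ 2 * x⁻¹) * x := by group
      rw [h4, h]
      group
    have h5 : ρ (M ^ 2) ((1 : ZMod 17) : OnePoint (ZMod 17)) = ((1 : ZMod 17) : OnePoint (ZMod 17)) := by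
      rw [h3, map_one]
      rfl
    rw [pow_two, map_mul, Equiv.Perm.mul_apply, hM, hM] at h5
    have h6 := OnePoint.coe_injective h5
    revert h6
    decide +kernel
  have hfix : ∀ a : OnePoint (ZMod 17), ρ M a = a → ρ x a = ∞ ∨ ρ x a = ((0 : ZMod 17) : OnePoint (ZMod 17)) := by
    intro a ha
    have h3 : ρ ((x * M * x⁻¹) ^ 2) (ρ x a) = ρ x a := by
      have e : (x * M * x⁻¹) ^ 2 = x * (M * M) * x⁻¹ := by rw [conj_pow, pow_two]
      rw [e]
      simp only [map_mul, map_inv, Equiv.Perm.mul_apply]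
      rw [show (ρ x)⁻¹ ((ρ x) a) = a from Equiv.Perm.inv_eq_iff_eq.mpr rfl, ha, ha]
    by_cases h4 : ρ x a = ∞
    · exact Or.inl h4
    right
    obtain ⟨s, hs⟩ := OnePoint.ne_infty_iff_exists.mp h4
    by_cases h5 : s = 0
    · rw [← hs, h5]
    · exfalso
      rw [← hs] at h3
      exact hM2 (fix3 hρ hA _ h1 h2 s h5 h3)
  have h00 : ρ M ((0 : ZMod 17) : OnePoint (ZMod 17)) = ((0 : ZMod 17) : OnePoint (ZMod 17)) := by
    rw [hM, mul_zero]
  rcases hfix ∞ hM0 with h3 | h3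
  · rcases hfix _ h00 with h4 | h4
    · exfalso
      have := (ρ x).injective (h4.trans h3.symm)
      exact OnePoint.coe_ne_infty _ this
    · exact Or.inl ⟨h3, h4⟩
  · rcases hfix _ h00 with h4 | h4
    · exact Or.inr ⟨h3, h4⟩
    · exfalso
      have := (ρ x).injective (h4.trans h3.symm)
      exact OnePoint.coe_ne_infty _ this

/-- the number of Sylow 2-subgroups -/
theorem X_syl2 (hρ : Function.Injective ρ) (hA : AffAct m ρ) (hm : (2 : ZMod 17) ^ m = 1) (k : ℕ)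
    (hmk : 2 * m = 2 ^ k) (hcard : Nat.card X = 17 * (18 * m)) : Nat.card (Sylow 2 X) = 153 := by
  haveI : Fact (Nat.Prime 2) := ⟨Nat.prime_two⟩
  have hD := D0_pgroup hρ hA k hmk
  obtain ⟨T, hT⟩ := hD.exists_le_sylow
  have hTD : (T : Subgroup X) = D0 ρ := by
    by_contra hne
    have hlt : D0 ρ < (T : Subgroup X) := lt_of_le_of_ne hT (Ne.symm hne)
    obtain ⟨x, -, hx2, hx3⟩ := Cfsg.Agent.H18.exists_mem_sdiff_normalizer T.isPGroup' hlt
    exact hx2 (D0_self_norm hρ hA hm x hx3)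
  have hN : Subgroup.normalizer (T : Set X) = T := by
    apply le_antisymm
    · intro x hx
      rw [hTD]
      apply D0_self_norm hρ hA hm
      have : ((D0 ρ : Subgroup X) : Set X) = (T : Set X) := by
        rw [← hTD]
        rfl
      rw [this]
      exact hx
    · exact Subgroup.le_normalizer
  rw [Sylow.card_eq_index_normalizer T, hN]
  have h1 := (T : Subgroup X).card_mul_index
  obtain ⟨n, hn⟩ := IsPGroup.iff_card.mp T.isPGroup'
  have h2 : ¬ 2 ∣ (T : Subgroup X).index := T.not_dvd_index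
  rw [hn, hcard] at h1
  have h3 : 17 * (18 * m) = 153 * 2 ^ k := by
    rw [← hmk]
    ring
  rw [h3] at h1
  set i := (T : Subgroup X).index with hi
  have hc1 : Nat.Coprime i (2 ^ k) := Nat.Coprime.pow_right k ((Nat.coprime_comm.mp ((Nat.Prime.coprime_iff_not_dvd Nat.prime_two).2 h2)))
  have hc2 : Nat.Coprime 153 (2 ^ n) := Nat.Coprime.pow_right n (by norm_num)
  have h4 : i ∣ 153 := hc1.dvd_of_dvd_mul_right ⟨2 ^ n, by rw [mul_comm i, h1]⟩
  have h5 : 153 ∣ i := hc2.dvd_of_dvd_mul_left ⟨2 ^ k, by rw [h1.symm]⟩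
  exact Nat.dvd_antisymm h4 h5

end D0

end Cfsg.Agent.H17.Mob17
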