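import Mathlib
import Cfsg.Agent.Lib.H17.X17b

/-! The number of Sylow 3-subgroups. -/

set_option autoImplicit false
set_option maxRecDepth 100000
set_option linter.style.haveILetI false

namespace Cfsg.Agent.H17.Mob17

open OnePoint Matrix Cfsg.Agent.H17.Mob
open scoped MatrixGroups

/-- an element of order 9 of `PSL₂(17)` -/
def A9 : SpecialLinearGroup (Fin 2) (ZMod 17) := ⟨!![0, 16; 1, 3], by decide +kernel⟩

theorem A9_pow9_mat : (!![0, 16; 1, 3] : Matrix (Fin 2) (Fin 2) (ZMod 17)) ^ 9 = scalar (Fin 2) 16 := by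
  decide +kernel

theorem A9_pow3_ne : ∀ r : ZMod 17, (!![0, 16; 1, 3] : Matrix (Fin 2) (Fin 2) (ZMod 17)) ^ 3 ≠ scalar (Fin 2) r := by
  decide +kernel

lemma A9_pow9 : A9 ^ 9 ∈ Subgroup.center (SpecialLinearGroup (Fin 2) (ZMod 17)) := by
  rw [Matrix.SpecialLinearGroup.mem_center_iff]
  refine ⟨16, by decide +kernel, ?_⟩
  rw [Matrix.SpecialLinearGroup.coe_pow]
  exact A9_pow9_mat.symm

lemma A9_pow3 : A9 ^ 3 ∉ Subgroup.center (SpecialLinearGroup (Fin 2) (ZMod 17)) := by
  rw [Matrix.SpecialLinearGroup.mem_center_iff]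
  rintro ⟨r, -, hr⟩
  rw [Matrix.SpecialLinearGroup.coe_pow] at hr
  exact A9_pow3_ne r hr.symm

lemma A9_inf : slPerm (ZMod 17) A9 ∞ = ((0 : ZMod 17) : OnePoint (ZMod 17)) := by
  rw [slPerm_infty]
  have h : A9.1 1 0 ≠ 0 := by decide +kernel
  rw [if_neg h]
  congr 1
  decide +kernel

lemma A9_zero : slPerm (ZMod 17) A9 ((0 : ZMod 17) : OnePoint (ZMod 17)) = ((11 : ZMod 17) : OnePoint (ZMod 17)) := by
  rw [slPerm_coe]
  have h : A9.1 1 0 * 0 + A9.1 1 1 ≠ 0 := by decide +kernel
  rw [if_neg h]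
  congr 1
  decide +kernel

variable {X : Type*} [Group X] [Finite X] {m : ℕ} {ρ : X →* Equiv.Perm (OnePoint (ZMod 17))}

theorem X_syl3 (hρ : Function.Injective ρ) (hA : AffAct m ρ) (hcard : Nat.card X = 17 * (18 * m))
    (hm : m = 8 ∨ m = 16) (hw : slPerm (ZMod 17) A9 ∈ ρ.range) (hb : Nat.card (Sylow 3 X) ≤ 136) :
    Nat.card (Sylow 3 X) = 136 := by
  haveI : Fact (Nat.Prime 3) := ⟨by norm_num⟩
  obtain ⟨w, hw⟩ := hw
  -- the order of `w`
  have hw9 : w ^ 3 ^ (1 + 1) = 1 := by
    apply hρ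
    rw [map_pow, map_one, hw, ← map_pow]
    exact (MonoidHom.mem_ker).1 (by
      show A9 ^ 3 ^ (1 + 1) ∈ (slPerm (ZMod 17)).ker
      rw [slPerm_ker]
      exact A9_pow9)
  have hw3 : ¬ w ^ 3 ^ 1 = 1 := by
    intro h
    have h1 : ρ (w ^ 3 ^ 1) = 1 := by rw [h, map_one]
    rw [map_pow, hw, ← map_pow] at h1
    apply A9_pow3
    rw [← slPerm_ker]
    exact (MonoidHom.mem_ker).2 h1
  have ho : orderOf w = 3 ^ (1 + 1) := orderOf_eq_prime_pow hw3 hw9
  have ho9 : orderOf w = 9 := by rw [ho]; norm_num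
  have hw0 : ρ w ∞ = ((0 : ZMod 17) : OnePoint (ZMod 17)) := by rw [hw]; exact A9_inf
  have hw1 : ρ w ((0 : ZMod 17) : OnePoint (ZMod 17)) = ((11 : ZMod 17) : OnePoint (ZMod 17)) := by rw [hw]; exact A9_zero
  -- the Sylow subgroup
  have hf : (Nat.card X).factorization 3 = 2 := by
    rcases hm with rfl | rfl
    · rw [hcard]
      have e : (17 * (18 * 8) : ℕ) = 3 ^ 2 * 272 := by norm_num
      rw [e, Nat.factorization_mul (by norm_num) (by norm_num), Nat.Prime.factorization_pow (by norm_num)]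
      simp [Nat.factorization_eq_zero_of_not_dvd (show ¬ 3 ∣ 272 by norm_num)]
    · rw [hcard]
      have e : (17 * (18 * 16) : ℕ) = 3 ^ 2 * 544 := by norm_num
      rw [e, Nat.factorization_mul (by norm_num) (by norm_num), Nat.Prime.factorization_pow (by norm_num)]
      simp [Nat.factorization_eq_zero_of_not_dvd (show ¬ 3 ∣ 544 by norm_num)]
  let T : Sylow 3 X := Sylow.ofCard (Subgroup.zpowers w) (by rw [Nat.card_zpowers, ho, hf])
  have hTe : (T : Subgroup X) = Subgroup.zpowers w := rfl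
  set S : Subgroup X := Subgroup.zpowers w with hS
  have hScard : Nat.card S = 9 := by rw [hS, Nat.card_zpowers, ho9]
  -- the centralizer
  set C : Subgroup X := Subgroup.centralizer (S : Set X) with hC
  have hCw : ∀ g ∈ C, g * w = w * g := by
    intro g hg
    exact ((Subgroup.mem_centralizer_iff.mp hg) w (Subgroup.mem_zpowers w)).symm
  have hCle : Nat.card C ≤ 18 := by
    have hinj : Function.Injective (fun g : C => ρ (g : X) ∞) := by
      intro a b hab
      have hab' : ρ (a : X) ∞ = ρ (b : X) ∞ := hab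
      set h : X := (a : X)⁻¹ * b with hh
      have hhC : h ∈ C := C.mul_mem (C.inv_mem a.2) b.2
      have hcw := hCw h hhC
      have h1 : ρ h ∞ = ∞ := by
        rw [hh, map_mul, Equiv.Perm.mul_apply, ← hab', map_inv, Equiv.Perm.inv_eq_iff_eq]
      have hact : ∀ x, ρ h (ρ w x) = ρ w (ρ h x) := by
        intro x
        have := congrArg (fun f => (ρ f) x) hcw
        simpa only [map_mul, Equiv.Perm.mul_apply] using this
      have h2 : ρ h ((0 : ZMod 17) : OnePoint (ZMod 17)) = ((0 : ZMod 17) : OnePoint (ZMod 17)) := by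
        rw [← hw0, hact, h1]
      have h3 : ρ h ((11 : ZMod 17) : OnePoint (ZMod 17)) = ((11 : ZMod 17) : OnePoint (ZMod 17)) := by
        rw [← hw1, hact, h2]
      have h4 := fix3 hρ hA h h1 h2 11 (by decide +kernel) h3
      apply Subtype.ext
      have h5 : (a : X)⁻¹ * b = 1 := h4
      exact (inv_mul_eq_one.mp h5)
    have h1 := Nat.card_le_card_of_injective _ hinj
    rwa [card_onePoint] at h1
  have hSC : S ≤ C := by
    intro x hx
    rw [hC, Subgroup.mem_centralizer_iff]
    intro y hy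
    obtain ⟨k, rfl⟩ := Subgroup.mem_zpowers_iff.mp hx
    obtain ⟨l, rfl⟩ := Subgroup.mem_zpowers_iff.mp hy
    exact (Commute.zpow_zpow_self w l k).eq
  have h9C : 9 ∣ Nat.card C := by
    rw [← hScard]
    exact Subgroup.card_dvd_of_le hSC
  have hC18 : Nat.card C ∣ 18 := by
    obtain ⟨k, hk⟩ := h9C
    have hk2 : k ≤ 2 := by omega
    have hpos : 0 < Nat.card C := Nat.card_pos
    interval_cases k
    · omega
    · exact ⟨2, by omega⟩
    · exact ⟨1, by omega⟩
  -- the normalizer
  set N : Subgroup X := Subgroup.normalizer (S : Set X) with hN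
  have hCN : C ≤ N := Subgroup.centralizer_le_normalizer _
  have hN108 : Nat.card N ∣ 108 := by
    have key := Subgroup.card_dvd_of_injective _ (QuotientGroup.kerLift_injective S.normalizerMonoidHom)
    haveI : IsCyclic S := Subgroup.isCyclic_zpowers w
    rw [IsCyclic.card_mulAut, hScard] at key
    have h9 : Nat.totient 9 = 6 := by decide
    rw [h9] at key
    have hkc : Nat.card S.normalizerMonoidHom.ker = Nat.card C := by
      rw [Subgroup.normalizerMonoidHom_ker]
      exact Nat.card_congr (Subgroup.subgroupOfEquivOfLe hCN).toEquiv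
    have h1 := Subgroup.card_eq_card_quotient_mul_card_subgroup S.normalizerMonoidHom.ker
    rw [hkc] at h1
    show Nat.card (Subgroup.normalizer (S : Set X)) ∣ 108
    rw [h1]
    have e : (108 : ℕ) = 6 * 18 := by norm_num
    rw [e]
    exact Nat.mul_dvd_mul key hC18
  -- the count
  have hidx : Nat.card (Sylow 3 X) = N.index := by
    rw [Sylow.card_eq_index_normalizer T]
    rfl
  have hmul := N.card_mul_index
  rw [← hidx, hcard] at hmul
  have hmod := card_sylow_modEq_one 3 X
  rw [Nat.ModEq] at hmod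
  have hle := Nat.le_of_dvd (by norm_num) hN108
  generalize Nat.card N = k at hN108 hmul hle
  generalize Nat.card (Sylow 3 X) = n at hmul hmod hb ⊢
  rcases hm with rfl | rfl
  · interval_cases k <;> omega
  · interval_cases k <;> omega

end Cfsg.Agent.H17.Mob17
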